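import Cfsg.Agent.SzSq70.Facts
import Cfsg.Agent.KnownSimple.OutSuzuki.Main

/-!
# Groups over one or two Suzuki groups: piece H (outer automorphisms)
-/

set_option autoImplicit false
set_option linter.style.haveILetI false

namespace Cfsg.Agent.SzSq70

open Subgroup
open Cfsg.Agent.KnownSimple

universe u

section basics

variable {X : Type u} [Group X]

theorem outer_mem_normalizer_of_map {M : Subgroup X} {x : X}
    (h : M.map (MulAut.conj x).toMonoidHom = M) : x ∈ normalizer (M : Set X) := by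
  refine mem_normalizer_iff.mpr fun y => ⟨fun hy => h ▸ mem_map_of_mem _ hy, fun hy => ?_⟩
  obtain ⟨z, hz, hzy⟩ := h.symm ▸ hy
  exact (MulEquiv.injective (MulAut.conj x) hzy) ▸ hz

/-- Conjugation by an element of the normaliser, as an automorphism. -/
def outerConj (M : Subgroup X) (x : X) (hx : x ∈ normalizer (M : Set X)) : MulAut M where
  toFun y := ⟨x * y * x⁻¹, (mem_normalizer_iff.mp hx y).mp y.2⟩
  invFun y := ⟨x⁻¹ * y * x, (mem_normalizer_iff''.mp hx y).mp y.2⟩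
  left_inv y := Subtype.ext (by simp [mul_assoc])
  right_inv y := Subtype.ext (by simp [mul_assoc])
  map_mul' y z := Subtype.ext (by simp [mul_assoc])

theorem outerConj_pow (M : Subgroup X) (x : X) (hx : x ∈ normalizer (M : Set X)) (L : ℕ) (y : M) :
    (((outerConj M x hx) ^ L) y : X) = x ^ L * y * (x ^ L)⁻¹ := by
  induction L generalizing y with
  | zero => simp
  | succ L ih =>
    rw [pow_succ, MulAut.mul_apply, ih, pow_succ, mul_inv_rev]
    show x ^ L * (x * y * x⁻¹) * (x ^ L)⁻¹ = _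
    group

/-- The power `k` of every automorphism is inner. -/
theorem IsSz.pow_mem_inn {M : Type u} [Group M] {k : ℕ} (h : IsSz M k) (α : MulAut M) :
    ∃ c : M, ∀ y, (α ^ k) y = c * y * c⁻¹ := by
  obtain ⟨F, _, _, m, hm, rfl, hF, ⟨e⟩⟩ := h.exists_model
  have hβ : ((MulAut.congr e).symm α) ^ (2 * m + 1) ∈ Cfsg.Inn (Cfsg.Sz F m) := by
    have hi : (Cfsg.Inn (Cfsg.Sz F m)).index = 2 * m + 1 := OutSz.card_out hF hm
    exact hi ▸ pow_index_mem (Cfsg.Inn (Cfsg.Sz F m)) _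
  obtain ⟨g, hg⟩ := hβ
  refine ⟨e g, fun y => ?_⟩
  have hα : α ^ (2 * m + 1) = MulAut.congr e (MulAut.conj g) := by
    rw [hg, map_pow, MulEquiv.apply_symm_apply]
  rw [hα]
  show e (g * e.symm y * g⁻¹) = _
  simp

/-- Powers of a normalising element act as inner automorphisms. -/
theorem outer_pow_inner {M : Subgroup X} {k L : ℕ} (h : IsSz M k) (hd : k ∣ L) {x : X}
    (hx : x ∈ normalizer (M : Set X)) :
    ∃ c ∈ M, ∀ y ∈ M, x ^ L * y * (x ^ L)⁻¹ = c * y * c⁻¹ := by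
  obtain ⟨d, rfl⟩ := hd
  obtain ⟨c, hc⟩ := h.pow_mem_inn ((outerConj M x hx) ^ d)
  refine ⟨c, c.2, fun y hy => ?_⟩
  have h' := congrArg Subtype.val (hc ⟨y, hy⟩)
  rw [← pow_mul, mul_comm d k, outerConj_pow] at h'
  exact h'

/-- Every element has its `k`-th power in the Suzuki group. -/
theorem pow_mem_one [Finite X] (M : Subgroup X) [M.Normal] {k : ℕ} (hM : IsSz M k)
    (hc : centralizer (M : Set X) = ⊥) (x : X) : x ^ k ∈ M := by
  obtain ⟨c, hcM, hc'⟩ := outer_pow_inner hM dvd_rfl (normalizer_eq_top (H := M) ▸ mem_top x)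
  have h1 : c⁻¹ * x ^ k ∈ centralizer (M : Set X) := by
    refine mem_centralizer_iff.mpr fun y hy => ?_
    have h2 := hc' y hy
    rw [mul_inv_eq_iff_eq_mul] at h2
    rw [mul_assoc c⁻¹, h2]
    group
  rw [hc, mem_bot, inv_mul_eq_one] at h1
  exact h1 ▸ hcM

theorem outer_eq_one_of_centralises {M₁ M₂ : Subgroup X} (hT : TwoTop M₁ M₂) {x : X}
    (h₁ : ∀ y ∈ M₁, Commute x y) (h₂ : ∀ y ∈ M₂, Commute x y) : x = 1 := by
  have h : M₁ ⊔ M₂ ≤ centralizer {x} :=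
    sup_le (fun y hy => mem_centralizer_singleton_iff.mpr (h₁ y hy).eq.symm)
      (fun y hy => mem_centralizer_singleton_iff.mpr (h₂ y hy).eq.symm)
  have hx : x ∈ centralizer ((M₁ ⊔ M₂ : Subgroup X) : Set X) :=
    mem_centralizer_iff.mpr fun y hy => mem_centralizer_singleton_iff.mp (h hy)
  rwa [hT.cent, mem_bot] at hx

/-- An element normalising both factors has its power in the product. -/
theorem outer_pow_mem_of_normalizes {M₁ M₂ : Subgroup X} {k₁ k₂ : ℕ} (hT : TwoTop M₁ M₂)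
    (h₁ : IsSz M₁ k₁) (h₂ : IsSz M₂ k₂) {x : X} (hx₁ : x ∈ normalizer (M₁ : Set X))
    (hx₂ : x ∈ normalizer (M₂ : Set X)) : x ^ Nat.lcm k₁ k₂ ∈ M₁ ⊔ M₂ := by
  obtain ⟨a, ha, ha'⟩ := outer_pow_inner h₁ (Nat.dvd_lcm_left k₁ k₂) hx₁
  obtain ⟨b, hb, hb'⟩ := outer_pow_inner h₂ (Nat.dvd_lcm_right k₁ k₂) hx₂
  have h : (a * b)⁻¹ * x ^ Nat.lcm k₁ k₂ = 1 := by
    refine outer_eq_one_of_centralises hT (fun y hy => ?_) fun y hy => ?_
    · have h2 := ha' y hy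
      rw [mul_inv_eq_iff_eq_mul] at h2
      have hby : b⁻¹ * y = y * b⁻¹ := (hT.comm y hy b⁻¹ (inv_mem hb)).eq.symm
      show (a * b)⁻¹ * x ^ _ * y = y * ((a * b)⁻¹ * x ^ _)
      calc (a * b)⁻¹ * x ^ Nat.lcm k₁ k₂ * y
          = b⁻¹ * (a⁻¹ * (x ^ Nat.lcm k₁ k₂ * y)) := by group
        _ = b⁻¹ * y * (a⁻¹ * x ^ Nat.lcm k₁ k₂) := by rw [h2]; group
        _ = y * ((a * b)⁻¹ * x ^ Nat.lcm k₁ k₂) := by rw [hby]; group
    · have h2 := hb' y hy
      rw [mul_inv_eq_iff_eq_mul] at h2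
      have hab : a * b = b * a := (hT.comm a ha b hb).eq
      have hay : a⁻¹ * y = y * a⁻¹ := (hT.comm a⁻¹ (inv_mem ha) y hy).eq
      show (a * b)⁻¹ * x ^ _ * y = y * ((a * b)⁻¹ * x ^ _)
      rw [hab]
      calc (b * a)⁻¹ * x ^ Nat.lcm k₁ k₂ * y
          = a⁻¹ * (b⁻¹ * (x ^ Nat.lcm k₁ k₂ * y)) := by group
        _ = a⁻¹ * y * (b⁻¹ * x ^ Nat.lcm k₁ k₂) := by rw [h2]; group
        _ = y * ((b * a)⁻¹ * x ^ Nat.lcm k₁ k₂) := by rw [hay]; group
  rw [inv_mul_eq_one] at h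
  exact h ▸ mul_mem (mem_sup_left ha) (mem_sup_right hb)

theorem outer_map_sq {A B : Subgroup X} {x : X} (h₁ : A.map (MulAut.conj x).toMonoidHom = B)
    (h₂ : B.map (MulAut.conj x).toMonoidHom = A) : x ^ 2 ∈ normalizer (A : Set X) := by
  refine outer_mem_normalizer_of_map ?_
  conv_rhs => rw [← h₂, ← h₁, map_map]
  congr 1
  ext y
  simp [pow_two, mul_assoc]

theorem outer_sq_normalizes {M₁ M₂ : Subgroup X} (hT : TwoTop M₁ M₂) (x : X) :
    x ^ 2 ∈ normalizer (M₁ : Set X) ∧ x ^ 2 ∈ normalizer (M₂ : Set X) := by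
  rcases hT.perm x with ⟨h₁, h₂⟩ | ⟨h₁, h₂⟩
  · exact ⟨pow_mem (outer_mem_normalizer_of_map h₁) 2, pow_mem (outer_mem_normalizer_of_map h₂) 2⟩
  · exact ⟨outer_map_sq h₁ h₂, outer_map_sq h₂ h₁⟩

/-- The power twice the least common multiple lies in the product. -/
theorem pow_mem_two {M₁ M₂ : Subgroup X} {k₁ k₂ : ℕ} (hT : TwoTop M₁ M₂)
    (h₁ : IsSz M₁ k₁) (h₂ : IsSz M₂ k₂) (x : X) : x ^ (2 * Nat.lcm k₁ k₂) ∈ M₁ ⊔ M₂ := by
  rw [pow_mul]
  exact outer_pow_mem_of_normalizes hT h₁ h₂ (outer_sq_normalizes hT x).1 (outer_sq_normalizes hT x).2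

theorem pow_mem_two_odd {M₁ M₂ : Subgroup X} {k₁ k₂ : ℕ} (hT : TwoTop M₁ M₂)
    (h₁ : IsSz M₁ k₁) (h₂ : IsSz M₂ k₂) {x : X} (hx : Odd (orderOf x)) :
    x ^ Nat.lcm k₁ k₂ ∈ M₁ ⊔ M₂ := by
  obtain ⟨r, hr⟩ := hx
  have hxr : x = (x ^ 2) ^ (r + 1) := by
    rw [← pow_mul, show 2 * (r + 1) = orderOf x + 1 by omega, pow_succ, pow_orderOf_eq_one, one_mul]
  refine outer_pow_mem_of_normalizes hT h₁ h₂ ?_ ?_ <;> rw [hxr]
  · exact pow_mem (outer_sq_normalizes hT x).1 _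
  · exact pow_mem (outer_sq_normalizes hT x).2 _

theorem outer_card_lt {a b : ℕ} (h : a < b) :
    (2 ^ a) ^ 2 * ((2 ^ a) ^ 2 + 1) * (2 ^ a - 1) < (2 ^ b) ^ 2 * ((2 ^ b) ^ 2 + 1) * (2 ^ b - 1) := by
  have hlt : 2 ^ a < 2 ^ b := Nat.pow_lt_pow_right (by norm_num) h
  have h1 : 1 ≤ 2 ^ a := Nat.one_le_two_pow
  have hsq : (2 ^ a) ^ 2 < (2 ^ b) ^ 2 := Nat.pow_lt_pow_left hlt (by norm_num)
  exact Nat.mul_lt_mul_of_lt_of_le (Nat.mul_lt_mul'' hsq (by omega)) (by omega) (by omega)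

theorem pow_mem_two_ne {M₁ M₂ : Subgroup X} {k₁ k₂ : ℕ} (hT : TwoTop M₁ M₂)
    (h₁ : IsSz M₁ k₁) (h₂ : IsSz M₂ k₂) (hne : k₁ ≠ k₂) (x : X) :
    x ^ Nat.lcm k₁ k₂ ∈ M₁ ⊔ M₂ := by
  rcases hT.perm x with ⟨e₁, e₂⟩ | ⟨e₁, -⟩
  · exact outer_pow_mem_of_normalizes hT h₁ h₂ (outer_mem_normalizer_of_map e₁)
      (outer_mem_normalizer_of_map e₂)
  · exfalso
    have hcard : Nat.card M₂ = Nat.card M₁ := by
      rw [← e₁, card_map_of_injective (MulEquiv.injective _)]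
    rw [h₁.card, h₂.card] at hcard
    rcases lt_or_gt_of_ne hne with h | h
    · exact (outer_card_lt h).ne hcard.symm
    · exact (outer_card_lt h).ne hcard

end basics

section model

variable {F : Type} [Field F] [Fintype F] {m : ℕ}

theorem outer_orderOf_five (hF : Fintype.card F = 2 ^ (2 * m + 1)) :
    orderOf (Suzuki.W hF * Suzuki.U hF 0 1 : Cfsg.Sz F m) = 5 := by
  haveI : CharP F 2 := (CharP.charP_iff_prime_eq_zero Nat.prime_two).mpr
    (by exact_mod_cast Suzuki.two_eq_zero hF)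
  haveI : Fact (Nat.Prime 5) := ⟨by norm_num⟩
  let φ : ZMod 2 →+* F := ZMod.castHom dvd_rfl F
  let M₀ : Matrix (Fin 4) (Fin 4) (ZMod 2) :=
    !![0, 0, 0, 1; 0, 0, 1, 0; 0, 1, 0, 0; 1, 0, 0, 0] *
      !![1, 0, 1, 1; 0, 1, 0, 1; 0, 0, 1, 0; 0, 0, 0, 1]
  have hM₀ : M₀ ^ 5 = 1 := by decide
  have hM₁ : M₀ ≠ 1 := by decide
  have hmap : ((((Suzuki.W hF * Suzuki.U hF 0 1 : Cfsg.Sz F m) :
      Matrix.SpecialLinearGroup (Fin 4) F)) : Matrix (Fin 4) (Fin 4) F) = φ.mapMatrix M₀ := by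
    rw [map_mul]
    show (Suzuki.wel F : Matrix (Fin 4) (Fin 4) F) * Suzuki.umat m 0 1 = _
    congr 1 <;> (ext i j; fin_cases i <;> fin_cases j <;>
      simp [Suzuki.wel, Suzuki.umat, Suzuki.fz, Suzuki.sig])
  refine orderOf_eq_prime (Subtype.ext (Subtype.ext ?_)) fun h => hM₁ ?_
  · rw [SubgroupClass.coe_pow, Matrix.SpecialLinearGroup.coe_pow, hmap, ← map_pow, hM₀, map_one]
    rfl
  · refine Matrix.map_injective φ.injective ?_
    show φ.mapMatrix M₀ = φ.mapMatrix 1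
    rw [← hmap, h, map_one]
    rfl

theorem outer_orderOf_W (hF : Fintype.card F = 2 ^ (2 * m + 1)) :
    orderOf (Suzuki.W hF : Cfsg.Sz F m) = 2 := by
  refine orderOf_eq_prime (by rw [pow_two, Suzuki.W_mul_W]) fun h => ?_
  have := congrArg (fun g : Cfsg.Sz F m =>
    ((g : Matrix.SpecialLinearGroup (Fin 4) F) : Matrix (Fin 4) (Fin 4) F) 0 0) h
  simp [Suzuki.W, Suzuki.wel] at this

/-- An automorphism of the field of prime order fixes more than the prime field. -/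
theorem outer_exists_fixed (hF : Fintype.card F = 2 ^ (2 * m + 1)) (hm : 1 ≤ m) {ρ : ℕ}
    (hρ : ρ.Prime) (hne : 2 * m + 1 ≠ ρ) {τ : F ≃+* F} (hτ : τ ^ ρ = 1) :
    ∃ k : F, k ≠ 0 ∧ k ≠ 1 ∧ τ k = k := by
  classical
  haveI := Fact.mk hρ
  by_cases hτ1 : τ = 1
  · obtain ⟨k, h0, h1⟩ := Suzuki.exists_ne_zero_one hF hm
    exact ⟨k, h0, h1, by rw [hτ1]; rfl⟩
  have hord := orderOf_eq_prime hτ hτ1
  let T := Subgroup.zpowers τ
  haveI : Finite T := Nat.finite_of_card_ne_zero (by rw [Nat.card_zpowers, hord]; exact hρ.ne_zero)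
  let K := FixedPoints.subfield T F
  haveI : Fintype K := Fintype.ofFinite K
  have hrank : Module.finrank K F = ρ := by
    haveI : Fintype T := Fintype.ofFinite T
    rw [FixedPoints.finrank_eq_card T F, ← Nat.card_eq_fintype_card, Nat.card_zpowers, hord]
  have hcard : Fintype.card F = Fintype.card K ^ ρ := by
    rw [← hrank]; exact Module.card_eq_pow_finrank
  by_contra hc
  push Not at hc
  have hK : Fintype.card K ≤ 2 := by
    have hsub : ∀ x : K, x = 0 ∨ x = 1 := fun x => by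
      by_cases h0 : (x : F) = 0
      · exact Or.inl (Subtype.ext h0)
      by_cases h1 : (x : F) = 1
      · exact Or.inr (Subtype.ext h1)
      exact absurd (x.2 ⟨τ, Subgroup.mem_zpowers τ⟩) (hc x h0 h1)
    calc Fintype.card K = (Finset.univ : Finset K).card := rfl
      _ ≤ ({0, 1} : Finset K).card := Finset.card_le_card fun x _ => by simpa using hsub x
      _ ≤ 2 := Finset.card_le_two
  have hK1 : 1 < Fintype.card K := Fintype.one_lt_card
  rw [hF, show Fintype.card K = 2 by omega] at hcard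
  exact hne (Nat.pow_right_injective le_rfl hcard)

theorem outer_pow_card_units (hF : Fintype.card F = 2 ^ (2 * m + 1)) (k : Fˣ) :
    (Suzuki.T hF k : Cfsg.Sz F m) ^ num (2 * m + 1) 1 = 1 := by
  classical
  rw [num_one, ← hF]
  show Suzuki.THom hF k ^ _ = 1
  rw [← map_pow, ← Fintype.card_units, pow_card_eq_one, map_one]

end model

section action

variable {X : Type u} [Group X]

/-- After an inner correction an element acts as a field automorphism, and we record the fixed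
elements that are used. -/
theorem outer_correct {M : Subgroup X} {n : ℕ} (h : IsSz M n) {ρ : ℕ} (hρ : ρ.Prime) {x : X}
    (hx : x ∈ normalizer (M : Set X))
    (hin : ∃ c ∈ M, ∀ y ∈ M, x ^ ρ * y * (x ^ ρ)⁻¹ = c * y * c⁻¹) :
    ∃ g ∈ M,
      (∀ y ∈ M, (g⁻¹ * x) ^ ρ * y = y * (g⁻¹ * x) ^ ρ) ∧
      (∃ t ∈ M, orderOf t = 2 ∧ Commute (g⁻¹ * x) t) ∧
      (∃ s ∈ M, orderOf s = 5 ∧ Commute (g⁻¹ * x) s) ∧
      (n ≠ ρ → ∃ w ∈ M, w ≠ 1 ∧ w ^ num n 1 = 1 ∧ Commute (g⁻¹ * x) w) := by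
  obtain ⟨F, _, _, m, hm, rfl, hF, ⟨e⟩⟩ := h.exists_model
  set α := outerConj M x hx with hα
  set β := (MulAut.congr e).symm α with hβ
  obtain ⟨g, τ, hg⟩ := OutSz.exists_eq hF hm β
  set f := OutSz.fAut hF hm τ with hf
  have hτ : τ ^ ρ = 1 := by
    obtain ⟨c, hc, hc'⟩ := hin
    have h1 : β ^ ρ = MulAut.conj (e.symm ⟨c, hc⟩) := by
      rw [hβ, ← map_pow]
      refine MulEquiv.ext fun y => ?_
      show e.symm ((α ^ ρ) (e y)) = e.symm ⟨c, hc⟩ * y * (e.symm ⟨c, hc⟩)⁻¹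
      have h2 : (α ^ ρ) (e y) = ⟨c, hc⟩ * e y * ⟨c, hc⟩⁻¹ := Subtype.ext (by
        rw [hα, outerConj_pow]
        exact hc' _ (e y).2)
      rw [h2]
      simp
    have h3 : (f : MulAut (Cfsg.Sz F m)) ^ ρ ∈ Cfsg.Inn (Cfsg.Sz F m) := by
      rw [← QuotientGroup.eq_one_iff, QuotientGroup.mk_pow]
      have h4 : ((β : MulAut (Cfsg.Sz F m)) : Cfsg.Out (Cfsg.Sz F m)) = f := by
        rw [hg, QuotientGroup.mk_mul, (QuotientGroup.eq_one_iff _).mpr (show MulAut.conj g ∈ Cfsg.Inn _ from ⟨g, rfl⟩), one_mul]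
      rw [← h4, ← QuotientGroup.mk_pow, QuotientGroup.eq_one_iff, h1]
      exact ⟨_, rfl⟩
    obtain ⟨d, hd⟩ := h3
    exact OutSz.eq_one_of_inner hF hm _ d (by rw [hd, hf, map_pow])
  have hact : ∀ y : Cfsg.Sz F m,
      ((e g : M) : X)⁻¹ * x * (e y : M) * (((e g : M) : X)⁻¹ * x)⁻¹ = (e (f y) : M) := by
    intro y
    have h5 : α (e y) = e g * e (f y) * (e g)⁻¹ := by
      have h6 : β y = g * f y * g⁻¹ := by rw [hg]; rfl
      rw [hβ] at h6
      have h7 : e.symm (α (e y)) = g * f y * g⁻¹ := h6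
      rw [MulEquiv.symm_apply_eq] at h7
      rw [h7, map_mul, map_mul, map_inv]
    have h8 : x * (e y : M) * x⁻¹ = ((e g : M) : X) * (e (f y) : M) * ((e g : M) : X)⁻¹ :=
      congrArg Subtype.val h5
    calc ((e g : M) : X)⁻¹ * x * (e y : M) * (((e g : M) : X)⁻¹ * x)⁻¹
        = ((e g : M) : X)⁻¹ * (x * (e y : M) * x⁻¹) * ((e g : M) : X) := by group
      _ = (e (f y) : M) := by rw [h8]; group
  have hpow : ∀ (L : ℕ) (y : Cfsg.Sz F m),
      (((e g : M) : X)⁻¹ * x) ^ L * (e y : M) * ((((e g : M) : X)⁻¹ * x) ^ L)⁻¹ =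
        (e ((f ^ L) y) : M) := by
    intro L
    induction L with
    | zero => intro y; simp
    | succ L ih =>
      intro y
      rw [pow_succ, pow_succ, MulAut.mul_apply, ← ih, ← hact]
      group
  have hfix : ∀ y : Cfsg.Sz F m, f y = y → Commute (((e g : M) : X)⁻¹ * x) (e y : M) := by
    intro y hy
    have := hact y
    rw [hy, mul_inv_eq_iff_eq_mul] at this
    exact this
  have hord : ∀ y : Cfsg.Sz F m, orderOf ((e y : M) : X) = orderOf y := fun y => by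
    rw [Subgroup.orderOf_coe, MulEquiv.orderOf_eq]
  have hW : f (Suzuki.W hF) = Suzuki.W hF := Subtype.ext (OutSz.map_W hF τ)
  refine ⟨(e g : M), SetLike.coe_mem _, fun y hy => ?_,
    ⟨(e (Suzuki.W hF) : M), SetLike.coe_mem _, (hord _).trans (outer_orderOf_W hF), hfix _ hW⟩,
    ⟨(e (Suzuki.W hF * Suzuki.U hF 0 1) : M), SetLike.coe_mem _,
      (hord _).trans (outer_orderOf_five hF), hfix _ ?_⟩, fun hn => ?_⟩
  · obtain ⟨z, hz⟩ := e.surjective ⟨y, hy⟩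
    have := hpow ρ z
    rw [hz, hf, ← map_pow, hτ, map_one, MulAut.one_apply, hz, mul_inv_eq_iff_eq_mul] at this
    exact this
  · rw [map_mul, hW, OutSz.fAut_U, map_zero, map_one]
  · obtain ⟨k, h0, h1, hk⟩ := outer_exists_fixed hF hm hρ hn hτ
    refine ⟨(e (Suzuki.T hF (Units.mk0 k h0)) : M), SetLike.coe_mem _, ?_, ?_, hfix _ ?_⟩
    · intro hone
      have h9 : Suzuki.T hF (Units.mk0 k h0) = Suzuki.T hF 1 := by
        rw [Suzuki.T_one]
        exact e.injective (by rw [map_one]; exact Subtype.ext hone)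
      exact h1 (congrArg Units.val (Suzuki.T_inj hF h9))
    · rw [← SubgroupClass.coe_pow, ← map_pow, outer_pow_card_units, map_one]
      rfl
    · rw [OutSz.fAut_T]
      exact congrArg _ (Units.ext hk)

variable [Finite X] {n : ℕ}

/-- No element exchanges two Suzuki groups over the large field. -/
theorem outer_no_swap (hn : Odd n) (h3 : 3 ≤ n) (hS : Small X n) {M₁ M₂ : Subgroup X}
    (hT : TwoTop M₁ M₂) (h₁ : IsSz M₁ n) (h₂ : IsSz M₂ n) (x : X) :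
    M₁.map (MulAut.conj x).toMonoidHom = M₁ ∧ M₂.map (MulAut.conj x).toMonoidHom = M₂ := by
  rcases hT.perm x with h | ⟨e₁, e₂⟩
  · exact h
  exfalso
  -- the power `x ^ n` still exchanges
  set g := x ^ n with hg
  have hgg : g * g ∈ M₁ ⊔ M₂ := by
    have := pow_mem_two hT h₁ h₂ x
    rwa [Nat.lcm_self, mul_comm, pow_mul, pow_two] at this
  have hne : M₁ ≠ M₂ := by
    intro h
    obtain ⟨a, b, hab⟩ := (szFacts h₁).noncomm
    exact hab (Subtype.ext (hT.comm a a.2 b (h ▸ b.2)).eq)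
  have hgswap : M₁.map (MulAut.conj g).toMonoidHom = M₂ ∧
      M₂.map (MulAut.conj g).toMonoidHom = M₁ := by
    rcases hT.perm g with ⟨f₁, -⟩ | h
    · exfalso
      obtain ⟨r, hr⟩ := hn
      have hx : x ∈ normalizer (M₁ : Set X) := by
        have h1 := mul_mem (inv_mem (pow_mem (outer_map_sq e₁ e₂) r))
          (outer_mem_normalizer_of_map f₁)
        rw [hg, hr] at h1
        rwa [show x ^ (2 * r + 1) = (x ^ 2) ^ r * x by rw [pow_succ, pow_mul], inv_mul_cancel_left]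
          at h1
      refine hne (e₁ ▸ le_antisymm ?_ ?_)
      · intro y hy
        exact ⟨x⁻¹ * y * x, (mem_normalizer_iff''.mp hx y).mp hy, by simp [mul_assoc]⟩
      · rintro _ ⟨y, hy, rfl⟩
        exact (mem_normalizer_iff.mp hx y).mp hy
    · exact h
  have hm1 : ∀ y ∈ M₁, g * y * g⁻¹ ∈ M₂ := fun y hy =>
    hgswap.1 ▸ mem_map_of_mem (MulAut.conj g).toMonoidHom hy
  have hm2 : ∀ y ∈ M₂, g * y * g⁻¹ ∈ M₁ := fun y hy =>
    hgswap.2 ▸ mem_map_of_mem (MulAut.conj g).toMonoidHom hy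
  have hr := MonoidHom.noncommCoprod_range M₁.subtype M₂.subtype fun a b => hT.comm a a.2 b b.2
  rw [Subgroup.range_subtype, Subgroup.range_subtype] at hr
  rw [← hr] at hgg
  obtain ⟨⟨⟨a, ha⟩, ⟨b, hb⟩⟩, hab⟩ := hgg
  replace hab : a * b = g * g := hab
  -- conjugation by `g` exchanges the components
  have hb' : g * a * g⁻¹ = b := by
    have h1 : (g * a * g⁻¹) * (g * b * g⁻¹) = a * b := by
      rw [show g * a * g⁻¹ * (g * b * g⁻¹) = g * (a * b) * g⁻¹ by group, hab]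
      group
    rw [(hT.comm (g * b * g⁻¹) (hm2 b hb) (g * a * g⁻¹) (hm1 a ha)).eq.symm] at h1
    have h2 : a⁻¹ * (g * b * g⁻¹) = b * (g * a * g⁻¹)⁻¹ := by
      calc a⁻¹ * (g * b * g⁻¹)
          = a⁻¹ * ((g * b * g⁻¹) * (g * a * g⁻¹)) * (g * a * g⁻¹)⁻¹ := by group
        _ = b * (g * a * g⁻¹)⁻¹ := by rw [h1]; group
    have h3 : b * (g * a * g⁻¹)⁻¹ ∈ M₁ ⊓ M₂ :=
      mem_inf.mpr ⟨h2 ▸ mul_mem (inv_mem ha) (hm2 b hb), mul_mem hb (inv_mem (hm1 a ha))⟩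
    rw [hT.inf_eq, mem_bot, mul_inv_eq_one] at h3
    exact h3.symm
  obtain ⟨⟨v, hv⟩, hvo⟩ := (szFacts h₁).exists_order 0
  rw [num_zero, Subgroup.orderOf_mk] at hvo
  set c := a⁻¹ * v with hc
  have hcM : c ∈ M₁ := mul_mem (inv_mem ha) hv
  set w := b⁻¹ * (g * v * g⁻¹) * b with hw
  have hwM : w ∈ M₂ := mul_mem (mul_mem (inv_mem hb) (hm1 v hv)) hb
  have hwo : orderOf w = 4 := by
    have : w = MulAut.conj (b⁻¹ * g) v := by
      rw [MulAut.conj_apply, hw]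
      group
    rw [this, MulEquiv.orderOf_eq, hvo]
  have hsq : (g * c) ^ 2 = v * w := by
    calc (g * c) ^ 2 = g * c * g⁻¹ * (g * g) * c := by rw [pow_two]; group
      _ = g * c * g⁻¹ * a * (b * c) := by rw [← hab]; group
      _ = a * (g * c * g⁻¹) * (c * b) := by
        rw [(hT.comm a ha _ (hm1 c hcM)).eq, (hT.comm c hcM b hb).eq]
      _ = a * ((g * c * g⁻¹) * c) * b := by group
      _ = a * (c * (g * c * g⁻¹)) * b := by rw [(hT.comm c hcM _ (hm1 c hcM)).eq]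
      _ = v * w := by rw [hw, ← hb', hc]; group
  have hcomm : Commute v w := hT.comm v hv w hwM
  have h8 : orderOf (g * c) = 2 ^ (2 + 1) := by
    haveI : Fact (Nat.Prime 2) := ⟨Nat.prime_two⟩
    refine orderOf_eq_prime_pow ?_ ?_
    · intro h
      have h4 : v ^ 2 * w ^ 2 = 1 := by
        rw [← hcomm.mul_pow, ← hsq, ← pow_mul]
        exact h
      have h5 : v ^ 2 ∈ M₁ ⊓ M₂ := mem_inf.mpr ⟨pow_mem hv 2, by
        rw [mul_eq_one_iff_eq_inv] at h4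
        exact h4 ▸ inv_mem (pow_mem hwM 2)⟩
      rw [hT.inf_eq, mem_bot] at h5
      have := orderOf_dvd_of_pow_eq_one h5
      rw [hvo] at this
      norm_num at this
    · rw [show 2 ^ (2 + 1) = 2 * 4 by norm_num, pow_mul, hsq, hcomm.mul_pow]
      have h6 := pow_orderOf_eq_one v
      have h7 := pow_orderOf_eq_one w
      rw [hvo] at h6
      rw [hwo] at h7
      rw [h6, h7, one_mul]
  exact hS.no_eight hn h3 (g * c) (by rw [h8]; norm_num)

/-- Two Suzuki groups over the large field admit no outer extension. -/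
theorem eq_top_of_two_big (hn : Odd n) (h3 : 3 ≤ n) (h5 : n ≠ 5) (hS : Small X n)
    {M₁ M₂ : Subgroup X} (hT : TwoTop M₁ M₂) (h₁ : IsSz M₁ n) (h₂ : IsSz M₂ n) :
    M₁ ⊔ M₂ = ⊤ := by
  by_contra hne
  obtain ⟨x, hx⟩ : ∃ x, x ∉ M₁ ⊔ M₂ := by
    by_contra h
    push Not at h
    exact hne ((eq_top_iff' _).mpr h)
  have hN : ∀ y : X, y ∈ normalizer (M₁ : Set X) ∧ y ∈ normalizer (M₂ : Set X) := fun y =>
    ⟨outer_mem_normalizer_of_map (outer_no_swap hn h3 hS hT h₁ h₂ y).1,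
      outer_mem_normalizer_of_map (outer_no_swap hn h3 hS hT h₁ h₂ y).2⟩
  haveI : (M₁ ⊔ M₂).Normal := by
    haveI : M₁.Normal := normalizer_eq_top_iff.mp ((eq_top_iff' _).mpr fun y => (hN y).1)
    haveI : M₂.Normal := normalizer_eq_top_iff.mp ((eq_top_iff' _).mpr fun y => (hN y).2)
    infer_instance
  -- an element of prime order modulo the product
  have hq : (x : X ⧸ M₁ ⊔ M₂) ^ n = 1 := by
    rw [← QuotientGroup.mk_pow, QuotientGroup.eq_one_iff]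
    have := outer_pow_mem_of_normalizes hT h₁ h₂ (hN x).1 (hN x).2
    rwa [Nat.lcm_self] at this
  have hqn := orderOf_dvd_of_pow_eq_one hq
  obtain ⟨ρ, hρ, hρd⟩ := Nat.exists_prime_and_dvd
    (n := orderOf (x : X ⧸ M₁ ⊔ M₂)) (by rw [Ne, orderOf_eq_one_iff, QuotientGroup.eq_one_iff]; exact hx)
  have hρn : ρ ∣ n := hρd.trans hqn
  set y := x ^ (orderOf (x : X ⧸ M₁ ⊔ M₂) / ρ) with hy
  have hyq : orderOf (y : X ⧸ M₁ ⊔ M₂) = ρ := by
    rw [hy, QuotientGroup.mk_pow, orderOf_pow_orderOf_div (orderOf_pos _).ne' hρd]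
  have hyρ : y ^ ρ ∈ M₁ ⊔ M₂ := by
    rw [← QuotientGroup.eq_one_iff, QuotientGroup.mk_pow, ← hyq, pow_orderOf_eq_one]
  have hy1 : y ∉ M₁ ⊔ M₂ := by
    rw [← QuotientGroup.eq_one_iff, ← orderOf_eq_one_iff, hyq]
    exact hρ.one_lt.ne'
  have hr := MonoidHom.noncommCoprod_range M₁.subtype M₂.subtype fun a b => hT.comm a a.2 b b.2
  rw [Subgroup.range_subtype, Subgroup.range_subtype] at hr
  rw [← hr] at hyρ
  obtain ⟨⟨⟨a, ha⟩, ⟨b, hb⟩⟩, hab⟩ := hyρ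
  replace hab : a * b = y ^ ρ := hab
  obtain ⟨g₁, hg₁, hp₁, ⟨t₁, ht₁, ht₁o, ht₁c⟩, -, hw⟩ := outer_correct h₁ hρ (hN y).1
    ⟨a, ha, fun z hz => by
      rw [← hab, show a * b * z * (a * b)⁻¹ = a * (b * z * b⁻¹) * a⁻¹ by group,
        (hT.comm z hz b hb).eq.symm, mul_inv_cancel_right]⟩
  obtain ⟨g₂, hg₂, hp₂, ⟨t₂, ht₂, ht₂o, ht₂c⟩, ⟨s₂, hs₂, hs₂o, hs₂c⟩, -⟩ :=
    outer_correct h₂ hρ (hN y).2
    ⟨b, hb, fun z hz => by
      rw [← hab, (hT.comm a ha b hb).eq,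
        show b * a * z * (b * a)⁻¹ = b * (a * z * a⁻¹) * b⁻¹ by group,
        (hT.comm a ha z hz).eq, mul_inv_cancel_right]⟩
  set z := g₁⁻¹ * g₂⁻¹ * y with hz
  -- the corrected element acts on the factors as the two field automorphisms
  have hz₁ : ∀ w ∈ M₁, z * w * z⁻¹ = (g₁⁻¹ * y) * w * (g₁⁻¹ * y)⁻¹ := fun w hw => by
    have hyw : y * w * y⁻¹ ∈ M₁ := (mem_normalizer_iff.mp (hN y).1 w).mp hw
    calc z * w * z⁻¹ = g₁⁻¹ * (g₂⁻¹ * (y * w * y⁻¹) * g₂) * g₁ := by rw [hz]; group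
      _ = g₁⁻¹ * (y * w * y⁻¹) * g₁ := by
        rw [(hT.comm _ hyw g₂⁻¹ (inv_mem hg₂)).eq.symm, inv_mul_cancel_right]
      _ = g₁⁻¹ * y * w * (g₁⁻¹ * y)⁻¹ := by group
  have hz₂ : ∀ w ∈ M₂, z * w * z⁻¹ = (g₂⁻¹ * y) * w * (g₂⁻¹ * y)⁻¹ := fun w hw => by
    have hyw : y * w * y⁻¹ ∈ M₂ := (mem_normalizer_iff.mp (hN y).2 w).mp hw
    have hin : g₂⁻¹ * (y * w * y⁻¹) * g₂ ∈ M₂ := mul_mem (mul_mem (inv_mem hg₂) hyw) hg₂
    calc z * w * z⁻¹ = g₁⁻¹ * (g₂⁻¹ * (y * w * y⁻¹) * g₂) * g₁ := by rw [hz]; group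
      _ = g₂⁻¹ * (y * w * y⁻¹) * g₂ := by
        rw [(hT.comm g₁⁻¹ (inv_mem hg₁) _ hin).eq, inv_mul_cancel_right]
      _ = g₂⁻¹ * y * w * (g₂⁻¹ * y)⁻¹ := by group
  have hzc : ∀ {M : Subgroup X} {g : X},
      (∀ w ∈ M, z * w * z⁻¹ = (g⁻¹ * y) * w * (g⁻¹ * y)⁻¹) → ∀ w ∈ M, Commute (g⁻¹ * y) w →
        Commute z w := fun h w hw hc => by
    have := h w hw
    rw [hc.eq, mul_inv_cancel_right, mul_inv_eq_iff_eq_mul] at this
    exact this
  have hzpow : ∀ {M : Subgroup X} {g : X}, g ∈ M → y ∈ normalizer (M : Set X) →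
      (∀ w ∈ M, z * w * z⁻¹ = (g⁻¹ * y) * w * (g⁻¹ * y)⁻¹) → ∀ (L : ℕ), ∀ w ∈ M,
      z ^ L * w * (z ^ L)⁻¹ = (g⁻¹ * y) ^ L * w * ((g⁻¹ * y) ^ L)⁻¹ := fun hg hyn h L => by
    induction L with
    | zero => simp
    | succ L ih =>
      intro w hw
      have hw' : _ := (mem_normalizer_iff.mp (mul_mem (le_normalizer (inv_mem hg)) hyn) w).mp hw
      rw [pow_succ, pow_succ]
      calc z ^ L * z * w * (z ^ L * z)⁻¹ = z ^ L * (z * w * z⁻¹) * (z ^ L)⁻¹ := by group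
        _ = _ := by rw [h w hw, ih _ hw']; group
  have hz1 : z ≠ 1 := by
    intro h
    refine hy1 ?_
    rw [hz, mul_eq_one_iff_eq_inv'] at h
    rw [h]
    exact inv_mem (mul_mem (mem_sup_left (inv_mem hg₁)) (mem_sup_right (inv_mem hg₂)))
  have hzρ : z ^ ρ = 1 := by
    refine outer_eq_one_of_centralises hT (fun w hw => ?_) fun w hw => ?_
    · have := hzpow hg₁ (hN y).1 hz₁ ρ w hw
      rw [hp₁ w hw, mul_inv_cancel_right, mul_inv_eq_iff_eq_mul] at this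
      exact this
    · have := hzpow hg₂ (hN y).2 hz₂ ρ w hw
      rw [hp₂ w hw, mul_inv_cancel_right, mul_inv_eq_iff_eq_mul] at this
      exact this
  haveI := Fact.mk hρ
  have hzo : orderOf z = ρ := orderOf_eq_prime hzρ hz1
  obtain ⟨i, hi⟩ := hS.exists_index hρ (hzo ▸ orderOf_dvd_natCard z)
  have hi0 : i ≠ 0 := by
    intro h0
    subst h0
    have := eq_two_of_dvd_num_zero hρ hi
    subst this
    exact (Nat.not_even_iff_odd.mpr hn) (even_iff_two_dvd.mpr hρn)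
  have hp5 : Nat.Prime 5 := by norm_num
  obtain ⟨j, hj⟩ := hS.exists_index hp5 (hs₂o ▸ orderOf_dvd_natCard s₂)
  have hj0 : j ≠ 0 := fun h0 => by
    subst h0
    exact absurd (eq_two_of_dvd_num_zero hp5 hj) (by norm_num)
  have hj1 : j ≠ 1 := fun h1 => by
    subst h1
    rw [num_one] at hj
    obtain ⟨r, hr⟩ := hn
    have h4 : 2 ^ n % 5 = 2 ∨ 2 ^ n % 5 = 3 := by
      rw [hr, pow_succ, pow_mul, Nat.mul_mod, Nat.pow_mod]
      rcases Nat.even_or_odd r with ⟨s, hs⟩ | ⟨s, hs⟩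
      · left; rw [hs, ← two_mul, pow_mul]; norm_num [Nat.pow_mod]
      · right; rw [hs, pow_succ, pow_mul]; norm_num [Nat.pow_mod, Nat.mul_mod]
    have := Nat.one_le_two_pow (n := n)
    omega
  have h02 : (2 : ℕ) ∣ num n 0 := by rw [num_zero]; norm_num
  have hij : i = j := by
    by_contra hij
    exact hS.false_of_commute hn h3 hzo ht₁o hs₂o hρ Nat.prime_two hp5 hi h02 hj hi0 hij hj0.symm
      (hzc hz₁ t₁ ht₁ ht₁c) (hzc hz₂ s₂ hs₂ hs₂c) (hT.comm t₁ ht₁ s₂ hs₂)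
  subst hij
  by_cases hnρ : n = ρ
  · have h23 : ρ ∣ 2 ^ n * 2 ^ n + 1 := by
      rw [← num_two_mul_num_three hn h3]
      have : i = 2 ∨ i = 3 := by omega
      rcases this with rfl | rfl
      · exact hi.mul_right _
      · exact hi.mul_left _
    rw [← ZMod.natCast_eq_zero_iff] at h23
    push_cast at h23
    rw [hnρ, ZMod.pow_card] at h23
    have h55 : ((5 : ℕ) : ZMod ρ) = 0 := by rw [← h23]; norm_num
    rw [ZMod.natCast_eq_zero_iff, Nat.prime_dvd_prime_iff_eq hρ hp5] at h55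
    exact h5 (hnρ.trans h55)
  obtain ⟨w, hwM, hw1, hwp, hwc⟩ := hw hnρ
  obtain ⟨p, hp, hpd⟩ := Nat.exists_prime_and_dvd (n := orderOf w) (by rwa [Ne, orderOf_eq_one_iff])
  have hw'o : orderOf (w ^ (orderOf w / p)) = p := orderOf_pow_orderOf_div (orderOf_pos w).ne' hpd
  exact hS.false_of_commute hn h3 hzo hw'o ht₂o hρ hp Nat.prime_two hi
    (hpd.trans (orderOf_dvd_of_pow_eq_one hwp)) h02 hj1 hi0 (by decide)
    ((hzc hz₁ w hwM hwc).pow_right _) (hzc hz₂ t₂ ht₂ ht₂c)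
    ((hT.comm w hwM t₂ ht₂).pow_left _)

end action

end Cfsg.Agent.SzSq70
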