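import Cfsg.Agent.SzSq70.BoundsColours
import Cfsg.Agent.SzSq70.Outer

/-!
# Size bounds for the subfield configurations
-/

set_option autoImplicit false
set_option linter.style.haveILetI false

namespace Cfsg.Agent.SzSq70

universe u

theorem powMemOne : PowMemOne.{u} :=
  fun _ _ _ M _ _ hM hc x => pow_mem_one M hM hc x

theorem powMemTwo : PowMemTwo.{u} :=
  fun _ _ _ _ _ _ _ hT h₁ h₂ _ hx => pow_mem_two_odd hT h₁ h₂ hx

variable {G : Type u} [Group G] [Finite G] {n : ℕ}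

/-- One Suzuki group over a proper subfield as socle of the radical quotient does not occur. -/
theorem false_of_one_small (hn : Odd n) (h3 : 3 ≤ n) (hS : Small G n) (hP : Pairs G n)
    (R : Subgroup G) [R.Normal] (hR : Group.IsSolvable R) (M : Subgroup (G ⧸ R)) [M.Normal] {k : ℕ}
    (hM : IsSz M k) (hc : Subgroup.centralizer (M : Set (G ⧸ R)) = ⊥) (hk : k < n)
    (hkn : k ∣ n) : False :=
  false_of_one_small_of notThreeColours hasFacts powMemOne hn h3 hS hP R hR M hM hc hk hkn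

/-- Two Suzuki groups over proper subfields do not occur. -/
theorem false_of_two_small (hn : Odd n) (h3 : 3 ≤ n) (hS : Small G n) (hP : Pairs G n)
    (R : Subgroup G) [R.Normal] (hR : Group.IsSolvable R) (M₁ M₂ : Subgroup (G ⧸ R))
    (hT : TwoTop M₁ M₂) {k₁ k₂ : ℕ} (h₁ : IsSz M₁ k₁) (h₂ : IsSz M₂ k₂) (hk₁ : k₁ < n)
    (hk₂ : k₂ < n) (hd₁ : k₁ ∣ n) (hd₂ : k₂ ∣ n) : False :=
  false_of_two_small_of notThreeColours hasFacts powMemTwo hn h3 hS hP R hR M₁ M₂ hT h₁ h₂
    hk₁ hk₂ hd₁ hd₂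

/-- A proper subfield and the whole field without radical do not occur. -/
theorem false_of_mixed (hn : Odd n) (h3 : 3 ≤ n) (hP : Pairs G n) (M₁ M₂ : Subgroup G)
    (hT : TwoTop M₁ M₂) {k : ℕ} (h₁ : IsSz M₁ k) (h₂ : IsSz M₂ n) (hk : k < n) (hkn : k ∣ n) :
    False :=
  false_of_mixed_of hasFacts powMemTwo hn h3 hP M₁ M₂ hT h₁ h₂ hk hkn

end Cfsg.Agent.SzSq70
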