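import Cfsg.Agent.SzSq70.Defs
import Cfsg.Agent.BC86.Suz.Elements
import Cfsg.Agent.Lib.RankOne.SzBridge

/-!
# Facts about the Suzuki groups

Element orders, centralizers and classes of cyclic subgroups of `Sz(q)`, and the element orders of
a direct product of two copies.
-/

set_option autoImplicit false
set_option linter.style.haveILetI false

namespace Cfsg.Agent.SzSq70

open Subgroup

universe u v

section general

/-- In a finite cyclic subgroup an element whose order divides that of `y` is a power of `y`. -/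
theorem facts_mem_zpowers {G : Type*} [Group G] [Finite G] {A : Subgroup G} [IsCyclic A] {x y : G}
    (hx : x ∈ A) (hy : y ∈ A) (hd : orderOf x ∣ orderOf y) : x ∈ zpowers y := by
  classical
  haveI := Fintype.ofFinite A
  have h0 : 0 < orderOf (⟨y, hy⟩ : A) := orderOf_pos _
  have hset : (zpowers (⟨y, hy⟩ : A) : Set A).toFinset =
      Finset.univ.filter fun a : A => a ^ orderOf (⟨y, hy⟩ : A) = 1 := by
    refine Finset.eq_of_subset_of_card_le ?_ ?_
    · intro a ha
      rw [Set.mem_toFinset] at ha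
      obtain ⟨j, rfl⟩ := ha
      simp only [Finset.mem_filter, Finset.mem_univ, true_and]
      rw [← zpow_natCast, ← zpow_mul, mul_comm, zpow_mul, zpow_natCast, pow_orderOf_eq_one, one_zpow]
    · refine (IsCyclic.card_pow_eq_one_le h0).trans (le_of_eq ?_)
      rw [Set.toFinset_card]
      exact (Fintype.card_zpowers).symm
  have hmem : (⟨x, hx⟩ : A) ∈ (zpowers (⟨y, hy⟩ : A) : Set A).toFinset := by
    rw [hset]
    simp only [Finset.mem_filter, Finset.mem_univ, true_and]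
    rw [← orderOf_dvd_iff_pow_eq_one, Subgroup.orderOf_mk, Subgroup.orderOf_mk]
    exact hd
  rw [Set.mem_toFinset] at hmem
  obtain ⟨j, hj⟩ := hmem
  exact ⟨j, by simpa using congrArg Subtype.val hj⟩

/-- An element of square one acting on a group of prime order without fixing it inverts it. -/
theorem facts_inverts {G : Type*} [Group G] {y s : G} {p : ℕ} (hp : p.Prime) (hy : orderOf y = p)
    (hs : s * s = 1) (hmem : s * y * s⁻¹ ∈ zpowers y) (hne : s * y * s⁻¹ ≠ y) :
    s * y * s⁻¹ = y⁻¹ := by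
  obtain ⟨a, ha⟩ := hmem
  replace ha : y ^ a = s * y * s⁻¹ := ha
  have h2 : y ^ (a * a) = y := by
    have hinv : s⁻¹ = s := inv_eq_of_mul_eq_one_right hs
    calc y ^ (a * a) = (y ^ a) ^ a := zpow_mul y a a
      _ = s * y ^ a * s⁻¹ := by rw [ha, conj_zpow, ha]
      _ = (s * s) * y * (s⁻¹ * s⁻¹) := by rw [ha]; group
      _ = y := by rw [hinv, hs]; simp
  have h3 : (p : ℤ) ∣ (a - 1) * (a + 1) := by
    rw [← hy, show (a - 1) * (a + 1) = a * a - 1 by ring]
    rw [orderOf_dvd_iff_zpow_eq_one, zpow_sub, zpow_one, h2, mul_inv_cancel]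
  rcases (Nat.prime_iff_prime_int.1 hp).dvd_or_dvd h3 with h | h
  · refine absurd ?_ hne
    rw [← hy, orderOf_dvd_iff_zpow_eq_one, zpow_sub, zpow_one, mul_inv_eq_one] at h
    exact ha.symm.trans h
  · rw [← hy, orderOf_dvd_iff_zpow_eq_one, zpow_add, zpow_one] at h
    rw [← ha]
    exact eq_inv_of_mul_eq_one_left h

/-- A cyclic self-centralizing subgroup of odd order and index four in its normalizer. -/
theorem facts_four {G : Type*} [Group G] [Finite G] {A : Subgroup G} [IsCyclic A]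
    (hodd : Odd (Nat.card A)) (hcent : ∀ u ∈ A, u ≠ 1 → Subgroup.centralizer {u} = A)
    (hcard : Nat.card (Subgroup.normalizer (A : Set G)) = 4 * Nat.card A) {p : ℕ} (hp : p.Prime)
    (hd : p ∣ Nat.card A) :
    ∃ y u : G, orderOf y = p ∧ orderOf u = 4 ∧ u * y * u⁻¹ ∈ zpowers y ∧
      u ^ 2 * y * (u ^ 2)⁻¹ = y⁻¹ := by
  haveI : Fact p.Prime := ⟨hp⟩
  haveI : Fact (Nat.Prime 2) := ⟨Nat.prime_two⟩
  obtain ⟨y, hy⟩ := exists_prime_orderOf_dvd_card' (G := A) p hd
  have hyo : orderOf (y : G) = p := (Subgroup.orderOf_coe y).trans hy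
  have hy1 : (y : G) ≠ 1 := fun h => hp.one_lt.ne' (by rw [← hyo, h, orderOf_one])
  set N := Subgroup.normalizer (A : Set (G)) with hN
  obtain ⟨S, hS⟩ := Sylow.exists_subgroup_card_pow_prime (G := N) 2 (n := 2)
    (by rw [hcard]; exact dvd_mul_right 4 _)
  have hnorm : ∀ s : N, (s : G) * y * (s : G)⁻¹ ∈
      zpowers (y : G) := fun s =>
    facts_mem_zpowers ((Subgroup.mem_normalizer_iff.1 s.2 _).1 y.2) y.2
      (by rw [show orderOf ((s : G) * y * (s : G)⁻¹) = orderOf (y : G)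
        from MulEquiv.orderOf_eq (MulAut.conj (s : G)) _])
  have hmove : ∀ s ∈ S, s ≠ 1 →
      (s : G) * y * (s : G)⁻¹ ≠ y := by
    intro s hs hs1 he
    have hsA : (s : G) ∈ A := by
      rw [← hcent y y.2 hy1, Subgroup.mem_centralizer_singleton_iff]
      exact mul_inv_eq_iff_eq_mul.1 he
    have h1 : orderOf (s : G) ∣ 4 := by
      rw [Subgroup.orderOf_coe]
      calc orderOf s ∣ Nat.card S := Subgroup.orderOf_dvd_natCard _ hs
        _ = 4 := by rw [hS]; norm_num
    have h2 : orderOf (s : G) ∣ Nat.card (A) := Subgroup.orderOf_dvd_natCard _ hsA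
    have h3' : Nat.Coprime 4 (Nat.card (A)) :=
      (Nat.coprime_two_left.2 hodd).pow_left 2
    have h4 := Nat.eq_one_of_dvd_coprimes h3' h1 h2
    exact hs1 (Subtype.ext (orderOf_eq_one_iff.1 h4))
  obtain ⟨w, hwS, hw⟩ : ∃ w ∈ S, w ^ 2 ≠ 1 := by
    by_contra hall
    push Not at hall
    haveI : Finite S := inferInstance
    have hinvert : ∀ s ∈ S, s ≠ 1 → (s : G) * y * (s : G)⁻¹ = (y : G)⁻¹ :=
      fun s hs hs1 => facts_inverts hp hyo
        (by rw [← Subgroup.coe_mul, ← sq, hall s hs, Subgroup.coe_one]) (hnorm s) (hmove s hs hs1)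
    have h2 : ∀ a b : S, a ≠ 1 → b ≠ 1 → a = b := by
      intro a b ha hb
      by_contra hab
      have hb2 : (b : N) ^ 2 = 1 := hall b b.2
      have hab1 : ((a * b : S) : N) ≠ 1 := fun h => hab (Subtype.ext (by
        rw [Subgroup.coe_mul] at h
        rw [sq] at hb2
        exact mul_right_cancel (h.trans hb2.symm)))
      apply hmove _ (a * b).2 hab1
      have ea := hinvert a a.2 (fun h => ha (Subtype.ext h))
      have eb := hinvert b b.2 (fun h => hb (Subtype.ext h))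
      simp only [Subgroup.coe_mul, mul_inv_rev]
      calc ((a : N) : G) * ((b : N) : G) * y *
            (((b : N) : G)⁻¹ * ((a : N) : G)⁻¹)
          = ((a : N) : G) * (((b : N) : G) * y * ((b : N) : G)⁻¹) *
            ((a : N) : G)⁻¹ := by group
        _ = (((a : N) : G) * y * ((a : N) : G)⁻¹)⁻¹ := by rw [eb]; group
        _ = y := by rw [ea, inv_inv]
    classical
    haveI := Fintype.ofFinite S
    have : Fintype.card S ≤ 2 := by
      by_cases hex : ∃ a : S, a ≠ 1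
      · obtain ⟨a, ha⟩ := hex
        refine (Finset.card_le_card (t := {1, a}) (s := Finset.univ) fun x _ => ?_).trans
          Finset.card_le_two
        by_cases hx : x = 1
        · simp [hx]
        · simp [h2 x a hx ha]
      · push Not at hex
        refine le_trans ?_ one_le_two
        exact Fintype.card_le_one_iff.2 fun x z => (hex x).trans (hex z).symm
    rw [Nat.card_eq_fintype_card] at hS
    omega
  refine ⟨y, (w : G), hyo, ?_, hnorm w, ?_⟩
  · rw [Subgroup.orderOf_coe]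
    refine (orderOf_eq_prime_pow (p := 2) (n := 1) (by rwa [pow_one]) ?_).trans (by norm_num)
    have := pow_card_eq_one' (G := S) (x := ⟨w, hwS⟩)
    rw [hS] at this
    simpa using congrArg Subtype.val this
  · have h4 : w ^ 2 * w ^ 2 = 1 := by
      have := pow_card_eq_one' (G := S) (x := ⟨w, hwS⟩)
      rw [hS] at this
      rw [← pow_add]
      simpa using congrArg Subtype.val this
    exact facts_inverts hp hyo (by simpa using congrArg Subtype.val h4)
      (Subgroup.coe_pow (Subgroup.normalizer (A : Set G)) w 2 ▸ hnorm (w ^ 2))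
      (Subgroup.coe_pow (Subgroup.normalizer (A : Set G)) w 2 ▸ hmove (w ^ 2) (pow_mem hwS 2) hw)

end general

/-- The facts pass along isomorphisms. -/
theorem SzFacts.congr {A : Type u} {B : Type v} [Group A] [Group B] {k : ℕ} (e : A ≃* B)
    (h : SzFacts A k) : SzFacts B k where
  simple := by
    haveI := h.simple
    exact (MulEquiv.isSimpleGroup_congr e).1 inferInstance
  noncomm := by
    obtain ⟨a, b, hab⟩ := h.noncomm
    exact ⟨e a, e b, fun he => hab (e.injective (by rw [map_mul, map_mul]; exact he))⟩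
  order_dvd g := by
    obtain ⟨i, hi⟩ := h.order_dvd (e.symm g)
    exact ⟨i, by rwa [MulEquiv.orderOf_eq] at hi⟩
  exists_order i := by
    obtain ⟨g, hg⟩ := h.exists_order i
    exact ⟨e g, by rw [MulEquiv.orderOf_eq, hg]⟩
  cent i hi g hg hd x hx := by
    have := h.cent i hi (e.symm g) (fun h1 => hg (by simpa using congrArg e h1))
      (by rwa [MulEquiv.orderOf_eq]) (e.symm x) (hx.map e.symm.toMonoidHom)
    rwa [MulEquiv.orderOf_eq] at this
  conj i hi g x hgx hd := by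
    obtain ⟨c, hc⟩ := h.conj i hi (e.symm g) (e.symm x)
      (by rw [MulEquiv.orderOf_eq, MulEquiv.orderOf_eq, hgx]) (by rwa [MulEquiv.orderOf_eq])
    obtain ⟨j, hj⟩ := hc
    refine ⟨e c, j, ?_⟩
    have := congrArg e hj
    simpa using this
  borel := by
    obtain ⟨Q, t, h1, h2, h3, h4, h5⟩ := h.borel
    refine ⟨Q.map e.toMonoidHom, e t, ?_, ?_, by rw [MulEquiv.orderOf_eq, h3], ?_, ?_⟩
    · rwa [Ne, Subgroup.map_eq_bot_iff_of_injective _ e.injective]
    · rintro _ ⟨x, hx, rfl⟩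
      rw [← map_pow, h2 x hx, map_one]
    · rintro _ ⟨x, hx, rfl⟩
      exact ⟨_, h4 x hx, by simp⟩
    · rintro s ⟨j, rfl⟩ hs _ ⟨x, hx, rfl⟩ hc
      have h6 : Commute (t ^ j) x := by
        refine e.injective ?_
        simpa using hc.eq
      rw [h5 (t ^ j) (zpow_mem (mem_zpowers t) j)
        (fun h1 => hs (show e t ^ j = 1 by rw [← map_zpow, h1, map_one])) x hx h6, map_one]
  four p hp i hi hd := by
    obtain ⟨y, w, h1, h2, ⟨j, hj⟩, h4⟩ := h.four p hp i hi hd
    refine ⟨e y, e w, by rw [MulEquiv.orderOf_eq, h1], by rw [MulEquiv.orderOf_eq, h2], ⟨j, ?_⟩, ?_⟩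
    · have := congrArg e hj
      simpa using this
    · have := congrArg e h4
      simpa using this

section model

variable {F : Type*} [Field F] [Fintype F] {m : ℕ} (hF : Fintype.card F = 2 ^ (2 * m + 1))
variable (hm : 1 ≤ m)
include hF hm

theorem facts_isCyclic_torus {A : Subgroup (Cfsg.Sz F m)} (hA : BC86.Suz.IsTorus A) :
    IsCyclic A := by
  by_cases h : A = ⊥
  · subst h; infer_instance
  obtain ⟨w, hw, hw1⟩ := (Subgroup.bot_or_exists_ne_one A).resolve_left h
  have := (Suzuki.torus hF hm (hA.fpf w hw hw1)).1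
  rwa [hA.cent w hw hw1] at this

/-- The four kinds of elements. -/
theorem facts_layout : ∃ A : Fin 4 → Subgroup (Cfsg.Sz F m),
    A 0 = Suzuki.USub hF ∧ A 1 = (Suzuki.THom hF).range ∧
    BC86.Suz.IsTorus (A 2) ∧ BC86.Suz.IsTorus (A 3) ∧
    (∀ i, ∀ x ∈ A i, orderOf x ∣ num (2 * m + 1) i) ∧
    (∀ i, i ≠ 0 → IsCyclic (A i) ∧ Nat.card (A i) = num (2 * m + 1) i ∧
      ∀ x ∈ A i, x ≠ 1 → Subgroup.centralizer {x} ≤ A i) ∧
    ∀ g : Cfsg.Sz F m, ∃ i, ∃ c, ∃ x ∈ A i, g = c * x * c⁻¹ := by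
  obtain ⟨A₁, A₂, h1, h2, c1, c2, hcov⟩ := BC86.Suz.exists_tori hF hm
  have hhalf : (2 * m + 1 + 1) / 2 = m + 1 := by omega
  have hle : 2 ^ (m + 1) ≤ 2 ^ (2 * m + 1) := Nat.pow_le_pow_right (by norm_num) (by omega)
  have hn2 : Nat.card A₁ = num (2 * m + 1) 2 := by rw [c1, num_two, hhalf, hF]
  have hn3 : Nat.card A₂ = num (2 * m + 1) 3 := by rw [c2, num_three, hhalf, hF]; omega
  have hn1 : Nat.card (Suzuki.THom hF).range = num (2 * m + 1) 1 := by
    rw [Suzuki.card_range_T hF, hF, num_one]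
  refine ⟨![Suzuki.USub hF, (Suzuki.THom hF).range, A₁, A₂], rfl, rfl, h1, h2, ?_, ?_, ?_⟩
  · intro i x hx
    fin_cases i
    · show orderOf x ∣ num (2 * m + 1) 0
      rw [num_zero]
      have h := Monoid.order_dvd_exponent (⟨x, hx⟩ : Suzuki.USub hF)
      rw [Suzuki.exponent_USub hF] at h
      rwa [← Subgroup.orderOf_coe] at h
    · exact hn1 ▸ Subgroup.orderOf_dvd_natCard _ hx
    · exact hn2 ▸ Subgroup.orderOf_dvd_natCard _ hx
    · exact hn3 ▸ Subgroup.orderOf_dvd_natCard _ hx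
  · intro i hi
    fin_cases i
    · exact absurd rfl hi
    · refine ⟨isCyclic_of_surjective (Suzuki.THom hF).rangeRestrict
        (Suzuki.THom hF).rangeRestrict_surjective, hn1, ?_⟩
      rintro _ ⟨l, rfl⟩ hl
      exact Suzuki.centralizer_T_le hF hm fun hl1 => hl (by rw [hl1, map_one])
    · exact ⟨facts_isCyclic_torus hF hm h1, hn2, fun x hx hx1 => (h1.cent x hx hx1).le⟩
    · exact ⟨facts_isCyclic_torus hF hm h2, hn3, fun x hx hx1 => (h2.cent x hx hx1).le⟩
  · intro g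
    rcases BC86.Suz.mem_cases hF hm g with rfl | ⟨x, hx, -, c, hc⟩ | ⟨x, hx, -, c, hc⟩ | h
    · exact ⟨0, 1, 1, one_mem _, by simp⟩
    · exact ⟨0, c, x, hx, hc.symm⟩
    · exact ⟨1, c, x, hx, hc.symm⟩
    · rcases (hcov g).1 h with ⟨x, hx, -, c, hc⟩ | ⟨x, hx, -, c, hc⟩
      · exact ⟨2, c, x, hx, hc.symm⟩
      · exact ⟨3, c, x, hx, hc.symm⟩

theorem szFacts_model : SzFacts (Cfsg.Sz F m) (2 * m + 1) := by
  obtain ⟨A, hA0, hA1, hA2, hA3, hexp, hcyc, hcov⟩ := facts_layout hF hm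
  have hk : Odd (2 * m + 1) := ⟨m, rfl⟩
  have h3 : 3 ≤ 2 * m + 1 := by omega
  have hloc : ∀ (g : Cfsg.Sz F m) (i : Fin 4), g ≠ 1 → orderOf g ∣ num (2 * m + 1) i →
      ∃ c, ∃ x ∈ A i, g = c * x * c⁻¹ := by
    intro g i hg hd
    obtain ⟨j, c, x, hx, rfl⟩ := hcov g
    have ho : orderOf (c * x * c⁻¹) = orderOf x := MulEquiv.orderOf_eq (MulAut.conj c) x
    by_cases hij : i = j
    · exact ⟨c, x, hij ▸ hx, rfl⟩
    · exfalso
      rw [ho] at hd
      have := Nat.eq_one_of_dvd_coprimes (coprime_num hk h3 hij) hd (hexp j x hx)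
      rw [orderOf_eq_one_iff] at this
      exact hg (by rw [this]; simp)
  refine ⟨Suzuki.isSimpleGroup hF hm, ?_, ?_, ?_, ?_, ?_, ?_, ?_⟩
  · refine ⟨Suzuki.T hF (Classical.choose (IsCyclic.exists_generator (α := Fˣ))), Suzuki.U hF 1 0, ?_⟩
    intro hc
    have hmem : Suzuki.U hF 1 0 ∈
        Subgroup.centralizer {Suzuki.T hF (Classical.choose (IsCyclic.exists_generator (α := Fˣ)))} :=
      Subgroup.mem_centralizer_singleton_iff.2 hc.symm
    set w := Classical.choose (IsCyclic.exists_generator (α := Fˣ)) with hw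
    have hw1 : w ≠ 1 := by
      intro h1
      have hall := Classical.choose_spec (IsCyclic.exists_generator (α := Fˣ))
      rw [← hw] at hall
      obtain ⟨l, hl0, hl1⟩ := Suzuki.exists_ne_zero_one hF hm
      obtain ⟨j, hj⟩ := hall (Units.mk0 l hl0)
      simp only [h1, one_zpow] at hj
      exact hl1 (congrArg Units.val hj).symm
    obtain ⟨l, hl⟩ := Suzuki.centralizer_T_le hF hm hw1 hmem
    have h := Suzuki.U_T_inj hF (a := (1 : F)) (b := 0) (c := 0) (d := 0) (k := 1) (l := l)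
      (by rw [Suzuki.T_one, mul_one, Suzuki.U_zero, one_mul]; exact hl.symm)
    exact one_ne_zero h.1
  · intro g
    obtain ⟨i, c, x, hx, rfl⟩ := hcov g
    exact ⟨i, by rw [show orderOf (c * x * c⁻¹) = orderOf x from
      MulEquiv.orderOf_eq (MulAut.conj c) x]; exact hexp i x hx⟩
  · intro i
    by_cases hi : i = 0
    · subst hi
      refine ⟨Suzuki.U hF 1 0, ?_⟩
      rw [num_zero]
      haveI : Fact (Nat.Prime 2) := ⟨Nat.prime_two⟩
      have hsq : Suzuki.U hF (1 : F) 0 ^ 2 = Suzuki.U hF 0 1 := by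
        rw [sq, Suzuki.U_mul]
        congr 1
        · exact Suzuki.add_self hF 1
        · simp [Suzuki.sig_one]
      refine (orderOf_eq_prime_pow (p := 2) (n := 1) ?_ ?_).trans (by norm_num)
      · rw [pow_one, hsq]
        exact fun h => one_ne_zero (Suzuki.U_inj hF (h.trans (Suzuki.U_zero hF).symm)).2
      · rw [pow_succ, pow_one, pow_mul, hsq, sq, Suzuki.U_mul]
        simp [Suzuki.add_self hF, Suzuki.sig_zero, Suzuki.U_zero]
    · obtain ⟨hc, hcard, -⟩ := hcyc i hi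
      obtain ⟨g, hg⟩ := IsCyclic.exists_ofOrder_eq_natCard (α := A i)
      exact ⟨g, by rw [Subgroup.orderOf_coe, hg, hcard]⟩
  · intro i hi g hg hd x hx
    obtain ⟨c, y, hy, rfl⟩ := hloc g i hg hd
    have hy1 : y ≠ 1 := fun h => hg (by simp [h])
    have hmem : c⁻¹ * x * c ∈ A i := (hcyc i hi).2.2 y hy hy1 (by
      rw [Subgroup.mem_centralizer_singleton_iff]
      calc c⁻¹ * x * c * y = c⁻¹ * (x * (c * y * c⁻¹)) * c := by group
        _ = c⁻¹ * ((c * y * c⁻¹) * x) * c := by rw [hx.eq]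
        _ = y * (c⁻¹ * x * c) := by group)
    have := hexp i _ hmem
    have ho : orderOf (c⁻¹ * x * c⁻¹⁻¹) = orderOf x := MulEquiv.orderOf_eq (MulAut.conj c⁻¹) x
    rw [inv_inv] at ho
    rwa [ho] at this
  · intro i hi g h hgh hd
    by_cases hg : g = 1
    · exact ⟨1, by simp [hg]⟩
    have hh : h ≠ 1 := fun e => hg (orderOf_eq_one_iff.1 (by rw [hgh, e, orderOf_one]))
    obtain ⟨c, x, hx, rfl⟩ := hloc g i hg hd
    obtain ⟨d, y, hy, rfl⟩ := hloc h i hh (hgh ▸ hd)
    haveI := (hcyc i hi).1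
    have hxy : orderOf x = orderOf y := by
      rw [← MulEquiv.orderOf_eq (MulAut.conj c) x, ← MulEquiv.orderOf_eq (MulAut.conj d) y]
      exact hgh
    obtain ⟨j, hj⟩ := facts_mem_zpowers hx hy hxy.dvd
    replace hj : y ^ j = x := hj
    refine ⟨d * c⁻¹, j, ?_⟩
    show (d * y * d⁻¹) ^ j = _
    rw [conj_zpow, hj]
    group
  · obtain ⟨w, hw⟩ := IsCyclic.exists_ofOrder_eq_natCard (α := Fˣ)
    refine ⟨Suzuki.ZSub hF, Suzuki.T hF w, ?_, ?_, ?_, ?_, ?_⟩
    · intro h
      have h1 : Suzuki.U hF (0 : F) 1 ∈ (⊥ : Subgroup (Cfsg.Sz F m)) := h ▸ ⟨1, rfl⟩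
      exact one_ne_zero
        (Suzuki.U_inj hF ((Subgroup.mem_bot.1 h1).trans (Suzuki.U_zero hF).symm)).2
    · rintro _ ⟨b, rfl⟩
      rw [sq, Suzuki.U_mul]
      simp [Suzuki.add_self hF, Suzuki.sig_zero, Suzuki.U_zero]
    · rw [num_one, show Suzuki.T hF w = Suzuki.THom hF w from rfl,
        orderOf_injective (Suzuki.THom hF) (fun a b h => Suzuki.T_inj hF h) w, hw, Nat.card_units,
        Nat.card_eq_fintype_card, hF]
    · rintro _ ⟨b, rfl⟩
      exact ⟨(w : F) * Suzuki.sig m (w : F) * b, by rw [Suzuki.T_conj_U hF, mul_zero]⟩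
    · rintro s ⟨j, rfl⟩ hs _ ⟨b, rfl⟩ hc
      have hj : Suzuki.T hF (w ^ j) = Suzuki.T hF w ^ j := map_zpow (Suzuki.THom hF) w j
      have hc2 : Suzuki.T hF (w ^ j) * Suzuki.U hF 0 b * (Suzuki.T hF (w ^ j))⁻¹ =
          Suzuki.U hF 0 b := by
        rw [hj, hc.eq, mul_inv_cancel_right]
      rw [Suzuki.T_conj_U hF] at hc2
      have h1 := (Suzuki.U_inj hF hc2).2
      by_cases hb : b = 0
      · rw [hb, Suzuki.U_zero]
      · exfalso
        refine hs (show Suzuki.T hF w ^ j = 1 from ?_)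
        rw [← hj, show w ^ j = 1 from Units.ext
          (Suzuki.eq_one_of_mul_sig hF (Units.ne_zero _) (mul_right_cancel₀ hb (h1.trans (one_mul b).symm)))]
        exact Suzuki.T_one hF
  · intro p hp i hi hd
    have hT : BC86.Suz.IsTorus (A i) := by rcases hi with rfl | rfl <;> assumption
    have hi0 : i ≠ 0 := by rcases hi with rfl | rfl <;> decide
    obtain ⟨hc, hcard, -⟩ := hcyc i hi0
    haveI := hc
    exact facts_four (hcard ▸ odd_num h3 hi0) hT.cent hT.card_norm hp (hcard ▸ hd)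

end model

section interface

variable {M : Type u} [Group M] {k : ℕ}

theorem IsSz.odd (h : IsSz M k) : Odd k := by
  obtain ⟨-, -, -, m, -, rfl, -, -⟩ := h
  exact ⟨m, rfl⟩

theorem IsSz.three_le (h : IsSz M k) : 3 ≤ k := by
  obtain ⟨-, -, -, m, hm, rfl, -, -⟩ := h
  omega

theorem IsSz.congr {M' : Type v} [Group M'] (h : IsSz M k) (e : M ≃* M') : IsSz M' k := by
  obtain ⟨F, i1, i2, m, hm, hk, hF, ⟨f⟩⟩ := h
  exact ⟨F, i1, i2, m, hm, hk, hF, ⟨e.symm.trans f⟩⟩

/-- The Suzuki group as one of the models. -/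
theorem IsSz.exists_model (h : IsSz M k) :
    ∃ (F : Type) (_ : Field F) (_ : Fintype F) (m : ℕ), 1 ≤ m ∧ k = 2 * m + 1 ∧
      Fintype.card F = 2 ^ (2 * m + 1) ∧ Nonempty (Cfsg.Sz F m ≃* M) := by
  obtain ⟨F, _, _, m, hm, hk, hF, ⟨e⟩⟩ := h
  subst hk
  exact ⟨F, _, _, m, hm, rfl, hF, ⟨(RankOne.SzBridge.szEquiv hF hm).trans e.symm⟩⟩

theorem IsSz.finite (h : IsSz M k) : Finite M := by
  obtain ⟨F, _, _, m, -, -, -, ⟨e⟩⟩ := h.exists_model
  exact Finite.of_equiv _ e.toEquiv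

theorem IsSz.card (h : IsSz M k) :
    Nat.card M = (2 ^ k) ^ 2 * ((2 ^ k) ^ 2 + 1) * (2 ^ k - 1) := by
  obtain ⟨F, _, _, m, hm, rfl, hF, ⟨e⟩⟩ := h.exists_model
  rw [← Nat.card_congr e.toEquiv, Suzuki.card_Sz hF hm]

theorem szFacts (h : IsSz M k) : SzFacts M k := by
  obtain ⟨F, _, _, m, hm, rfl, hF, ⟨e⟩⟩ := h.exists_model
  exact (szFacts_model hF hm).congr e

variable {A : Type u} {B : Type v} [Group A] [Group B] {n : ℕ}

theorem small_prod (hA : SzFacts A n) (hB : SzFacts B n) : Small (A × B) n := by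
  rintro ⟨a, b⟩
  obtain ⟨i, hi⟩ := hA.order_dvd a
  obtain ⟨j, hj⟩ := hB.order_dvd b
  rw [Prod.orderOf_mk]
  by_cases hij : i = j
  · subst hij
    obtain ⟨l, hl⟩ := exists_ne i
    exact ⟨i, l, hl.symm, (Nat.lcm_dvd hi hj).mul_right _⟩
  · exact ⟨i, j, hij, Nat.lcm_dvd (hi.mul_right _) (hj.mul_left _)⟩

theorem pairs_prod (hn : Odd n) (h3 : 3 ≤ n) (hA : SzFacts A n) (hB : SzFacts B n) :
    Pairs (A × B) n := by
  intro i j hij
  obtain ⟨a, ha⟩ := hA.exists_order i
  obtain ⟨b, hb⟩ := hB.exists_order j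
  exact ⟨(a, b), by rw [Prod.orderOf_mk, ha, hb, (coprime_num hn h3 hij).lcm_eq_mul]⟩

end interface

end Cfsg.Agent.SzSq70
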