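import Cfsg.Agent.SzSq70.Defs
import Cfsg.Agent.Lib.Coprime.Action
import Cfsg.Agent.Lib.Solvable.Hall
import Cfsg.Agent.S3633
import Mathlib.GroupTheory.FixedPointFree

/-!
# The solvable radical under a Suzuki section: three kinds of primes
-/

set_option autoImplicit false
set_option linter.style.haveILetI false

namespace Cfsg.Agent.SzSq70

open Subgroup
open scoped commutatorElement

universe u

section key

variable {X : Type u} [Group X] [Finite X] {Y : Type*} [Group Y]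

/-- An involution over a non-central element of a simple quotient with a solvable kernel fixes a
non-identity element of every Sylow subgroup of an odd normal subgroup that it normalises. -/
theorem radical_exists_fixed (f : X →* Y) (hf : Function.Surjective f)
    (hker : Group.IsSolvable f.ker) [IsSimpleGroup Y] (hY : ∃ a b : Y, a * b ≠ b * a)
    (O : Subgroup X) [O.Normal] (hOk : O ≤ f.ker) (hodd : Odd (Nat.card O))
    (hperf : commutator X ⊔ O = ⊤) {t : X} (ht : t * t = 1) (hft : f t ≠ 1)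
    {p : ℕ} [Fact p.Prime] (P : Sylow p O) (hdvd : p ∣ Nat.card O)
    (htP : t ∈ normalizer ((P : Subgroup O).map O.subtype : Set X)) :
    ∃ x ∈ O, orderOf x = p ∧ Commute x t := by
  classical
  set Q : Subgroup X := (P : Subgroup O).map O.subtype with hQ
  have hQO : Q ≤ O := map_subtype_le _
  by_contra hno
  push Not at hno
  have htt : t⁻¹ = t := inv_eq_of_mul_eq_one_right ht
  have hfix : ∀ x ∈ Q, t * x * t⁻¹ = x → x = 1 := by
    intro x hx hxt
    by_contra hx1
    obtain ⟨y, hy, rfl⟩ := hx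
    obtain ⟨k, hk⟩ := IsPGroup.iff_orderOf.1 P.isPGroup' ⟨y, hy⟩
    have hyo : orderOf (y : X) = p ^ k := by
      rw [Subgroup.orderOf_coe, ← hk]
      exact Subgroup.orderOf_coe ⟨y, hy⟩
    have hk0 : k ≠ 0 := fun e => hx1 (orderOf_eq_one_iff.1 (by simpa [e] using hyo))
    obtain ⟨j, rfl⟩ := Nat.exists_eq_succ_of_ne_zero hk0
    have hco : Commute (y : X) t :=
      (mul_inv_eq_iff_eq_mul.1 hxt).symm
    refine hno ((y : X) ^ p ^ j) (pow_mem y.2 _) ?_ (hco.pow_left _)
    rw [orderOf_pow_of_dvd (pow_ne_zero _ (Fact.out : p.Prime).ne_zero)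
      (hyo ▸ pow_dvd_pow p (Nat.le_succ j)), hyo, pow_succ, Nat.mul_div_cancel_left _
      (pow_pos (Fact.out : p.Prime).pos _)]
  -- `t` inverts `Q`
  let φ : Q → Q := fun x => ⟨t * x * t⁻¹, (mem_normalizer_iff.1 htP _).1 x.2⟩
  have hφ2 : Function.Involutive φ := fun x => Subtype.ext (by
    show t * (t * (x : X) * t⁻¹) * t⁻¹ = x
    rw [htt]
    calc t * (t * (x : X) * t) * t = t * t * x * (t * t) := by group
      _ = x := by rw [ht, one_mul, mul_one])
  have hφf : MonoidHom.FixedPointFree φ := fun x hx =>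
    Subtype.ext (hfix x x.2 (congrArg Subtype.val hx))
  have hinv : ∀ x ∈ Q, t * x * t⁻¹ = x⁻¹ := by
    intro x hx
    let φ' : Q →* Q :=
      { toFun := φ
        map_one' := Subtype.ext (by show t * 1 * t⁻¹ = 1; group)
        map_mul' := fun a b => Subtype.ext (by
          show t * ((a : X) * b) * t⁻¹ = t * a * t⁻¹ * (t * b * t⁻¹); group) }
    have h := congrFun (MonoidHom.FixedPointFree.coe_eq_inv_of_involutive (φ := φ') hφf hφ2)
      ⟨x, hx⟩
    exact congrArg Subtype.val h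
  set N := normalizer (Q : Set X) with hN
  have hNO : N ⊔ O = ⊤ := Sylow.normalizer_sup_eq_top P
  have hfN : ∀ y : Y, ∃ l ∈ N, f l = y := by
    intro y
    obtain ⟨g, rfl⟩ := hf y
    obtain ⟨l, hl, o, ho, rfl⟩ := mem_sup_of_normal_right.1 (hNO.symm ▸ mem_top g : g ∈ N ⊔ O)
    exact ⟨l, hl, by rw [map_mul, hOk ho, mul_one]⟩
  set C := N ⊓ centralizer (Q : Set X) with hC
  have hCn : ∀ l ∈ N, ∀ c ∈ C, l * c * l⁻¹ ∈ C := fun l hl c hc =>
    mem_inf.2 ⟨N.mul_mem (N.mul_mem hl (mem_inf.1 hc).1) (N.inv_mem hl),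
      mem_centralizer_iff.2 fun x hx => by
      have hx' : l⁻¹ * x * l ∈ Q := by
        simpa using (mem_normalizer_iff.1 (inv_mem hl) x).1 hx
      have h1 : l⁻¹ * x * l * c = c * (l⁻¹ * x * l) := mem_centralizer_iff.1 (mem_inf.1 hc).2 _ hx'
      calc x * (l * c * l⁻¹) = l * (l⁻¹ * x * l * c) * l⁻¹ := by group
        _ = l * (c * (l⁻¹ * x * l)) * l⁻¹ := by rw [h1]
        _ = l * c * l⁻¹ * x := by group⟩
  have hcomm : ∀ h ∈ N, h * t * h⁻¹ * t ∈ C := fun h hh =>
    mem_inf.2 ⟨N.mul_mem (N.mul_mem (N.mul_mem hh htP) (N.inv_mem hh)) htP,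
      mem_centralizer_iff.2 fun x hx => by
      have h1 : t * x * t⁻¹ = x⁻¹ := hinv x hx
      have hy : h⁻¹ * x⁻¹ * h ∈ Q := by
        simpa using (mem_normalizer_iff.1 (inv_mem hh) x⁻¹).1 (inv_mem hx)
      have h2 : t * (h⁻¹ * x⁻¹ * h) * t⁻¹ = (h⁻¹ * x⁻¹ * h)⁻¹ := hinv _ hy
      have e : h * t * h⁻¹ * t * x * (h * t * h⁻¹ * t)⁻¹ = x := by
        calc h * t * h⁻¹ * t * x * (h * t * h⁻¹ * t)⁻¹
            = h * (t * (h⁻¹ * (t * x * t⁻¹) * h) * t⁻¹) * h⁻¹ := by group
          _ = x := by rw [h1, h2]; group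
      exact (mul_inv_eq_iff_eq_mul.1 e).symm⟩
  -- the image of `C` is everything
  have hCtop : C.map f = ⊤ := by
    haveI : (C.map f).Normal := ⟨fun y hy g => by
      obtain ⟨l, hl, rfl⟩ := hfN g
      obtain ⟨c, hc, rfl⟩ := hy
      exact ⟨l * c * l⁻¹, hCn l hl c hc, by simp⟩⟩
    refine (Normal.eq_bot_or_eq_top inferInstance).resolve_left fun hbot => ?_
    have hcen : f t ∈ center Y := mem_center_iff.2 fun g => by
      obtain ⟨l, hl, rfl⟩ := hfN g
      have h1 : f (l * t * l⁻¹ * t) ∈ C.map f := mem_map_of_mem f (hcomm l hl)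
      rw [hbot, mem_bot] at h1
      have h2 : f (l * t * l⁻¹) = f t := by
        calc f (l * t * l⁻¹) = f (l * t * l⁻¹ * t) * f t⁻¹ := by
              rw [← map_mul]; congr 1; group
          _ = f t := by rw [h1, one_mul, htt]
      rw [map_mul, map_mul, map_inv, mul_inv_eq_iff_eq_mul] at h2
      exact h2
    rcases Normal.eq_bot_or_eq_top (H := center Y) inferInstance with h | h
    · exact hft (mem_bot.1 (h ▸ hcen))
    · obtain ⟨a, b, hab⟩ := hY
      exact hab (mem_center_iff.1 (h ▸ mem_top b) a)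
  -- the quotient of `N` by `C (O ∩ N)` is solvable and perfect
  set D : Subgroup N := C.subgroupOf N ⊔ O.subgroupOf N with hD
  haveI : (C.subgroupOf N).Normal := ⟨fun c hc g => hCn g g.2 c hc⟩
  haveI : D.Normal := inferInstance
  haveI hsol : Group.IsSolvable (N ⧸ D) := by
    haveI := hker
    haveI : Group.IsSolvable (f.ker.subgroupOf N) :=
      Group.isSolvable_of_isSolvable_injective
        (f := ((N.subtype.comp (f.ker.subgroupOf N).subtype).codRestrict f.ker fun x => x.2))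
        (fun a b h => Subtype.ext (Subtype.ext (congrArg Subtype.val h :)))
    refine Group.isSolvable_of_surjective
      (f := (QuotientGroup.mk' D).comp (f.ker.subgroupOf N).subtype) fun q => ?_
    obtain ⟨g, rfl⟩ := QuotientGroup.mk'_surjective D q
    obtain ⟨c, hc, hfc⟩ := mem_map.1 (hCtop ▸ mem_top _ : f g ∈ C.map f)
    have hcN : c ∈ N := (mem_inf.1 hc).1
    refine ⟨⟨⟨c, hcN⟩⁻¹ * g, ?_⟩, ?_⟩
    · show f (c⁻¹ * g) = 1
      rw [map_mul, map_inv, hfc, inv_mul_cancel]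
    · have h1 : QuotientGroup.mk' D ⟨c, hcN⟩ = 1 :=
        (QuotientGroup.eq_one_iff _).2 (mem_sup_left (mem_subgroupOf.2 hc))
      show QuotientGroup.mk' D (⟨c, hcN⟩⁻¹ * g) = QuotientGroup.mk' D g
      rw [map_mul, map_inv, h1, inv_one, one_mul]
  have hperf' : commutator (N ⧸ D) = ⊤ := by
    rw [eq_top_iff]
    rintro q -
    obtain ⟨g, rfl⟩ := QuotientGroup.mk'_surjective D q
    have hmap : commutator X ≤ (commutator N).map N.subtype ⊔ O := by
      rw [_root_.commutator_def, _root_.commutator_def, map_commutator, ← MonoidHom.range_eq_map,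
        range_subtype]
      rw [← hNO, commutator_le]
      intro a ha b hb
      obtain ⟨a₁, ha₁, a₂, ha₂, rfl⟩ := mem_sup_of_normal_right.1 ha
      obtain ⟨b₁, hb₁, b₂, hb₂, rfl⟩ := mem_sup_of_normal_right.1 hb
      rw [← QuotientGroup.eq_one_iff (N := O)] at ha₂ hb₂
      have h1 : QuotientGroup.mk' O ⁅a₁ * a₂, b₁ * b₂⁆ = QuotientGroup.mk' O ⁅a₁, b₁⁆ := by
        simp [commutatorElement_def, ha₂, hb₂]
      obtain ⟨o, ho, e⟩ : ∃ o ∈ O, ⁅a₁ * a₂, b₁ * b₂⁆ = ⁅a₁, b₁⁆ * o :=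
        ⟨_, QuotientGroup.eq.1 h1.symm, (mul_inv_cancel_left _ _).symm⟩
      rw [e]
      exact mul_mem_sup (commutator_mem_commutator ha₁ hb₁) ho
    have hg : (g : X) ∈ commutator X ⊔ O := hperf.symm ▸ mem_top _
    have hg' : (g : X) ∈ (commutator N).map N.subtype ⊔ O := sup_le hmap le_sup_right hg
    obtain ⟨d, ⟨d', hd', rfl⟩, o, ho, hdo⟩ := mem_sup_of_normal_right.1 hg'
    have hgd : g = d' * ⟨o, by
        have := mul_mem (inv_mem d'.2) g.2
        rwa [← hdo, Subgroup.coe_subtype, inv_mul_cancel_left] at this⟩ :=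
      Subtype.ext hdo.symm
    have h1 : QuotientGroup.mk' D g = QuotientGroup.mk' D d' := by
      rw [hgd, map_mul, mul_eq_left]
      exact (QuotientGroup.eq_one_iff _).2 (mem_sup_right (mem_subgroupOf.2 ho))
    rw [h1]
    have h2 : (commutator N).map (QuotientGroup.mk' D) ≤ commutator (N ⧸ D) := by
      rw [_root_.commutator_def, _root_.commutator_def, map_commutator]
      exact commutator_mono le_top le_top
    exact h2 (mem_map_of_mem _ hd')
  have hsub : Subsingleton (N ⧸ D) := by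
    by_contra hnon
    haveI := not_subsingleton_iff_nontrivial.1 hnon
    exact (Group.IsSolvable.commutator_lt_top_of_nontrivial (N ⧸ D)).ne hperf'
  -- so `t` is `c o` with `o` of odd order inverting `Q`
  have htD : (⟨t, htP⟩ : N) ∈ D := (QuotientGroup.eq_one_iff _).1 (Subsingleton.elim _ _)
  obtain ⟨c, hc, o, ho, hco⟩ := mem_sup_of_normal_left.1 htD
  have hco' : (c : X) * o = t := congrArg Subtype.val hco
  have hQ1 : Q ≠ ⊥ := fun hb => by
    have h1 : Nat.card Q = Nat.card (P : Subgroup O) := card_map_of_injective O.subtype_injective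
    rw [hb, card_bot] at h1
    have := P.dvd_card_of_dvd_card hdvd
    rw [← h1] at this
    exact (Fact.out : p.Prime).ne_one (Nat.dvd_one.1 this)
  obtain ⟨x, hx, hx1⟩ := (bot_or_exists_ne_one Q).resolve_left hQ1
  have hoinv : ∀ y ∈ Q, (o : X) * y * (o : X)⁻¹ = y⁻¹ := fun y hy => by
    have h1 : y⁻¹ * (c : X) = c * y⁻¹ :=
      mem_centralizer_iff.1 (mem_inf.1 (mem_subgroupOf.1 hc)).2 _ (inv_mem hy)
    have h2 := hinv y hy
    rw [← hco'] at h2
    calc (o : X) * y * (o : X)⁻¹ = (c : X)⁻¹ * ((c : X) * o * y * ((c : X) * o)⁻¹) * c := by group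
      _ = (c : X)⁻¹ * (y⁻¹ * c) := by rw [h2, mul_assoc]
      _ = y⁻¹ := by rw [h1, inv_mul_cancel_left]
  have hoo : Odd (orderOf (o : X)) :=
    hodd.of_dvd_nat (orderOf_coe (⟨o, ho⟩ : O) ▸ orderOf_dvd_natCard (⟨o, ho⟩ : O))
  obtain ⟨k, hk⟩ := hoo
  have hiter : ∀ j : ℕ, ∀ y ∈ Q, (o : X) ^ (2 * j + 1) * y * ((o : X) ^ (2 * j + 1))⁻¹ = y⁻¹ := by
    intro j
    induction j with
    | zero => intro y hy; simpa using hoinv y hy
    | succ j ih =>
      intro y hy
      rw [show 2 * (j + 1) + 1 = (2 * j + 1) + 1 + 1 by omega, pow_succ, pow_succ]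
      calc _ = (o : X) ^ (2 * j + 1) * ((o : X) * ((o : X) * y * (o : X)⁻¹) * (o : X)⁻¹) *
            ((o : X) ^ (2 * j + 1))⁻¹ := by group
        _ = y⁻¹ := by rw [hoinv y hy, hoinv _ (inv_mem hy), inv_inv, ih y hy]
  have h := hiter k x hx
  rw [← hk, pow_orderOf_eq_one, one_mul, inv_one, mul_one] at h
  have hsq : x * x = 1 := by nth_rw 2 [h]; exact mul_inv_cancel x
  have hxo : orderOf x ∣ 2 := orderOf_dvd_of_pow_eq_one (by rw [pow_two, hsq])
  have hxO : orderOf x ∣ Nat.card O :=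
    orderOf_coe (⟨x, hQO hx⟩ : O) ▸ orderOf_dvd_natCard (⟨x, hQO hx⟩ : O)
  exact hx1 (orderOf_eq_one_iff.1 (Nat.eq_one_of_dvd_coprimes
    (Nat.coprime_two_left.2 hodd) hxo hxO))

end key

variable {G : Type u} [Group G] [Finite G] {n : ℕ}

/-- A normal solvable subgroup misses one of the odd numbers. -/
theorem not_three_colours (hn : Odd n) (h3 : 3 ≤ n) (hS : Small G n) (R : Subgroup G) [R.Normal]
    (hR : Group.IsSolvable R) (M : Subgroup (G ⧸ R)) [IsSimpleGroup M]
    (hM : ∃ a b : M, a * b ≠ b * a) (hu : ∃ u : M, orderOf u = 4) :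
    ∃ i : Fin 4, i ≠ 0 ∧ (Nat.card R).Coprime (num n i) := by
  classical
  haveI : Fact (Nat.Prime 2) := ⟨Nat.prime_two⟩
  haveI := hR
  by_contra hcon
  push Not at hcon
  have hp : ∀ i : Fin 4, i ≠ 0 → ∃ p, p.Prime ∧ p ∣ Nat.card R ∧ p ∣ num n i :=
    fun i hi => Nat.Prime.not_coprime_iff_dvd.1 (hcon i hi)
  choose p hpp hpR hpn using hp
  have hp2 : ∀ i hi, p i hi ≠ 2 := fun i hi h => by
    have h1 := hpn i hi
    rw [h] at h1
    have := Nat.odd_iff.1 (odd_num h3 hi)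
    omega
  -- Hall subgroup of odd order
  set e := (Nat.card R).factorization 2 with he
  set m := Nat.card R / 2 ^ e with hm
  have hRm : Nat.card R = m * 2 ^ e := by
    rw [hm, mul_comm]; exact (Nat.ordProj_mul_ordCompl_eq_self _ 2).symm
  have hm2 : ¬ 2 ∣ m := Nat.not_dvd_ordCompl Nat.prime_two Nat.card_pos.ne'
  have hcop : m.Coprime (2 ^ e) :=
    ((Nat.Prime.coprime_iff_not_dvd Nat.prime_two).2 hm2).symm.pow_right _
  obtain ⟨O₀, hO₀⟩ := Cfsg.Agent.Solvable.exists_hall hRm hcop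
  set O : Subgroup G := O₀.map R.subtype with hO
  have hOc : Nat.card O = m := by
    rw [hO, card_map_of_injective R.subtype_injective, hO₀]
  have hOodd : Odd (Nat.card O) := by rw [hOc, Nat.odd_iff]; omega
  have hOR : O ≤ R := map_subtype_le _
  have hNR : ∀ g : G, ∃ r ∈ R, r * g ∈ normalizer (O : Set G) := by
    intro g
    set φ : MulAut R := MulAut.conjNormal g
    obtain ⟨r, hr⟩ := Cfsg.Agent.Solvable.hall_conj hRm hcop (O₀.map φ.toMonoidHom) O₀
      ((card_map_of_injective (f := φ.toMonoidHom) φ.injective).trans hO₀) hO₀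
    refine ⟨r, r.2, ?_⟩
    rw [mem_normalizer_iff_map_conj_eq]
    have hcomp : R.subtype.comp ((MulAut.conj r).toMonoidHom.comp φ.toMonoidHom) =
        ((MulAut.conj ((r : G) * g)).toMonoidHom).comp R.subtype := by
      ext x; simp [φ, mul_assoc]
    have hr' : (O₀.map φ.toMonoidHom).map (MulAut.conj r).toMonoidHom = O₀ := hr
    conv_rhs => rw [hO, ← hr']
    rw [hO, map_map, map_map, map_map, MonoidHom.comp_assoc, hcomp]
    rfl
  set π := QuotientGroup.mk' R with hπ
  -- a least subgroup over `M` inside the normaliser of `O`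
  let U : Set (Subgroup G) := {Y | O ≤ Y ∧ Y ≤ normalizer (O : Set G) ∧ Y.map π = M}
  have hUne : U.Nonempty := by
    refine ⟨normalizer (O : Set G) ⊓ M.comap π,
      le_inf Subgroup.le_normalizer (fun x hx => ?_), inf_le_left, ?_⟩
    · show π x ∈ M
      rw [show π x = 1 from (QuotientGroup.eq_one_iff x).2 (hOR hx)]
      exact one_mem _
    · refine le_antisymm (map_le_iff_le_comap.2 inf_le_right) fun y hy => ?_
      obtain ⟨g, rfl⟩ := QuotientGroup.mk'_surjective R y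
      obtain ⟨r, hr, hrg⟩ := hNR g
      have he' : π (r * g) = π g := by
        rw [map_mul, show π r = 1 from (QuotientGroup.eq_one_iff r).2 hr, one_mul]
      exact ⟨r * g, ⟨hrg, show π (r * g) ∈ M by rw [he']; exact hy⟩, he'⟩
  obtain ⟨X, ⟨hOX, hXN, hXM⟩, hmin⟩ := (Set.toFinite U).exists_minimal hUne
  haveI hOn : (O.subgroupOf X).Normal :=
    ⟨fun o ho g => (mem_normalizer_iff.1 (hXN g.2) (o : G)).1 ho⟩
  let f : X →* M := (π.comp X.subtype).codRestrict M fun x => hXM ▸ mem_map_of_mem π x.2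
  have hf : Function.Surjective f := by
    rintro ⟨y, hy⟩
    obtain ⟨x, hx, rfl⟩ : y ∈ X.map π := hXM.symm ▸ hy
    exact ⟨⟨x, hx⟩, rfl⟩
  have hfker : ∀ x : X, f x = 1 → (x : G) ∈ R := fun x hx =>
    (QuotientGroup.eq_one_iff _).1 (congrArg Subtype.val hx :)
  have hkerS : Group.IsSolvable f.ker :=
    Group.isSolvable_of_isSolvable_injective
      (f := (X.subtype.comp f.ker.subtype).codRestrict R fun x => hfker x.1 x.2)
      (fun a b h => Subtype.ext (Subtype.ext (congrArg Subtype.val h :)))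
  have hMperf : commutator M = ⊤ := by
    refine (Normal.eq_bot_or_eq_top inferInstance).resolve_left fun h => ?_
    obtain ⟨a, b, hab⟩ := hM
    refine hab (commutatorElement_eq_one_iff_mul_comm.1 (mem_bot.1 (h ▸ ?_)))
    exact commutator_mem_commutator (mem_top a) (mem_top b)
  have hperf : commutator X ⊔ O.subgroupOf X = ⊤ := by
    have hle : ((commutator X ⊔ O.subgroupOf X).map X.subtype) ∈ U := by
      refine ⟨fun x hx => ⟨⟨x, hOX hx⟩, mem_sup_right hx, rfl⟩,
        (map_subtype_le _).trans hXN, le_antisymm ?_ ?_⟩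
      · exact (map_mono (map_subtype_le _)).trans hXM.le
      · intro y hy
        have h1 : (commutator X).map f = ⊤ := by
          rw [_root_.commutator_def, map_commutator, ← MonoidHom.range_eq_map,
            MonoidHom.range_eq_top.2 hf, ← _root_.commutator_def, hMperf]
        obtain ⟨x, hx, hxy⟩ : (⟨y, hy⟩ : M) ∈ (commutator X).map f := h1 ▸ mem_top _
        exact ⟨x, ⟨x, mem_sup_left hx, rfl⟩, congrArg Subtype.val hxy⟩
    have := hmin hle (map_subtype_le _)
    rw [eq_top_iff]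
    intro x _
    obtain ⟨x', hx', e'⟩ := this x.2
    exact Subtype.ext e' ▸ hx'
  -- an element of order four
  obtain ⟨u₀, hu₀⟩ := hu
  obtain ⟨y₀, hy₀⟩ := hf u₀
  set a := (orderOf y₀).factorization 2
  set b := orderOf y₀ / 2 ^ a with hb
  have hob : orderOf y₀ = 2 ^ a * b := (Nat.ordProj_mul_ordCompl_eq_self _ 2).symm
  have hb0 : b ≠ 0 := fun h => (orderOf_pos y₀).ne' (by rw [hob, h, mul_zero])
  set y := y₀ ^ b
  have hyo : orderOf y = 2 ^ a := by
    rw [orderOf_pow_of_dvd hb0 (Dvd.intro_left _ hob.symm), hob, Nat.mul_div_cancel]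
    exact Nat.pos_of_ne_zero hb0
  have hfy : orderOf (f y) = 4 := by
    rw [map_pow, hy₀, orderOf_pow' u₀ hb0, hu₀]
    have : Nat.Coprime 4 b := by
      rw [show 4 = 2 ^ 2 from rfl]
      exact ((Nat.Prime.coprime_iff_not_dvd Nat.prime_two).2
        (Nat.not_dvd_ordCompl Nat.prime_two (orderOf_pos y₀).ne')).pow_left _
    rw [this, Nat.div_one]
  have ha : a = 2 := by
    have h4 : 4 ∣ 2 ^ a := by rw [← hyo, ← hfy]; exact orderOf_map_dvd f y
    rw [show 4 = 2 ^ 2 from rfl, Nat.pow_dvd_pow_iff_le_right (by norm_num)] at h4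
    by_contra hne
    refine hS.no_eight hn h3 ((y : G) ^ 2 ^ (a - 3)) ?_
    rw [orderOf_pow_of_dvd (by positivity)
      (by rw [orderOf_coe, hyo]; exact pow_dvd_pow 2 (by omega)), orderOf_coe, hyo,
      Nat.pow_div (by omega) (by norm_num), show a - (a - 3) = 3 by omega]
  have hy4 : orderOf y = 4 := by rw [hyo, ha]; norm_num
  set t := y * y with ht
  have htt : t * t = 1 := by
    rw [ht, show y * y * (y * y) = y ^ 4 by rw [pow_succ, pow_succ, pow_two]; group,
      ← hy4, pow_orderOf_eq_one]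
  have hft : f t ≠ 1 := fun h => by
    have h1 : orderOf (f y) ∣ 2 := orderOf_dvd_of_pow_eq_one (by rw [pow_two, ← map_mul]; exact h)
    rw [hfy] at h1
    omega
  have hto : orderOf (t : G) = 2 := by
    refine orderOf_eq_prime ?_ fun h => hft ?_
    · rw [pow_two]; exact congrArg Subtype.val htt
    · rw [show t = 1 from Subtype.ext h, map_one]
  have hOcard : Nat.card (O.subgroupOf X) = m := by
    rw [Nat.card_congr (subgroupOfEquivOfLe hOX).toEquiv, hOc]
  haveI hOsol : Group.IsSolvable (O.subgroupOf X) :=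
    Group.isSolvable_of_isSolvable_injective
      (f := (X.subtype.comp (O.subgroupOf X).subtype).codRestrict R fun x => hOR x.2)
      (fun a b h => Subtype.ext (Subtype.ext (congrArg Subtype.val h :)))
  set K : Subgroup G := centralizer ({(t : G)} : Set G) ⊓ O with hK
  have hKp : ∀ i hi, ∃ x : K, orderOf x = p i hi := by
    intro i hi
    haveI := Fact.mk (hpp i hi)
    obtain ⟨P, hP⟩ := Cfsg.Agent.Coprime.exists_invariant_sylow (zpowers y) (O.subgroupOf X)
      (zpowers_le.2 (by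
        rw [normalizer_eq_top_iff.2 hOn]
        exact mem_top _))
      (by
        rw [Nat.card_zpowers, hy4, hOcard, show 4 = 2 ^ 2 from rfl]
        exact ((Nat.Prime.coprime_iff_not_dvd Nat.prime_two).2 hm2).pow_left _)
      (Or.inr hOsol) (p i hi)
    have hdvd : p i hi ∣ Nat.card (O.subgroupOf X) := by
      rw [hOcard]
      refine (Nat.Coprime.dvd_of_dvd_mul_right ?_ (hRm ▸ hpR i hi))
      exact ((Nat.coprime_primes (hpp i hi) Nat.prime_two).2 (hp2 i hi)).pow_right _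
    have htP := mul_mem (hP (mem_zpowers y)) (hP (mem_zpowers y))
    obtain ⟨x, hx, hxp, hxt⟩ := radical_exists_fixed f hf hkerS hM (O.subgroupOf X)
      (fun z hz => Subtype.ext ((QuotientGroup.eq_one_iff _).2 (hOR hz)))
      (by rw [hOcard, ← hOc]; exact hOodd) hperf htt hft P hdvd htP
    exact ⟨⟨x, mem_centralizer_singleton_iff.2 (congrArg Subtype.val hxt.eq), hx⟩, by
      rw [← orderOf_coe, ← hxp, ← orderOf_coe]⟩
  haveI hKsol : Group.IsSolvable K :=
    Group.isSolvable_of_isSolvable_injective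
      (f := K.subtype.codRestrict R fun x => hOR x.2.2)
      (fun a b h => Subtype.ext (congrArg Subtype.val h :))
  let q : Fin 3 → ℕ := fun j => p j.succ (Fin.succ_ne_zero j)
  have hq : ∀ j, (q j).Prime ∧ q j ∣ num n j.succ := fun j => ⟨hpp _ _, hpn _ _⟩
  have hinj : Function.Injective q := fun j k h =>
    Fin.succ_injective _ (eq_of_prime_dvd hn h3 (hq j).1 (hq j).2 (h ▸ (hq k).2))
  have hno : ∀ j k, q j ≠ q k → ¬ ∃ x : K, orderOf x = q j * q k := by
    rintro j k hjk ⟨x, hx⟩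
    have hxt : Commute (x : G) (t : G) := mem_centralizer_singleton_iff.1 x.2.1
    have hd : ∀ {r s : ℕ}, r.Prime → s ≠ 0 → orderOf x = r * s → orderOf ((x : G) ^ s) = r := by
      intro r s hr hs h
      rw [orderOf_pow_of_dvd hs (by rw [orderOf_coe, h]; exact dvd_mul_left s r), orderOf_coe, h,
        Nat.mul_div_cancel _ (Nat.pos_of_ne_zero hs)]
    exact hS.false_of_commute hn h3 (hd (hq j).1 (hq k).1.ne_zero hx)
      (hd (hq k).1 (hq j).1.ne_zero (hx.trans (mul_comm _ _))) hto (hq j).1 (hq k).1 Nat.prime_two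
      (hq j).2 (hq k).2 (i := j.succ) (j := k.succ) (k := 0) (by rw [num_zero]; norm_num)
      (fun e => hjk (congrArg q (Fin.succ_injective _ e)))
      (Fin.succ_ne_zero j) (Fin.succ_ne_zero k)
      ((Commute.refl _).pow_pow _ _) (hxt.pow_left _) (hxt.pow_left _)
  refine (S3633.result (Finset.univ.image q)
    (by rw [Finset.card_image_of_injective _ hinj]; simp) ⟨?_, ?_⟩ (⊤ : Subgroup K) inferInstance).2
    hKsol
  · simp only [Finset.mem_image, Finset.mem_univ, true_and]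
    rintro r ⟨j, rfl⟩
    obtain ⟨x, hx⟩ := hKp j.succ (Fin.succ_ne_zero j)
    exact ⟨(hq j).1, by rw [show q j = orderOf x from hx.symm]; exact orderOf_dvd_natCard x⟩
  · simp only [Finset.mem_image, Finset.mem_univ, true_and]
    rintro r ⟨j, rfl⟩ s ⟨k, rfl⟩ hne
    exact hno j k hne

section action

variable {Y A : Type*} [Group Y] [CommGroup A] [MulDistribMulAction Y A]

/-- A group normalised by an element of trivial norm whose powers act on it without fixed points
acts trivially, if its order is prime to the exponent. -/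
theorem radical_fixed_of_norm (Q : Subgroup Y) [Finite Q] (y : Y) (m : ℕ) (hm : 0 < m)
    (hQ : ∀ j : ℕ, ∀ q ∈ Q, y ^ j * q * (y ^ j)⁻¹ ∈ Q)
    (hfree : ∀ j : ℕ, 0 < j → j < m → ∀ q ∈ Q, Commute (y ^ j) q → q = 1)
    (hN : ∀ a : A, ∏ j ∈ Finset.range m, y ^ j • a = 1)
    {l : ℕ} (hA : ∀ a : A, a ^ l = 1) (hco : (Nat.card Q).Coprime l) :
    ∀ q ∈ Q, ∀ a : A, q • a = a := by
  classical
  haveI : Fintype Q := Fintype.ofFinite Q
  have hcard : ∀ a : A, a ^ Fintype.card Q = ∏ q : Q, (q : Y) • a := by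
    intro a
    obtain ⟨m', rfl⟩ := Nat.exists_eq_succ_of_ne_zero hm.ne'
    have h1 : ∏ j ∈ Finset.range (m' + 1), ∏ q : Q, ((q : Y) * y ^ j * (q : Y)⁻¹) • a = 1 := by
      rw [Finset.prod_comm]
      refine Finset.prod_eq_one fun q _ => ?_
      simp_rw [mul_smul]
      rw [← Finset.smul_prod', hN, smul_one]
    have h2 : ∀ j ∈ Finset.range m', ∏ q : Q, ((q : Y) * y ^ (j + 1) * (q : Y)⁻¹) • a =
        ∏ q : Q, (q : Y) • (y ^ (j + 1) • a) := by
      intro j hj
      let φ : Q → Q := fun q => ⟨(q : Y) * (y ^ (j + 1) * (q : Y)⁻¹ * (y ^ (j + 1))⁻¹),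
        Q.mul_mem q.2 (hQ _ _ (Q.inv_mem q.2))⟩
      have hφ : Function.Injective φ := by
        intro q r h
        have h' : (q : Y) * (y ^ (j + 1) * (q : Y)⁻¹ * (y ^ (j + 1))⁻¹) =
            (r : Y) * (y ^ (j + 1) * (r : Y)⁻¹ * (y ^ (j + 1))⁻¹) := congrArg Subtype.val h
        have h'' : (r : Y)⁻¹ * q = y ^ (j + 1) * ((r : Y)⁻¹ * q) * (y ^ (j + 1))⁻¹ := by
          calc (r : Y)⁻¹ * q = (r : Y)⁻¹ * ((q : Y) * (y ^ (j + 1) * (q : Y)⁻¹ * (y ^ (j + 1))⁻¹)) *
                (y ^ (j + 1) * q * (y ^ (j + 1))⁻¹) := by group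
            _ = y ^ (j + 1) * ((r : Y)⁻¹ * q) * (y ^ (j + 1))⁻¹ := by rw [h']; group
        have h3 := hfree (j + 1) (Nat.succ_pos j) (by simpa using hj) _
          (Q.mul_mem (Q.inv_mem r.2) q.2) (mul_inv_eq_iff_eq_mul.1 h''.symm)
        exact Subtype.ext (inv_mul_eq_one.1 h3).symm
      refine Fintype.prod_bijective φ (Finite.injective_iff_bijective.1 hφ) _ _ fun q => ?_
      rw [← mul_smul]
      congr 1
      simp [φ, mul_assoc]
    rw [Finset.prod_range_succ', Finset.prod_congr rfl h2, Finset.prod_comm] at h1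
    simp only [pow_zero, mul_one, mul_inv_cancel, one_smul, Finset.prod_const,
      Finset.card_univ] at h1
    have h3 : ∏ j ∈ Finset.range m', y ^ (j + 1) • a = a⁻¹ := by
      have := hN a
      rw [Finset.prod_range_succ', pow_zero, one_smul] at this
      exact eq_inv_of_mul_eq_one_left this
    simp_rw [← Finset.smul_prod', h3, smul_inv', Finset.prod_inv_distrib] at h1
    exact (inv_mul_eq_one.1 h1).symm
  intro q hq a
  obtain ⟨s, hs⟩ := exists_pow_eq_self_of_coprime (x := a) (n := Fintype.card Q)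
    (Nat.Coprime.coprime_dvd_right (orderOf_dvd_of_pow_eq_one (hA a))
      (by rwa [← Nat.card_eq_fintype_card]))
  obtain ⟨b, rfl⟩ : ∃ b, a = ∏ r : Q, (r : Y) • b :=
    ⟨a ^ s, by rw [← hcard, ← pow_mul, mul_comm, pow_mul, hs]⟩
  rw [Finset.smul_prod']
  refine Fintype.prod_bijective (fun r : Q => (⟨q, hq⟩ : Q) * r) (Group.mulLeft_bijective _) _ _
    fun r => ?_
  simp [mul_smul]

variable (M : Subgroup Y) [IsSimpleGroup M] (W : Subgroup A)

/-- A simple group acts trivially or faithfully. -/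
theorem radical_trivial_or_faithful (hW : ∀ g ∈ M, ∀ w ∈ W, g • w ∈ W) :
    (∀ g ∈ M, ∀ w ∈ W, g • w = w) ∨ ∀ g ∈ M, (∀ w ∈ W, g • w = w) → g = 1 := by
  let K : Subgroup M :=
    { carrier := {g | ∀ w ∈ W, (g : Y) • w = w}
      one_mem' := fun w _ => by simp
      mul_mem' := fun {a b} ha hb w hw => by
        rw [Subgroup.coe_mul, mul_smul, hb w hw, ha w hw]
      inv_mem' := fun {a} ha w hw => by
        rw [Subgroup.coe_inv, inv_smul_eq_iff, ha w hw] }
  haveI : K.Normal := ⟨fun a ha g w hw => by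
    have h1 := ha _ (hW _ (M.inv_mem g.2) w hw)
    rw [Subgroup.coe_mul, Subgroup.coe_mul, Subgroup.coe_inv, mul_smul, mul_smul, h1,
      smul_inv_smul]⟩
  rcases Normal.eq_bot_or_eq_top (H := K) inferInstance with h | h
  · refine Or.inr fun g hg hfix => ?_
    have h1 : (⟨g, hg⟩ : M) ∈ K := hfix
    rw [h, mem_bot] at h1
    exact congrArg Subtype.val h1
  · refine Or.inl fun g hg => ?_
    exact show (⟨g, hg⟩ : M) ∈ K from h ▸ mem_top _

/-- An involution of a non-abelian simple group fixes a point of an invariant subgroup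
of an abelian group. -/
theorem radical_involution (hM : ∃ a b : M, a * b ≠ b * a)
    (hW : ∀ g ∈ M, ∀ w ∈ W, g • w ∈ W) (hne : W ≠ ⊥)
    {z : Y} (hzM : z ∈ M) (hzz : z * z = 1) (hz1 : z ≠ 1) :
    ∃ w ∈ W, w ≠ 1 ∧ z • w = w := by
  by_contra hno
  push Not at hno
  have hinv : ∀ w ∈ W, z • w = w⁻¹ := by
    intro w hw
    by_contra h
    refine hno (w * z • w) (W.mul_mem hw (hW z hzM w hw))
      (fun e => h (eq_inv_of_mul_eq_one_right e)) ?_
    rw [smul_mul', ← mul_smul, hzz, one_smul, mul_comm]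
  obtain ⟨w₀, hw₀, hw₁⟩ := (bot_or_exists_ne_one W).resolve_left hne
  rcases radical_trivial_or_faithful M W hW with h | h
  · exact hno w₀ hw₀ hw₁ (h z hzM w₀ hw₀)
  · have hcen : (⟨z, hzM⟩ : M) ∈ center M := mem_center_iff.2 fun g => by
      have h1 := h ((g : Y) * z * (g : Y)⁻¹ * z)
        (M.mul_mem (M.mul_mem (M.mul_mem g.2 hzM) (M.inv_mem g.2)) hzM) fun w hw => by
        rw [mul_smul, mul_smul, mul_smul, hinv w hw, smul_inv',
          hinv _ (W.inv_mem (hW _ (M.inv_mem g.2) w hw)), inv_inv, smul_inv_smul]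
      apply Subtype.ext
      show (g : Y) * z = z * g
      rw [← mul_inv_eq_iff_eq_mul, ← inv_eq_of_mul_eq_one_right hzz]
      exact eq_inv_of_mul_eq_one_left (by rw [inv_eq_of_mul_eq_one_right hzz]; exact h1)
    rcases Normal.eq_bot_or_eq_top (H := center M) inferInstance with h' | h'
    · have h2 : (⟨z, hzM⟩ : M) ∈ (⊥ : Subgroup M) := by rw [← h']; exact hcen
      exact hz1 (congrArg Subtype.val (mem_bot.1 h2))
    · obtain ⟨a, b, hab⟩ := hM
      exact hab (mem_center_iff.1 (h' ▸ mem_top b) a)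

end action

section arith

variable {n : ℕ}

/-- The primes of the numbers of a subfield. -/
theorem radical_index (hn : Odd n) (h3 : 3 ≤ n) {k : ℕ} (hk : Odd k) (hk3 : 3 ≤ k) (hkn : k ∣ n)
    {p : ℕ} (hp : p.Prime) :
    (p ∣ num k 1 → p ∣ num n 1) ∧ (p ∣ num k 2 → p ∣ num n 2 ∨ p ∣ num n 3) := by
  obtain ⟨c, rfl⟩ := hkn
  refine ⟨fun h => ?_, fun h => ?_⟩
  · rw [num_one] at h ⊢
    exact h.trans (Nat.pow_sub_one_dvd_pow_sub_one 2 (Dvd.intro c rfl))
  · refine hp.dvd_mul.1 ?_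
    rw [num_two_mul_num_three hn h3]
    refine (h.trans (Dvd.intro (num k 3) rfl)).trans ?_
    rw [num_two_mul_num_three hk hk3, ← pow_add, ← pow_add,
      show k * c + k * c = (k + k) * c by ring, pow_mul]
    have hodd : Odd c := (Nat.odd_mul.1 hn).2
    simpa using hodd.nat_add_dvd_pow_add_pow (2 ^ (k + k)) 1

end arith

section lifts

variable {X : Type u} [Group X] {Y : Type*} [Group Y] (f : X →* Y)

theorem radical_exists_lift {l p : ℕ} (hl : l.Prime) (hp : p.Prime) (hpl : p ≠ l)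
    (hV : ∀ v ∈ f.ker, v ^ l = 1) {H : Subgroup X} {y : Y} (hy : y ∈ H.map f)
    (hyo : orderOf y = p) : ∃ x ∈ H, f x = y ∧ orderOf x = p := by
  haveI := Fact.mk hp
  obtain ⟨g, hg, rfl⟩ := hy
  obtain ⟨s, hs⟩ := exists_pow_eq_self_of_coprime (x := f g) (n := l)
    (by rw [hyo]; exact (Nat.coprime_primes hl hp).2 (Ne.symm hpl))
  refine ⟨(g ^ l) ^ s, H.pow_mem (H.pow_mem hg l) s, by rw [map_pow, map_pow, hs], ?_⟩
  refine orderOf_eq_prime ?_ fun e => ?_
  · rw [← pow_mul, ← pow_mul, show l * (s * p) = p * (l * s) by ring, pow_mul, pow_mul,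
      hV _ (show g ^ p ∈ f.ker by rw [MonoidHom.mem_ker, map_pow, ← hyo, pow_orderOf_eq_one]),
      one_pow]
  · have h1 : f g = 1 := by rw [← hs, ← map_pow, ← map_pow, e, map_one]
    rw [h1, orderOf_one] at hyo
    exact hp.ne_one hyo.symm

theorem radical_centraliser_lift {l p : ℕ} (hl : l.Prime) (hp : p.Prime) (hpl : p ≠ l)
    (hV : ∀ v ∈ f.ker, v ^ l = 1) (hVc : ∀ v ∈ f.ker, ∀ w ∈ f.ker, Commute v w)
    (hf : Function.Surjective f) {x : X} (hx : orderOf x = p) {z : Y} (hz : Commute z (f x)) :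
    z ∈ (centralizer ({x} : Set X)).map f := by
  obtain ⟨g, rfl⟩ := hf z
  letI : CommGroup f.ker :=
    { (inferInstance : Group f.ker) with
      mul_comm := fun a b => Subtype.ext (hVc a a.2 b b.2).eq }
  set x' := g * x * g⁻¹ with hx'
  have hfx' : f x' = f x := by rw [hx', map_mul, map_mul, map_inv, hz.eq, mul_inv_cancel_right]
  let c : ℕ → f.ker := fun i => ⟨x' ^ i * (x ^ i)⁻¹, by
    rw [MonoidHom.mem_ker, map_mul, map_inv, map_pow, map_pow, hfx', mul_inv_cancel]⟩
  let φ : f.ker →* f.ker := (MulAut.conjNormal x).toMonoidHom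
  have hstep : ∀ i, c (i + 1) = c 1 * φ (c i) := fun i => Subtype.ext (by
    show x' ^ (i + 1) * (x ^ (i + 1))⁻¹ = x' ^ 1 * (x ^ 1)⁻¹ * (x * (x' ^ i * (x ^ i)⁻¹) * x⁻¹)
    rw [pow_succ' x', pow_succ' x]
    group)
  have hxp' : x' ^ p = 1 := by rw [hx', conj_pow, ← hx, pow_orderOf_eq_one]; group
  have hsum : ∏ i ∈ Finset.range p, c (i + 1) = ∏ i ∈ Finset.range p, c i := by
    have h1 := Finset.prod_range_succ c p
    rw [Finset.prod_range_succ'] at h1
    have h2 : c p = c 0 := Subtype.ext (by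
      show x' ^ p * (x ^ p)⁻¹ = x' ^ 0 * (x ^ 0)⁻¹
      rw [hxp', ← hx, pow_orderOf_eq_one, pow_zero, pow_zero])
    rw [h2] at h1
    exact mul_right_cancel h1
  rw [Finset.prod_congr rfl fun i _ => hstep i, Finset.prod_mul_distrib, Finset.prod_const,
    Finset.card_range, ← map_prod] at hsum
  obtain ⟨s, hs⟩ := exists_pow_eq_self_of_coprime (x := c 1) (n := p)
    (Nat.Coprime.coprime_dvd_right (orderOf_dvd_of_pow_eq_one
      (Subtype.ext (hV _ (c 1).2))) ((Nat.coprime_primes hp hl).2 hpl))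
  have hb := congrArg (fun v => v ^ s) hsum
  simp only [mul_pow, hs, ← map_pow] at hb
  generalize (∏ i ∈ Finset.range p, c i) ^ s = b at hb
  have hb' : x' * x⁻¹ * (x * (b : X) * x⁻¹) = b := by
    have := congrArg Subtype.val hb
    simpa [c, φ] using this
  refine ⟨(b : X)⁻¹ * g, mem_centralizer_singleton_iff.2 ?_, ?_⟩
  · calc (b : X)⁻¹ * g * x = (b : X)⁻¹ * (x' * x⁻¹ * (x * (b : X) * x⁻¹)) * x *
          ((b : X)⁻¹ * g) := by rw [hx']; group
      _ = x * ((b : X)⁻¹ * g) := by rw [hb']; group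
  · rw [map_mul, map_inv, show f (b : X) = 1 from b.2, inv_one, one_mul]

end lifts

section two

variable {n : ℕ}

theorem radical_key (hn : Odd n) (h3 : 3 ≤ n) {X : Type u} [Group X] [Finite X]
    (hS : Small X n) {Y : Type*} [Group Y] (f : X →* Y) (hf : Function.Surjective f)
    {l : ℕ} (hl : l.Prime) (hV : ∀ v ∈ f.ker, v ^ l = 1)
    (hVc : ∀ v ∈ f.ker, ∀ w ∈ f.ker, Commute v w) (hne : f.ker ≠ ⊥)
    (M₁ M₂ : Subgroup Y) (hc : ∀ x ∈ M₁, ∀ y ∈ M₂, Commute x y) {k : ℕ} (hk : Odd k)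
    (hk3 : 3 ≤ k) (hkn : k ∣ n) (F₁ : SzFacts M₁ k) (F₂ : SzFacts M₂ n) : False := by
  classical
  haveI : Finite Y := Finite.of_surjective f hf
  haveI := F₁.simple
  haveI := F₂.simple
  haveI : Fact l.Prime := ⟨hl⟩
  letI : CommGroup f.ker :=
    { (inferInstance : Group f.ker) with
      mul_comm := fun a b => Subtype.ext (hVc a a.2 b b.2).eq }
  have hle : f.ker ≤ (MulAut.conjNormal : X →* MulAut f.ker).ker := fun g hg =>
    MulEquiv.ext fun v => Subtype.ext (by
      rw [MulAut.conjNormal_apply, (hVc g hg v v.2).eq, mul_inv_cancel_right]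
      rfl)
  let ρ : Y →* MulAut f.ker := f.liftOfSurjective hf ⟨MulAut.conjNormal, hle⟩
  letI : MulDistribMulAction Y f.ker := MulDistribMulAction.compHom f.ker ρ
  have hact : ∀ (g : X) (v : f.ker), ((f g • v : f.ker) : X) = g * v * g⁻¹ := by
    intro g v
    show ((ρ (f g) v : f.ker) : X) = _
    rw [show ρ (f g) = MulAut.conjNormal g from
      MonoidHom.liftOfRightInverse_comp_apply _ _ _ _ g, MulAut.conjNormal_apply]
  have hcomm : ∀ (g : X) (v : f.ker), f g • v = v → Commute g (v : X) := fun g v h =>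
    mul_inv_eq_iff_eq_mul.1 (by rw [← hact g v, h])
  have hlcard : l ∣ Nat.card X := by
    obtain ⟨v, hv, hv1⟩ := (bot_or_exists_ne_one f.ker).resolve_left hne
    rw [← orderOf_eq_prime (hV v hv) hv1]
    exact orderOf_dvd_natCard v
  obtain ⟨L, hL⟩ := hS.exists_index hl hlcard
  have hA : ∀ a : f.ker, a ^ l = 1 := fun a => Subtype.ext (hV _ a.2)
  have hord : ∀ {v : f.ker}, v ≠ 1 → orderOf (v : X) = l := fun {v} hv =>
    orderOf_eq_prime (hV _ v.2) fun h => hv (Subtype.ext h)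
  have hne' : (⊤ : Subgroup f.ker) ≠ ⊥ := fun h => hne <| (eq_bot_iff_forall _).2 fun v hv => by
    have h1 : (⟨v, hv⟩ : f.ker) ∈ (⊥ : Subgroup f.ker) := h ▸ mem_top _
    exact congrArg Subtype.val (mem_bot.1 h1)
  -- the norm of an element whose lifts cannot have a larger order
  have hnorm : ∀ (y : Y) (e : ℕ), ¬ l ^ (e + 1) ∣ num n L → y ^ l ^ e = 1 →
      ∀ a : f.ker, ∏ j ∈ Finset.range (l ^ e), y ^ j • a = 1 := by
    intro y e he hye a
    obtain ⟨g, rfl⟩ := hf y
    have hpow : ∀ g' : X, f g' = f g → g' ^ l ^ e = 1 := by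
      intro g' hg'
      have h1 : g' ^ l ^ e ∈ f.ker := by rw [MonoidHom.mem_ker, map_pow, hg', hye]
      have h2 : orderOf g' ∣ l ^ (e + 1) :=
        orderOf_dvd_of_pow_eq_one (by rw [pow_succ, pow_mul, hV _ h1])
      obtain ⟨i, hi, hi'⟩ := (Nat.dvd_prime_pow hl).1 h2
      refine orderOf_dvd_iff_pow_eq_one.1 (hi' ▸ pow_dvd_pow l ?_)
      by_contra hlt
      have hie : i = e + 1 := by omega
      exact he (hS.pow_dvd hn h3 hl hL (g := g') (by rw [hi', hie]))
    have key : ∀ m : ℕ, ((a : X) * g) ^ m =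
        ((∏ j ∈ Finset.range m, f g ^ j • a : f.ker) : X) * g ^ m := by
      intro m
      induction m with
      | zero => simp
      | succ m ih =>
        rw [pow_succ, ih, Finset.prod_range_succ, Subgroup.coe_mul, ← map_pow, hact, pow_succ]
        group
    have h1 := key (l ^ e)
    rw [hpow g rfl, hpow ((a : X) * g) (by rw [map_mul, show f (a : X) = 1 from a.2, one_mul]),
      mul_one] at h1
    exact Subtype.ext h1.symm
  -- lifts
  have hlift : ∀ {p q : ℕ} {y z : Y}, p.Prime → q.Prime → p ≠ l → q ≠ l → orderOf y = p →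
      orderOf z = q → Commute y z →
      ∃ x x' : X, f x = y ∧ f x' = z ∧ orderOf x = p ∧ orderOf x' = q ∧ Commute x x' := by
    intro p q y z hp hq hpl hql hy hz hyz
    obtain ⟨x, -, hx, hxo⟩ := radical_exists_lift f hl hp hpl hV (H := ⊤)
      (map_top_of_surjective f hf ▸ mem_top y) hy
    obtain ⟨x', hx'H, hx', hx'o⟩ := radical_exists_lift f hl hq hql hV
      (radical_centraliser_lift f hl hp hpl hV hVc hf hxo (z := z) (hx ▸ hyz.symm)) hz
    exact ⟨x, x', hx, hx', hxo, hx'o, (mem_centralizer_singleton_iff.1 hx'H :).symm⟩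
  have hprime : ∀ {M : Subgroup Y} {K : ℕ}, SzFacts M K → ∀ (i : Fin 4) (p : ℕ), p ∣ num K i →
      0 < num K i → ∃ y ∈ M, orderOf y = p := by
    intro M K F i p hp hpos
    obtain ⟨g, hg⟩ := F.exists_order i
    refine ⟨((g ^ (num K i / p) : M) : Y), (g ^ (num K i / p) : M).2, ?_⟩
    have h1 := orderOf_pow_orderOf_div (orderOf_pos g).ne' (hg ▸ hp : p ∣ orderOf g)
    rw [hg] at h1
    rw [orderOf_coe, h1]
  have hposk : ∀ i : Fin 4, 0 < num k i := fun i => by have := two_le_num hk3 i; omega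
  have hposn : ∀ i : Fin 4, 0 < num n i := fun i => by have := two_le_num h3 i; omega
  have hinvol : ∀ {M : Subgroup Y} {K : ℕ}, SzFacts M K → 3 ≤ K →
      ∃ z ∈ M, orderOf z = 2 := fun {M K} F hK => hprime F 0 2 (by rw [num_zero]; norm_num)
        (by rw [num_zero]; norm_num)
  have hp2 : ∀ {K : ℕ} {i : Fin 4} {p : ℕ}, 3 ≤ K → i ≠ 0 → p ∣ num K i → p ≠ 2 := by
    intro K i p hK hi hp h
    have := Nat.odd_iff.1 (odd_num hK hi)
    rw [h] at hp
    omega
  have hQ2 : ∀ {M : Subgroup Y} (Q : Subgroup M), (∀ x ∈ Q, x ^ 2 = 1) → l ≠ 2 →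
      (Nat.card (Q.map M.subtype)).Coprime l := by
    intro M Q hQ hl2
    haveI := Fact.mk Nat.prime_two
    obtain ⟨i, hi⟩ := IsPGroup.iff_card.1 (show IsPGroup 2 Q from
      fun x => ⟨1, Subtype.ext (hQ _ x.2)⟩)
    rw [card_map_of_injective M.subtype_injective, hi]
    exact Nat.Coprime.pow_left _ ((Nat.coprime_primes Nat.prime_two hl).2 (Ne.symm hl2))
  -- the Borel subgroup moves nothing
  have hborel : ∀ {M : Subgroup Y} [IsSimpleGroup M] {K : ℕ}, SzFacts M K → l ≠ 2 →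
      ∀ d, d ∣ num K 1 → 0 < num K 1 →
      ∃ y ∈ M, orderOf y = d ∧ ((∀ a : f.ker, ∏ j ∈ Finset.range d, y ^ j • a = 1) →
        ∀ g ∈ M, ∀ a : f.ker, g • a = a) := by
    intro M _ K F hl2 d hd hpos
    obtain ⟨Q, t, hQne, hQ, hto, hnormQ, hfpf⟩ := F.borel
    set s := t ^ (num K 1 / d) with hs
    have hso : orderOf s = d := by
      rw [hs, ← hto, orderOf_pow_orderOf_div (orderOf_pos t).ne' (hto ▸ hd)]
    refine ⟨(s : Y), s.2, by rw [orderOf_coe, hso], fun hN => ?_⟩
    have hsn : ∀ (j : ℕ), ∀ x ∈ Q, t ^ j * x * (t ^ j)⁻¹ ∈ Q := by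
      intro j
      induction j with
      | zero => intro x hx; simpa using hx
      | succ j ih =>
        intro x hx
        rw [pow_succ', show t * t ^ j * x * (t * t ^ j)⁻¹ = t * (t ^ j * x * (t ^ j)⁻¹) * t⁻¹ by
          group]
        exact hnormQ _ (ih x hx)
    have hfix : ∀ q ∈ Q.map M.subtype, ∀ a : f.ker, q • a = a := by
      refine radical_fixed_of_norm (Q.map M.subtype) (s : Y) d
        (Nat.pos_of_dvd_of_pos hd hpos) ?_ ?_ hN hA (hQ2 Q hQ hl2)
      · rintro j _ ⟨x, hx, rfl⟩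
        exact ⟨s ^ j * x * (s ^ j)⁻¹, by rw [hs, ← pow_mul]; exact hsn _ x hx, by simp⟩
      · rintro j hj0 hjd _ ⟨x, hx, rfl⟩ hcom
        have h1 : s ^ j ∈ zpowers t :=
          pow_mem (hs ▸ pow_mem (mem_zpowers t) _) _
        rw [hfpf (s ^ j) h1 (pow_ne_one_of_lt_orderOf hj0.ne' (hso ▸ hjd)) x hx
          (Subtype.ext (by simpa using hcom.eq)), map_one]
    rcases radical_trivial_or_faithful M (⊤ : Subgroup f.ker) (fun _ _ _ _ => mem_top _) with h | h
    · exact fun g hg a => h g hg a (mem_top a)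
    · obtain ⟨q, hq, hq1⟩ := (bot_or_exists_ne_one Q).resolve_left hQne
      exact absurd (Subtype.ext (h q q.2 fun w _ => hfix _ ⟨q, hq, rfl⟩ w)) hq1
  by_cases hL0 : L = 0
  · -- elementary abelian two-group
    subst hL0
    obtain rfl : l = 2 := eq_two_of_dvd_num_zero hl hL
    have hfixed : ∀ {M : Subgroup Y} {p : ℕ} (y u : M), p.Prime → p ≠ 2 → orderOf y = p →
        orderOf u = 4 → u * y * u⁻¹ ∈ zpowers y → u ^ 2 * y * (u ^ 2)⁻¹ = y⁻¹ →
        ∀ a : f.ker, (y : Y) • a = a := by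
      intro M p y u hp hp2' hy hu hnu hinv a
      haveI := Fact.mk hp
      have hu4 : u ^ 4 = 1 := hu ▸ pow_orderOf_eq_one u
      have hpow : ∀ (j : ℕ), ∀ q ∈ zpowers y, u ^ j * q * (u ^ j)⁻¹ ∈ zpowers y := by
        intro j
        induction j with
        | zero => intro q hq; simpa using hq
        | succ j ih =>
          rintro q ⟨i, rfl⟩
          rw [pow_succ, show u ^ j * u * y ^ i * (u ^ j * u)⁻¹ =
            u ^ j * (u * y ^ i * u⁻¹) * (u ^ j)⁻¹ by group, ← conj_zpow]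
          exact ih _ (zpow_mem hnu i)
      have hncomm : ∀ j : ℕ, 0 < j → j < 2 ^ 2 → ¬ Commute (u ^ j) y := by
        intro j hj0 hj h
        have h2 : Commute (u ^ 2) y := by
          obtain rfl | rfl | rfl : j = 1 ∨ j = 2 ∨ j = 3 := by omega
          · rw [pow_one] at h; exact h.pow_left 2
          · exact h
          · have h' := h.pow_left 2
            rwa [← pow_mul, show 3 * 2 = 4 + 2 from rfl, pow_add, hu4, one_mul] at h'
        have h5 : y = y⁻¹ := by rw [← hinv, h2.eq, mul_inv_cancel_right]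
        have h6 : orderOf y ∣ 2 := orderOf_dvd_of_pow_eq_one (by
          rw [pow_two]; nth_rw 2 [h5]; exact mul_inv_cancel y)
        rw [hy] at h6
        exact hp2' ((Nat.prime_dvd_prime_iff_eq hp Nat.prime_two).1 h6)
      refine radical_fixed_of_norm ((zpowers y).map M.subtype) (u : Y) (2 ^ 2) (by norm_num) ?_ ?_
        (hnorm (u : Y) 2 (by rw [num_zero]; norm_num) (by exact_mod_cast hu4)) hA ?_ _
        ⟨y, mem_zpowers y, rfl⟩ a
      · rintro j _ ⟨x, hx, rfl⟩
        exact ⟨u ^ j * x * (u ^ j)⁻¹, hpow j x hx, by simp⟩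
      · rintro j hj0 hj _ ⟨x, hx, rfl⟩ hcom
        by_contra hx1
        have hcom' : Commute (u ^ j) x := Subtype.ext (by simpa using hcom.eq)
        have hxo : orderOf x = p := ((Nat.dvd_prime hp).1 (hy ▸ orderOf_dvd_of_mem_zpowers hx)
          ).resolve_left fun h => hx1 (by rw [orderOf_eq_one_iff.1 h, map_one])
        have hy' : y ∈ zpowers x := by
          rw [eq_of_le_of_card_ge (zpowers_le.2 hx)
            (by rw [Nat.card_zpowers, Nat.card_zpowers, hy, hxo])]
          exact mem_zpowers y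
        obtain ⟨i, rfl⟩ := hy'
        exact hncomm j hj0 hj (hcom'.zpow_right i)
      · rw [card_map_of_injective M.subtype_injective, Nat.card_zpowers, hy]
        exact (Nat.coprime_primes hp Nat.prime_two).2 hp2'
    obtain ⟨p₁, hp₁, hp₁d⟩ := exists_prime_dvd_num hk3 2
    obtain ⟨j₁, j₂, hj₁, hj₂, hj₁₂, hp₁n⟩ : ∃ j₁ j₂ : Fin 4, (j₁ = 2 ∨ j₁ = 3) ∧
        (j₂ = 2 ∨ j₂ = 3) ∧ j₁ ≠ j₂ ∧ p₁ ∣ num n j₁ := by
      rcases (radical_index hn h3 hk hk3 hkn hp₁).2 hp₁d with h | h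
      · exact ⟨2, 3, Or.inl rfl, Or.inr rfl, by decide, h⟩
      · exact ⟨3, 2, Or.inr rfl, Or.inl rfl, by decide, h⟩
    have hj₁0 : j₁ ≠ 0 := by rcases hj₁ with rfl | rfl <;> decide
    have hj₂0 : j₂ ≠ 0 := by rcases hj₂ with rfl | rfl <;> decide
    obtain ⟨p₂, hp₂, hp₂n⟩ := exists_prime_dvd_num h3 j₂
    obtain ⟨y₁, u₁, hy₁, hu₁, hn₁, hi₁⟩ := F₁.four p₁ hp₁ 2 (Or.inl rfl) hp₁d
    obtain ⟨y₂, u₂, hy₂, hu₂, hn₂, hi₂⟩ := F₂.four p₂ hp₂ j₂ hj₂ hp₂n
    have hp₁2 := hp2 h3 hj₁0 hp₁n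
    have hp₂2 := hp2 h3 hj₂0 hp₂n
    obtain ⟨x₁, x₂, hx₁, hx₂, ho₁, ho₂, hxx⟩ := hlift (y := (y₁ : Y)) (z := (y₂ : Y)) hp₁ hp₂
      hp₁2 hp₂2 (by rw [orderOf_coe, hy₁]) (by rw [orderOf_coe, hy₂]) (hc _ y₁.2 _ y₂.2)
    obtain ⟨v, -, hv⟩ := (bot_or_exists_ne_one _).resolve_left hne'
    exact hS.false_of_commute hn h3 ho₁ ho₂ (hord hv) hp₁ hp₂ hl hp₁n hp₂n hL hj₁₂ hj₁0 hj₂0 hxx
      (hcomm _ _ (hx₁ ▸ hfixed y₁ u₁ hp₁ hp₁2 hy₁ hu₁ hn₁ hi₁ v))
      (hcomm _ _ (hx₂ ▸ hfixed y₂ u₂ hp₂ hp₂2 hy₂ hu₂ hn₂ hi₂ v))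
  have hl2 : l ≠ 2 := hp2 h3 hL0 hL
  by_cases hL1 : L = 1
  · -- the larger factor centralises
    subst hL1
    set e := (num n 1).factorization l
    have he : ¬ l ^ (e + 1) ∣ num n 1 :=
      Nat.pow_succ_factorization_not_dvd (hposn 1).ne' hl
    obtain ⟨s, -, hso, htriv⟩ := hborel F₂ hl2 (l ^ e) (Nat.ordProj_dvd _ _) (hposn 1)
    have hM₂ := htriv (hnorm s e he (hso ▸ pow_orderOf_eq_one s))
    obtain ⟨p, hp, hpd⟩ := exists_prime_dvd_num h3 2
    obtain ⟨y, hyM, hyo⟩ := hprime F₂ 2 p hpd (hposn 2)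
    obtain ⟨z, hzM, hzo⟩ := hinvol F₁ hk3
    obtain ⟨v, -, hv, hvz⟩ := radical_involution M₁ (⊤ : Subgroup f.ker) F₁.noncomm
      (fun _ _ _ _ => mem_top _) hne' hzM
      (by rw [← pow_two, ← hzo, pow_orderOf_eq_one])
      (fun h => by rw [h, orderOf_one] at hzo; omega)
    obtain ⟨x₁, x₂, hx₁, hx₂, ho₁, ho₂, hxx⟩ := hlift Nat.prime_two hp (Ne.symm hl2)
      (fun h => absurd (eq_of_prime_dvd hn h3 hl hL (h ▸ hpd)) (by decide)) hzo hyo
      (hc _ hzM _ hyM)
    exact hS.false_of_commute hn h3 ho₁ ho₂ (hord hv) Nat.prime_two hp hl (i := 0) (j := 2)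
      (k := 1) (by rw [num_zero]; norm_num) hpd hL (by decide) (by decide) (by decide) hxx
      (hcomm _ _ (hx₁ ▸ hvz)) (hcomm _ _ (hx₂ ▸ hM₂ y hyM v))
  -- the smaller factor has a fixed point
  obtain ⟨p, hp, hpd⟩ := exists_prime_dvd_num hk3 1
  have hpn : p ∣ num n 1 := (radical_index hn h3 hk hk3 hkn hp).1 hpd
  obtain ⟨y, hyM, hyo, htriv⟩ := hborel F₁ hl2 p hpd (hposk 1)
  let W : Subgroup f.ker := (MulDistribMulAction.toMonoidHom f.ker y).eqLocus (MonoidHom.id _)
  have hWne : W ≠ ⊥ := by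
    intro hW
    have h1 : ∀ a : f.ker, ∏ j ∈ Finset.range p, y ^ j • a = 1 := by
      intro a
      have h2 := Finset.prod_range_succ (fun j => y ^ j • a) p
      rw [Finset.prod_range_succ'] at h2
      rw [show y ^ p = y ^ 0 by rw [pow_zero, ← hyo, pow_orderOf_eq_one]] at h2
      have h4 : y • ∏ j ∈ Finset.range p, y ^ j • a = ∏ j ∈ Finset.range p, y ^ j • a := by
        rw [Finset.smul_prod', ← mul_right_cancel h2]
        simp_rw [← mul_smul, ← pow_succ']
      exact mem_bot.1 (hW ▸ (show (∏ j ∈ Finset.range p, y ^ j • a) ∈ W from h4))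
    obtain ⟨v, -, hv⟩ := (bot_or_exists_ne_one _).resolve_left hne'
    exact hv (mem_bot.1 (hW ▸ (show v ∈ W from htriv h1 y hyM v)))
  have hWinv : ∀ g ∈ M₂, ∀ w ∈ W, g • w ∈ W := by
    intro g hg w hw
    show y • g • w = g • w
    rw [← mul_smul, (hc y hyM g hg).eq, mul_smul, show y • w = w from hw]
  obtain ⟨z, hzM, hzo⟩ := hinvol F₂ h3
  obtain ⟨v, hvW, hv, hvz⟩ := radical_involution M₂ W F₂.noncomm hWinv hWne
    hzM (by rw [← pow_two, ← hzo, pow_orderOf_eq_one])
    (fun h => by rw [h, orderOf_one] at hzo; omega)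
  obtain ⟨x₁, x₂, hx₁, hx₂, ho₁, ho₂, hxx⟩ := hlift hp Nat.prime_two
    (fun h => hL1 (eq_of_prime_dvd hn h3 hl hL (h ▸ hpn))) (Ne.symm hl2) hyo hzo
    (hc _ hyM _ hzM)
  exact hS.false_of_commute hn h3 ho₁ ho₂ (hord hv) hp Nat.prime_two hl (i := 1) (j := 0) (k := L)
    hpn (by rw [num_zero]; norm_num) hL (by decide) (Ne.symm hL1) (Ne.symm hL0) hxx
    (hcomm _ _ (hx₁ ▸ (show y • v = v from hvW))) (hcomm _ _ (hx₂ ▸ hvz))

/-- The radical is trivial if there are two Suzuki sections, one over the whole field. -/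
theorem radical_eq_bot_of_two {G : Type u} [Group G] [Finite G] (hn : Odd n) (h3 : 3 ≤ n)
    (hS : Small G n) (R : Subgroup G) [R.Normal] (hR : Group.IsSolvable R)
    (M₁ M₂ : Subgroup (G ⧸ R)) (hc : ∀ x ∈ M₁, ∀ y ∈ M₂, Commute x y) (_hi : M₁ ⊓ M₂ = ⊥)
    {k : ℕ} (hk : Odd k) (hk3 : 3 ≤ k) (hkn : k ∣ n) (F₁ : SzFacts M₁ k) (F₂ : SzFacts M₂ n) :
    R = ⊥ := by
  classical
  haveI := hR
  by_contra hne
  -- a chief factor
  let U : Set (Subgroup G) := {N | N < R ∧ N.Normal}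
  have hU : U.Nonempty := ⟨⊥, bot_lt_iff_ne_bot.2 hne, inferInstance⟩
  obtain ⟨R₀, ⟨hlt, hn₀⟩, hmax⟩ := (Set.toFinite U).exists_maximal hU
  set π := QuotientGroup.mk' R₀ with hπ
  let f : G ⧸ R₀ →* G ⧸ R :=
    QuotientGroup.map R₀ R (MonoidHom.id G) (by rw [comap_id]; exact hlt.le)
  have hf : Function.Surjective f := fun q => by
    obtain ⟨g, rfl⟩ := QuotientGroup.mk'_surjective R q
    exact ⟨π g, rfl⟩
  have hker : ∀ g : G, π g ∈ f.ker ↔ g ∈ R := fun g => QuotientGroup.eq_one_iff g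
  have hmin : ∀ N : Subgroup (G ⧸ R₀), N.Normal → N ≤ f.ker → N = ⊥ ∨ N = f.ker := by
    intro N hN hle
    by_cases hlt' : N.comap π < R
    · left
      have h1 : N.comap π ≤ R₀ := hmax ⟨hlt', hN.comap π⟩ fun x hx => by
        show π x ∈ N
        rw [show π x = 1 from (QuotientGroup.eq_one_iff x).2 hx]
        exact one_mem _
      refine (eq_bot_iff_forall _).2 fun q hq => ?_
      obtain ⟨g, rfl⟩ := QuotientGroup.mk'_surjective R₀ q
      exact (QuotientGroup.eq_one_iff g).2 (h1 hq)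
    · right
      have h1 : N.comap π = R :=
        ((show N.comap π ≤ R from fun x hx => (hker x).1 (hle hx)).eq_or_lt).resolve_right hlt'
      refine le_antisymm hle fun q hq => ?_
      obtain ⟨g, rfl⟩ := QuotientGroup.mk'_surjective R₀ q
      show g ∈ N.comap π
      rw [h1]
      exact (hker g).1 hq
  have hne' : f.ker ≠ ⊥ := fun h => by
    refine hlt.2 fun g hg => ?_
    have h1 := (hker g).2 hg
    rw [h, mem_bot] at h1
    exact (QuotientGroup.eq_one_iff g).1 h1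
  haveI : Group.IsSolvable f.ker :=
    Group.isSolvable_of_surjective
      (f := (π.comp R.subtype).codRestrict f.ker fun x => (hker x).2 x.2) fun q => by
        obtain ⟨g, hg⟩ := QuotientGroup.mk'_surjective R₀ q.1
        exact ⟨⟨g, (hker g).1 (hg.symm ▸ q.2)⟩, Subtype.ext hg⟩
  haveI := (nontrivial_iff_ne_bot f.ker).2 hne'
  have hab : (commutator f.ker).map f.ker.subtype = ⊥ := by
    refine (hmin _ ?_ (map_subtype_le _)).resolve_right fun h => ?_
    · exact ConjAct.normal_of_characteristic_of_normal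
    · refine (Group.IsSolvable.commutator_lt_top_of_nontrivial f.ker).ne ?_
      apply map_injective f.ker.subtype_injective
      rw [h, ← MonoidHom.range_eq_map, range_subtype]
  have hVc : ∀ v ∈ f.ker, ∀ w ∈ f.ker, Commute v w := fun v hv w hw => by
    have h1 : f.ker.subtype ⁅(⟨v, hv⟩ : f.ker), ⟨w, hw⟩⁆ ∈ (⊥ : Subgroup (G ⧸ R₀)) :=
      hab ▸ mem_map_of_mem _ (commutator_mem_commutator (mem_top _) (mem_top _))
    rw [mem_bot, map_commutatorElement] at h1
    exact commutatorElement_eq_one_iff_mul_comm.1 h1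
  obtain ⟨l, hl, hdvd⟩ := Nat.exists_prime_and_dvd
    (n := Nat.card f.ker) (Finite.one_lt_card).ne'
  haveI := Fact.mk hl
  let N : Subgroup (G ⧸ R₀) :=
    { carrier := {v | v ∈ f.ker ∧ v ^ l = 1}
      one_mem' := ⟨one_mem _, one_pow _⟩
      mul_mem' := fun {a b} ha hb =>
        ⟨f.ker.mul_mem ha.1 hb.1, by rw [(hVc a ha.1 b hb.1).mul_pow, ha.2, hb.2, one_mul]⟩
      inv_mem' := fun {a} ha => ⟨f.ker.inv_mem ha.1, by rw [inv_pow, ha.2, inv_one]⟩ }
  have hN : N = f.ker := by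
    refine (hmin N ⟨fun a ha g => ⟨Normal.conj_mem inferInstance a ha.1 g,
      by rw [conj_pow, ha.2, mul_one, mul_inv_cancel]⟩⟩ fun a ha => ha.1).resolve_left fun h => ?_
    obtain ⟨v, hv⟩ := exists_prime_orderOf_dvd_card' (G := f.ker) l hdvd
    have h1 : (v : G ⧸ R₀) ∈ N := ⟨v.2, by
      rw [← Subgroup.coe_pow, ← hv, pow_orderOf_eq_one, Subgroup.coe_one]⟩
    rw [h, mem_bot] at h1
    rw [show v = 1 from Subtype.ext h1, orderOf_one] at hv
    exact hl.ne_one hv.symm
  exact radical_key hn h3 (hS.quotient R₀) f hf hl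
    (fun v hv => (hN.symm ▸ hv : v ∈ N).2) hVc hne' M₁ M₂ hc hk hk3 hkn F₁ F₂

end two

end Cfsg.Agent.SzSq70
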