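import Cfsg.Agent.SzSq70.Defs
import Cfsg.Agent.SzSq70.Facts
import Cfsg.Agent.SzSq70.Radical
import Cfsg.Agent.S3633

/-!
# One Suzuki group over the large field: piece C
-/

set_option autoImplicit false
set_option linter.style.haveILetI false

namespace Cfsg.Agent.SzSq70

open Subgroup

universe u

variable {G : Type u} [Group G] [Finite G] {n : ℕ}

theorem one_not_num_dvd (hn : Odd n) (h3 : 3 ≤ n) (i : Fin 4) : ¬ num n i ∣ n := by
  intro h
  by_cases hi : i = 0
  · subst hi
    rw [num_zero] at h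
    have := Nat.odd_iff.1 hn
    omega
  · exact absurd (Nat.le_of_dvd (by omega) h) (not_le_of_gt (lt_num h3 hi))

/-- Two subgroups of order `p` with conjugate images modulo a `p'`-group are conjugate. -/
theorem one_exists_conj {R : Subgroup G} [R.Normal] {p : ℕ} (hp : p.Prime)
    (hpR : ¬ p ∣ Nat.card R) {a b g : G} (ha : orderOf a = p) (hb : orderOf b = p)
    (hg : QuotientGroup.mk' R (g * a * g⁻¹) ∈ zpowers (QuotientGroup.mk' R b)) :
    ∃ c : G, c * a * c⁻¹ ∈ zpowers b := by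
  haveI := Fact.mk hp
  set K : Subgroup G := (zpowers (QuotientGroup.mk' R b)).comap (QuotientGroup.mk' R) with hK
  have hbK : b ∈ K := mem_zpowers (QuotientGroup.mk' R b)
  have hga : g * a * g⁻¹ ∈ K := hg
  have hga' : orderOf (g * a * g⁻¹) = p := by rw [← MulAut.conj_apply, MulEquiv.orderOf_eq, ha]
  have hcard : ¬ p ^ 2 ∣ Nat.card K := by
    intro h
    have e : Nat.card K = Nat.card R * Nat.card (zpowers (QuotientGroup.mk' R b)) := by
      have h1 := (QuotientGroup.mk' R).ker.card_mul_index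
      have h2 := K.card_mul_index
      have h3 := (zpowers (QuotientGroup.mk' R b)).card_mul_index
      rw [hK, index_comap_of_surjective _ (QuotientGroup.mk'_surjective R)] at h2
      rw [QuotientGroup.ker_mk'] at h1
      rw [← index_eq_card R] at h3
      have hi : (zpowers (QuotientGroup.mk' R b)).index ≠ 0 := index_ne_zero_of_finite
      refine mul_right_cancel₀ hi ?_
      rw [hK, h2, mul_assoc, h3, h1]
    have hdvd : Nat.card (zpowers (QuotientGroup.mk' R b)) ∣ p := by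
      rw [Nat.card_zpowers, ← hb]
      exact orderOf_map_dvd _ b
    rw [e] at h
    have h4 : p ^ 2 ∣ Nat.card R * p := h.trans (mul_dvd_mul_left _ hdvd)
    rw [pow_two] at h4
    exact hpR (Nat.dvd_of_mul_dvd_mul_right hp.pos h4)
  -- both subgroups are Sylow subgroups of `K`
  have syl : ∀ x : G, x ∈ K → orderOf x = p →
      ∃ P : Sylow p ↥K, (P : Subgroup ↥K).map K.subtype = zpowers x := by
    intro x hx hxp
    have hx' : Nat.card (zpowers (⟨x, hx⟩ : ↥K)) = p := by
      rw [Nat.card_zpowers, orderOf_mk, hxp]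
    obtain ⟨P, hP⟩ := (IsPGroup.of_card (n := 1) (by rw [hx', pow_one] :
      Nat.card (zpowers (⟨x, hx⟩ : ↥K)) = p ^ 1)).exists_le_sylow
    refine ⟨P, ?_⟩
    have : (P : Subgroup ↥K) = zpowers (⟨x, hx⟩ : ↥K) := by
      refine (eq_of_le_of_card_ge hP ?_).symm
      obtain ⟨k, hk⟩ := IsPGroup.iff_card.1 P.isPGroup'
      have h1 : p ^ k ∣ Nat.card K := hk ▸ card_subgroup_dvd_card _
      have : k ≤ 1 := by
        by_contra hc
        exact hcard ((pow_dvd_pow p (not_le.1 hc)).trans h1)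
      rw [hk, hx']
      exact (Nat.pow_le_pow_right hp.pos this).trans (pow_one p).le
    rw [this, MonoidHom.map_zpowers]
    rfl
  obtain ⟨P, hP⟩ := syl _ hga hga'
  obtain ⟨Q, hQ⟩ := syl _ hbK hb
  obtain ⟨k, hk⟩ := MulAction.exists_smul_eq ↥K P Q
  refine ⟨(k : G) * g, ?_⟩
  rw [← hQ, ← hk]
  have hmem : g * a * g⁻¹ ∈ (P : Subgroup ↥K).map K.subtype := hP ▸ mem_zpowers _
  obtain ⟨y, hy, hye⟩ := hmem
  refine ⟨k * y * k⁻¹, ⟨y, hy, rfl⟩, ?_⟩
  simp only [map_mul, map_inv]
  rw [hye]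
  simp [mul_assoc]

/-- One Suzuki group over the large field on top of a solvable radical is impossible. -/
theorem false_of_one_big_of (hn : Odd n) (h3 : 3 ≤ n) (hS : Small G n) (hP : Pairs G n)
    (R : Subgroup G) [R.Normal] (hR : Group.IsSolvable R) (M : Subgroup (G ⧸ R))
    (hF : SzFacts M n) (hi : ∃ i : Fin 4, i ≠ 0 ∧ (Nat.card R).Coprime (num n i))
    (hpow : ∀ x : G ⧸ R, x ^ n ∈ M) : False := by
  classical
  obtain ⟨i, hi0, hiR⟩ := hi
  set π := QuotientGroup.mk' R with hπ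
  have hN : ∀ j, 0 < num n j := fun j => lt_of_lt_of_le (by norm_num) (two_le_num h3 j)
  have hquot : ∀ j, num n j / Nat.gcd (num n j) n ≠ 1 := by
    intro j hj
    refine one_not_num_dvd hn h3 j ?_
    have h := Nat.div_mul_cancel (Nat.gcd_dvd_left (num n j) n)
    rw [hj, one_mul] at h
    exact h ▸ Nat.gcd_dvd_right (num n j) n
  obtain ⟨p, hp, hpo⟩ := Nat.exists_prime_and_dvd (hquot i)
  have hpi : p ∣ num n i := hpo.trans (Nat.div_dvd_of_dvd (Nat.gcd_dvd_left _ _))
  have hpR : ¬ p ∣ Nat.card R := fun h => hp.one_lt.ne' (Nat.eq_one_of_dvd_coprimes hiR h hpi)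
  -- commuting elements of order `p` and of another kind in `R`
  have key : ∀ j, j ≠ i → ∃ a x : G, orderOf a = p ∧ π a ∈ M ∧ x ∈ R ∧ Commute a x ∧
      ∃ q, q.Prime ∧ q ∣ num n j ∧ orderOf x = q := by
    intro j hj
    obtain ⟨h, hh⟩ := hP i j (Ne.symm hj)
    have h1 : orderOf ((h ^ num n j) ^ n) = num n i / Nat.gcd (num n i) n := by
      rw [orderOf_pow (h ^ num n j), orderOf_pow_of_dvd (hN j).ne' (hh ▸ dvd_mul_left _ _), hh,
        Nat.mul_div_cancel _ (hN j)]
    have h2 : orderOf ((h ^ num n i) ^ n) = num n j / Nat.gcd (num n j) n := by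
      rw [orderOf_pow (h ^ num n i), orderOf_pow_of_dvd (hN i).ne' (hh ▸ dvd_mul_right _ _), hh,
        Nat.mul_div_cancel_left _ (hN i)]
    set y := (h ^ num n j) ^ n with hy
    set x := (h ^ num n i) ^ n with hx
    have hxy : Commute y x :=
      (((Commute.refl h).pow_pow (num n j) (num n i)).pow_pow n n)
    obtain ⟨q, hq, hqo⟩ := Nat.exists_prime_and_dvd (hquot j)
    have hyo : p ∣ orderOf y := h1 ▸ hpo
    have hxo : q ∣ orderOf x := h2 ▸ hqo
    set a := y ^ (orderOf y / p) with ha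
    have hap : orderOf a = p := orderOf_pow_orderOf_div (orderOf_pos y).ne' hyo
    have haM : π a ∈ M := by
      rw [ha, map_pow, hy, map_pow]
      exact M.pow_mem (hpow _) _
    have hxM : π x ∈ M := by rw [hx, map_pow]; exact hpow _
    have hπa : orderOf (π a) = p := by
      refine ((Nat.dvd_prime hp).1 (hap ▸ orderOf_map_dvd π a)).resolve_left fun h0 => hpR ?_
      have : a ∈ R := (QuotientGroup.eq_one_iff a).1 (orderOf_eq_one_iff.1 h0)
      exact hap ▸ R.orderOf_dvd_natCard this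
    have hxd : orderOf x ∣ num n j := h2 ▸ Nat.div_dvd_of_dvd (Nat.gcd_dvd_left _ _)
    have hxR : x ∈ R := by
      refine (QuotientGroup.eq_one_iff x).1 (orderOf_eq_one_iff.1 ?_)
      have hd : orderOf (π x) ∣ num n i := by
        have hc := hF.cent i hi0 ⟨π a, haM⟩
          (fun e => hp.one_lt.ne' (hπa ▸ orderOf_eq_one_iff.2 (congrArg Subtype.val e)))
          (by rw [orderOf_mk, hπa]; exact hpi) ⟨π x, hxM⟩
          (Subtype.ext ((hxy.pow_left (orderOf y / p)).map π).eq)
        rwa [orderOf_mk] at hc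
      exact Nat.eq_one_of_dvd_coprimes (coprime_num hn h3 (Ne.symm hj)) hd
        ((orderOf_map_dvd π x).trans hxd)
    refine ⟨a, x ^ (orderOf x / q), hap, haM, R.pow_mem hxR _,
      (hxy.pow_left _).pow_right _, q, hq, hqo.trans (Nat.div_dvd_of_dvd (Nat.gcd_dvd_left _ _)),
      orderOf_pow_orderOf_div (orderOf_pos x).ne' hxo⟩
  -- move all of them to the centralizer of one element of order `p`
  obtain ⟨j₀, hj₀⟩ : ∃ j : Fin 4, j ≠ i := exists_ne i
  obtain ⟨a₀, -, ha₀, ha₀M, -⟩ := key j₀ hj₀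
  have hπp : ∀ {a : G}, orderOf a = p → orderOf (π a) = p := fun {a} hap => by
    refine ((Nat.dvd_prime hp).1 (hap ▸ orderOf_map_dvd π a)).resolve_left fun h0 => hpR ?_
    exact hap ▸ R.orderOf_dvd_natCard ((QuotientGroup.eq_one_iff a).1 (orderOf_eq_one_iff.1 h0))
  set C : Subgroup G := R ⊓ centralizer ({a₀} : Set G) with hC
  have key' : ∀ j, j ≠ i → ∃ q, q.Prime ∧ q ∣ num n j ∧ ∃ x : ↥C, orderOf x = q := by
    intro j hj
    obtain ⟨a, x, hap, haM, hxR, hax, q, hq, hqj, hxq⟩ := key j hj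
    obtain ⟨c, hc⟩ := hF.conj i hi0 ⟨π a, haM⟩ ⟨π a₀, ha₀M⟩
      (by rw [orderOf_mk, orderOf_mk, hπp hap, hπp ha₀]) (by rw [orderOf_mk, hπp hap]; exact hpi)
    obtain ⟨g, hg⟩ := QuotientGroup.mk'_surjective R (c : G ⧸ R)
    have hg' : π (g * a * g⁻¹) ∈ zpowers (π a₀) := by
      obtain ⟨k, hk⟩ := mem_zpowers_iff.1 hc
      refine mem_zpowers_iff.2 ⟨k, ?_⟩
      have := congrArg Subtype.val hk
      rw [map_mul, map_mul, map_inv, hg]
      simpa using this
    obtain ⟨d, hd⟩ := one_exists_conj hp hpR hap ha₀ hg'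
    -- `d a d⁻¹` generates the same subgroup as `a₀`
    have hgen : zpowers (d * a * d⁻¹) = zpowers a₀ := by
      refine eq_of_le_of_card_ge (zpowers_le.2 hd) ?_
      rw [Nat.card_zpowers, Nat.card_zpowers, ha₀, ← MulAut.conj_apply, MulEquiv.orderOf_eq, hap]
    refine ⟨q, hq, hqj, ⟨d * x * d⁻¹, Normal.conj_mem inferInstance x hxR d,
      mem_centralizer_singleton_iff.2 ?_⟩, ?_⟩
    · obtain ⟨k, hk⟩ := mem_zpowers_iff.1 (hgen.ge (mem_zpowers a₀))
      have h1 : Commute (d * a * d⁻¹) (d * x * d⁻¹) := by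
        simpa using hax.map (MulAut.conj d).toMonoidHom
      exact (hk ▸ h1.zpow_left k).symm.eq
    · rw [← Subgroup.orderOf_coe]
      show orderOf (d * x * d⁻¹) = q
      rw [← MulAut.conj_apply, MulEquiv.orderOf_eq, hxq]
  choose! q hq hqd x hx using key'
  -- three pairwise non-adjacent primes in a solvable group
  set J : Finset (Fin 4) := Finset.univ.erase i with hJ
  have hJi : ∀ {j}, j ∈ J → j ≠ i := fun h => (Finset.mem_erase.1 h).1
  have hinj : Set.InjOn q J := fun j hj k hk e =>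
    eq_of_prime_dvd hn h3 (hq j (hJi hj)) (hqd j (hJi hj)) (e ▸ hqd k (hJi hk))
  haveI : Group.IsSolvable ↥R := hR
  haveI : Group.IsSolvable ↥C :=
    Group.isSolvable_of_isSolvable_injective (f := inclusion (inf_le_left : C ≤ R)) (inclusion_injective _)
  refine (S3633.result (G := ↥C) (J.image q) ?_ ⟨?_, ?_⟩ ⊥ inferInstance).2 inferInstance
  · rw [Finset.card_image_of_injOn hinj, hJ, Finset.card_erase_of_mem (Finset.mem_univ i)]
    simp
  · intro r hr
    obtain ⟨j, hj, rfl⟩ := Finset.mem_image.1 hr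
    exact ⟨hq j (hJi hj), hx j (hJi hj) ▸ orderOf_dvd_natCard (x j)⟩
  · intro r hr s hs hrs
    obtain ⟨j, hj, rfl⟩ := Finset.mem_image.1 hr
    obtain ⟨k, hk, rfl⟩ := Finset.mem_image.1 hs
    rintro ⟨w, hw⟩
    have hcop : Nat.Coprime p (q j * q k) := by
      refine (hp.coprime_iff_not_dvd).2 fun h => ?_
      rcases hp.dvd_mul.1 h with h | h
      · exact hJi hj (eq_of_prime_dvd hn h3 hp (h.trans (hqd j (hJi hj))) hpi)
      · exact hJi hk (eq_of_prime_dvd hn h3 hp (h.trans (hqd k (hJi hk))) hpi)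
    have hcomm : Commute a₀ (w : G) := (mem_centralizer_singleton_iff.1 w.2.2).symm
    have ho : orderOf (a₀ * (w : G)) = p * (q j * q k) := by
      rw [hcomm.orderOf_mul_eq_mul_orderOf_of_coprime (by rw [ha₀, orderOf_coe, hw]; exact hcop),
        ha₀, orderOf_coe, hw]
    refine hS.no_triple hn h3 hp (hq j (hJi hj)) (hq k (hJi hk)) hpi (hqd j (hJi hj))
      (hqd k (hJi hk)) (hJi hj).symm (hJi hk).symm (fun e => hrs (by rw [e])) (a₀ * (w : G)) ?_
    rw [ho]
    exact ⟨dvd_mul_right _ _, (dvd_mul_right _ _).mul_left p, (dvd_mul_left _ _).mul_left p⟩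

/-- `false_of_one_big_of` for a Suzuki group; the last hypothesis is `pow_mem_one`. -/
theorem false_of_one_big (hn : Odd n) (h3 : 3 ≤ n) (hS : Small G n) (hP : Pairs G n)
    (R : Subgroup G) [R.Normal] (hR : Group.IsSolvable R) (M : Subgroup (G ⧸ R))
    (hM : IsSz M n) (hpow : ∀ x : G ⧸ R, x ^ n ∈ M) : False := by
  have hF := szFacts hM
  haveI := hF.simple
  obtain ⟨u, hu⟩ := hF.exists_order 0
  exact false_of_one_big_of hn h3 hS hP R hR M hF
    (not_three_colours hn h3 hS R hR M hF.noncomm ⟨u, hu.trans (num_zero n)⟩) hpow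

end Cfsg.Agent.SzSq70
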