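import Cfsg.Agent.SzSq70.SolvBasics

/-!
# Soluble groups of four kinds of primes: one prime in the first two layers
-/

set_option autoImplicit false
set_option linter.style.haveILetI false
set_option linter.unusedSectionVars false

namespace Cfsg.Agent.SzSq70.Solv

open Subgroup

variable {G : Type*} [Group G] [Finite G] [Group.IsSolvable G] {p : Fin 4 → ℕ}

/-- The data of the case of one prime in each of the first two layers. -/
structure One (p : Fin 4 → ℕ) (J A B E₂ E₃ : Subgroup G) : Prop where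
  primes : ∀ r, r.Prime → r ∣ Nat.card J → r = p 2 ∨ r = p 3
  isA : IsPGroup (p 0) A
  isB : IsPGroup (p 1) B
  neA : A ≠ ⊥
  neB : B ≠ ⊥
  normBA : B ≤ normalizer (A : Set G)
  normA : J ≤ normalizer (A : Set G)
  normB : J ≤ normalizer (B : Set G)
  faithBA : ∀ x ∈ B, (∀ a ∈ A, Commute x a) → x = 1
  faithA : ∀ x ∈ J, (∀ a ∈ A, Commute x a) → x = 1
  faithB : ∀ x ∈ J, (∀ b ∈ B, Commute x b) → x = 1
  r2 : R2 (p 2) E₂
  le2 : E₂ ≤ J
  r3 : R2 (p 3) E₃
  le3 : E₃ ≤ J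

theorem One.swap {J A B E₂ E₃ : Subgroup G} (t : One p J A B E₂ E₃) :
    One (p ∘ Equiv.swap (2 : Fin 4) 3) J A B E₃ E₂ where
  primes := fun r hr hd => (t.primes r hr hd).symm
  isA := t.isA
  isB := t.isB
  neA := t.neA
  neB := t.neB
  normBA := t.normBA
  normA := t.normA
  normB := t.normB
  faithBA := t.faithBA
  faithA := t.faithA
  faithB := t.faithB
  r2 := t.r3
  le2 := t.le3
  r3 := t.r2
  le3 := t.le2

variable {J A B E₂ E₃ : Subgroup G}

theorem One.pc_eq_bot (t : One p J A B E₂ E₃) {r : ℕ} (hr : r.Prime) (h2 : r ≠ p 2)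
    (h3 : r ≠ p 3) : pc r J = ⊥ := by
  haveI := Fact.mk hr
  exact Solv.pc_eq_bot fun hd => (t.primes r hr hd).elim h2 h3

theorem One.two_case (h : Rainbow G p) (t : One p J A B E₂ E₃) (h2 : p 2 = 2) :
    pc (p 2) J = ⊥ := by
  by_contra hne
  haveI := Fact.mk (h.prime 2)
  set K := omZ (p 2) (pc (p 2) J) with hK
  have hKne : K ≠ ⊥ := omZ_ne_bot (h.prime 2) (isPGroup_pc _ _) hne
  have hKp : IsPGroup (p 2) K := (isPGroup_pc _ _).to_le (omZ_le _ _)
  have hKJ : K ≤ J := (omZ_le _ _).trans (pc_le _ _)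
  have hJK : J ≤ normalizer (K : Set G) := le_normalizer_omZ (le_normalizer_pc _ le_normalizer)
  obtain ⟨f, hf, hf1, hfix⟩ := exists_fix (h.prime 3) (h.prime 2) (h.ne (by decide)) t.r3 hKp
    hKne (t.le3.trans hJK)
  have hfo := t.r3.orderOf_eq (h.prime 3) hf hf1
  obtain ⟨z, hz, hzo, hfz⟩ := hfix.exists_order (h.prime 2) hKp
  have hzJ : z ∈ J := hKJ hz
  have hz1 : z ≠ 1 := by
    rintro rfl
    rw [orderOf_one] at hzo
    exact (h.prime 2).one_lt.ne hzo
  have hb1 : p 1 ≠ 2 := h2 ▸ h.ne (show (1 : Fin 4) ≠ 2 by decide)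
  have hzA : Fix z A := by
    refine fix_of_moves_faithful (h.prime 2) (h.prime 1) (h.prime 0) (h.ne (by decide))
      (h.ne (by decide)) (h.ne (by decide)) t.isA t.isB hzo (t.normB hzJ) (t.normA hzJ) t.normBA
      (fun e => absurd e hb1) t.faithBA ?_
    by_contra hcon
    push Not at hcon
    exact hz1 (t.faithB z hzJ hcon)
  have hzB : ¬ Fix z B := by
    intro hB
    obtain ⟨a, -, hao, hza⟩ := hzA.exists_order (h.prime 0) t.isA
    obtain ⟨b, -, hbo, hzb⟩ := hB.exists_order (h.prime 1) t.isB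
    exact h.three (show (3 : Fin 4) ≠ 0 by decide) (show (3 : Fin 4) ≠ 1 by decide)
      (show (0 : Fin 4) ≠ 1 by decide) (show (3 : Fin 4) ≠ 2 by decide)
      (show (0 : Fin 4) ≠ 2 by decide) (show (1 : Fin 4) ≠ 2 by decide)
      hzo hfo hao hbo hfz.symm hza hzb
  have hzz : z * z = 1 := by rw [← pow_two, ← h2, ← hzo, pow_orderOf_eq_one]
  have hzinv : z⁻¹ = z := inv_eq_of_mul_eq_one_right hzz
  have hinv : ∀ b ∈ B, z * b * z⁻¹ = b⁻¹ := by
    set σ := B.normalizerMonoidHom ⟨z, t.normB hzJ⟩ with hσ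
    have hσv : ∀ b : B, ((σ b : B) : G) = z * b * z⁻¹ := fun b => by simp [σ]
    have hinj : Function.Injective fun b : B => b⁻¹ * σ b := by
      intro b c hbc
      simp only at hbc
      have h' : σ (c * b⁻¹) = c * b⁻¹ := by
        rw [map_mul, map_inv, mul_inv_eq_iff_eq_mul]
        calc σ c = c * (c⁻¹ * σ c) := by group
          _ = c * (b⁻¹ * σ b) := by rw [hbc]
          _ = _ := by group
      refine (mul_inv_eq_one.1 ?_).symm
      by_contra hne1
      refine hzB ⟨((c * b⁻¹ : B) : G), (c * b⁻¹).2, fun e => hne1 (Subtype.ext e), ?_⟩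
      have := congrArg Subtype.val h'
      rw [hσv] at this
      exact mul_inv_eq_iff_eq_mul.1 this
    intro b hb
    obtain ⟨c, hc⟩ := (Finite.injective_iff_surjective.1 hinj) ⟨b, hb⟩
    have hcv : (c : G)⁻¹ * (z * c * z⁻¹) = b := by
      have := congrArg Subtype.val hc
      simp only [Subgroup.coe_mul, Subgroup.coe_inv, hσv] at this
      exact this
    rw [← hcv, hzinv]
    calc z * ((c : G)⁻¹ * (z * c * z)) * z = (z * (c : G)⁻¹ * z) * c * (z * z) := by group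
      _ = _ := by rw [hzz, mul_one]; simp [mul_inv_rev, hzinv, mul_assoc]
  have hcentral : ∀ j ∈ J, Commute j z := by
    intro j hj
    have hw : j * z * j⁻¹ * z⁻¹ = 1 := by
      refine t.faithB _ (mul_mem (mul_mem (mul_mem hj hzJ) (inv_mem hj)) (inv_mem hzJ)) fun b hb => ?_
      have hbi : z⁻¹ * b * z = b⁻¹ := by
        rw [← hinv b hb, hzinv]
      have hjb : j⁻¹ * b⁻¹ * j ∈ B := by
        have := (mem_normalizer_iff.1 (t.normB (inv_mem hj)) b⁻¹).1 (inv_mem hb)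
        simpa using this
      have hj2 : z * (j⁻¹ * b⁻¹ * j) * z⁻¹ = (j⁻¹ * b⁻¹ * j)⁻¹ := hinv _ hjb
      have key : j * z * j⁻¹ * z⁻¹ * b * (j * z * j⁻¹ * z⁻¹)⁻¹ = b := by
        calc j * z * j⁻¹ * z⁻¹ * b * (j * z * j⁻¹ * z⁻¹)⁻¹
            = j * (z * (j⁻¹ * (z⁻¹ * b * z) * j) * z⁻¹) * j⁻¹ := by group
          _ = b := by rw [hbi, hj2]; group
      exact mul_inv_eq_iff_eq_mul.1 key
    rw [mul_inv_eq_one, mul_inv_eq_iff_eq_mul] at hw
    exact hw
  obtain ⟨e, he, he1, a, -, hao, hea, hza⟩ := exists_fix_of_fix (h.prime 3) (h.prime 0)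
    (h.ne (by decide)) t.r3 t.isA (t.le3.trans t.normA) (fun e he => hcentral e (t.le3 he)) hzA
  exact h.tri (show (3 : Fin 4) ≠ 2 by decide) (show (3 : Fin 4) ≠ 0 by decide)
    (show (2 : Fin 4) ≠ 0 by decide) (t.r3.orderOf_eq (h.prime 3) he he1) hzo hao
    (hcentral e (t.le3 he)) hea hza

theorem One.odd_case (h : Rainbow G p) (t : One p J A B E₂ E₃) (hne : pc (p 2) J ≠ ⊥)
    (h2 : p 2 ≠ 2) :
    pc (p 3) J ≠ ⊥ ∧ IsCyclic (pc (p 2) J) := by
  haveI := Fact.mk (h.prime 2)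
  set T := pc (p 2) J with hT
  have hTp : IsPGroup (p 2) T := isPGroup_pc _ _
  have hJT : J ≤ normalizer (T : Set G) := le_normalizer_pc _ le_normalizer
  have hTJ : T ≤ J := pc_le _ _
  obtain ⟨f, hf, hf1, hfix⟩ := exists_fix (h.prime 3) (h.prime 2) (h.ne (by decide)) t.r3 hTp hne
    (t.le3.trans hJT)
  have hfo := t.r3.orderOf_eq (h.prime 3) hf hf1
  obtain ⟨k, hk, hko, hfk⟩ := hfix.exists_order (h.prime 2) hTp
  have hnot : ¬ (Fix f A ∧ Fix f B) := by
    rintro ⟨hA, hB⟩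
    obtain ⟨a, -, hao, hfa⟩ := hA.exists_order (h.prime 0) t.isA
    obtain ⟨b, -, hbo, hfb⟩ := hB.exists_order (h.prime 1) t.isB
    exact h.three (show (0 : Fin 4) ≠ 1 by decide) (show (0 : Fin 4) ≠ 2 by decide)
      (show (1 : Fin 4) ≠ 2 by decide) (show (0 : Fin 4) ≠ 3 by decide)
      (show (1 : Fin 4) ≠ 3 by decide) (show (2 : Fin 4) ≠ 3 by decide)
      hfo hao hbo hko hfa hfb hfk
  have hfT : ∀ y ∈ T, Commute f y := by
    intro y hy
    by_contra hc
    refine hnot ⟨?_, ?_⟩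
    · exact fix_of_moves_faithful (h.prime 3) (h.prime 2) (h.prime 0) (h.ne (by decide))
        (h.ne (by decide)) (h.ne (by decide)) t.isA hTp hfo (hJT (t.le3 hf)) (t.normA (t.le3 hf))
        (hTJ.trans t.normA) (fun e => absurd e h2) (fun x hx => t.faithA x (hTJ hx)) ⟨y, hy, hc⟩
    · exact fix_of_moves_faithful (h.prime 3) (h.prime 2) (h.prime 1) (h.ne (by decide))
        (h.ne (by decide)) (h.ne (by decide)) t.isB hTp hfo (hJT (t.le3 hf)) (t.normB (t.le3 hf))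
        (hTJ.trans t.normB) (fun e => absurd e h2) (fun x hx => t.faithB x (hTJ hx)) ⟨y, hy, hc⟩
  refine ⟨fun hU => hf1 ?_, ?_⟩
  · have hmem := mem_pc_of_centralizes (r := p 3) (t.le3 hf) (t.r3.pow f hf) fun r hr y hy => by
      by_cases hr2 : r = p 2
      · subst hr2
        exact hfT y hy
      · by_cases hr3 : r = p 3
        · rw [hr3, hU, Subgroup.mem_bot] at hy
          rw [hy]; exact Commute.one_right _
        · rw [t.pc_eq_bot hr hr2 hr3, Subgroup.mem_bot] at hy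
          rw [hy]; exact Commute.one_right _
    rw [hU] at hmem
    exact Subgroup.mem_bot.1 hmem
  by_contra hc
  obtain ⟨E, hET, hE, -⟩ := exists_R2_le_of_not_isCyclic (h.prime 2) h2 hTp hc
  have hcomm : ∀ g ∈ E, Commute g f := fun g hg => (hfT g (hET hg)).symm
  have hfA : ¬ Fix f A := by
    intro hA
    obtain ⟨g, hg, hg1, a, -, hao, hga, hfa⟩ := exists_fix_of_fix (h.prime 2) (h.prime 0)
      (h.ne (by decide)) hE t.isA ((hET.trans hTJ).trans t.normA) hcomm hA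
    exact h.tri (show (2 : Fin 4) ≠ 3 by decide) (show (2 : Fin 4) ≠ 0 by decide)
      (show (3 : Fin 4) ≠ 0 by decide) (hE.orderOf_eq (h.prime 2) hg hg1) hfo hao (hcomm g hg)
      hga hfa
  have hfB : ¬ Fix f B := by
    intro hB
    obtain ⟨g, hg, hg1, b, -, hbo, hgb, hfb⟩ := exists_fix_of_fix (h.prime 2) (h.prime 1)
      (h.ne (by decide)) hE t.isB ((hET.trans hTJ).trans t.normB) hcomm hB
    exact h.tri (show (2 : Fin 4) ≠ 3 by decide) (show (2 : Fin 4) ≠ 1 by decide)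
      (show (3 : Fin 4) ≠ 1 by decide) (hE.orderOf_eq (h.prime 2) hg hg1) hfo hbo (hcomm g hg)
      hgb hfb
  obtain ⟨b, hb, hbo⟩ := exists_order_of_ne_bot (h.prime 1) (t.isB.to_le (omZ_le (p 1) B))
    (omZ_ne_bot (h.prime 1) t.isB t.neB)
  refine hfA (fix_of_moves_faithful (Q := omZ (p 1) B) (h.prime 3) (h.prime 1) (h.prime 0)
    (h.ne (by decide)) (h.ne (by decide)) (h.ne (by decide)) t.isA (t.isB.to_le (omZ_le _ _)) hfo
    ((le_normalizer_omZ t.normB) (t.le3 hf)) (t.normA (t.le3 hf)) ((omZ_le _ _).trans t.normBA)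
    (fun _ x hx y hy => (omZ_comm hx hy).eq) (fun x hx => t.faithBA x (omZ_le _ _ hx))
    ⟨b, hb, fun hc => hfB ⟨b, omZ_le _ _ hb, fun e => ?_, hc⟩⟩)
  rw [e, orderOf_one] at hbo
  exact (h.prime 1).one_lt.ne hbo

theorem One.dvd_sub_one (h : Rainbow G p) (t : One p J A B E₂ E₃)
    (hT : IsCyclic (pc (p 2) J)) (hU : IsCyclic (pc (p 3) J)) : p 3 ∣ p 2 - 1 := by
  haveI := Fact.mk (h.prime 2)
  haveI := hT
  haveI := hU
  by_contra hnd
  refine t.r3.not_le_of_isCyclic (h.prime 3) (K := pc (p 3) J) fun e he => ?_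
  rcases eq_or_ne e 1 with rfl | he1
  · exact one_mem _
  have heo := t.r3.orderOf_eq (h.prime 3) he he1
  refine mem_core_of_centralizes (h.prime 3) (h.prime 2) (h.ne (by decide))
    (fun r hr h3 h2 => t.pc_eq_bot hr h2 h3) hU (t.le3 he) (k := 1) (by rw [heo, pow_one]) ?_
  intro y hy
  by_contra hc
  exact hnd (dvd_sub_one_of_moves (h.prime 3) (h.prime 2) (h.ne (by decide)) (isPGroup_pc _ _) heo
    (le_normalizer_pc _ le_normalizer (t.le3 he)) ⟨y, hy, hc⟩)

theorem One.false_of_ne_bot (h : Rainbow G p) (t : One p J A B E₂ E₃) (hne : pc (p 2) J ≠ ⊥) :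
    False := by
  have h2 : p 2 ≠ 2 := fun e => hne (t.two_case h e)
  obtain ⟨hU, hTc⟩ := t.odd_case h hne h2
  have hs := h.perm (Equiv.swap 2 3)
  have e2 : (p ∘ Equiv.swap (2 : Fin 4) 3) 2 = p 3 := by simp
  have e3 : (p ∘ Equiv.swap (2 : Fin 4) 3) 3 = p 2 := by simp
  have hU' : pc ((p ∘ Equiv.swap (2 : Fin 4) 3) 2) J ≠ ⊥ := by rw [e2]; exact hU
  have h3 : (p ∘ Equiv.swap (2 : Fin 4) 3) 2 ≠ 2 := fun e => hU' (One.two_case hs t.swap e)
  obtain ⟨-, hUc⟩ := One.odd_case hs t.swap hU' h3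
  have hTc' : IsCyclic (pc ((p ∘ Equiv.swap (2 : Fin 4) 3) 3) J) := by rw [e3]; exact hTc
  have hUc' : IsCyclic (pc (p 3) J) := e2 ▸ hUc
  have ha : p 3 ∣ p 2 - 1 := t.dvd_sub_one h hTc hUc'
  have hb := One.dvd_sub_one hs t.swap hUc hTc'
  rw [e2, e3] at hb
  have h1 := (h.prime 2).two_le
  have h1' := (h.prime 3).two_le
  have := Nat.le_of_dvd (by omega) ha
  have := Nat.le_of_dvd (by omega) hb
  omega

theorem One.false (h : Rainbow G p) (t : One p J A B E₂ E₃) : False := by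
  have hJ : J ≠ ⊥ := by
    obtain ⟨e, he, he1⟩ := t.r2.exists_ne_one (h.prime 2)
    exact fun hb => he1 (Subgroup.mem_bot.1 (hb ▸ t.le2 he))
  obtain ⟨r, hr, hrd, hne⟩ := exists_pc_ne_bot hJ
  rcases t.primes r hr hrd with rfl | rfl
  · exact t.false_of_ne_bot h hne
  · exact One.false_of_ne_bot (h.perm (Equiv.swap 2 3)) t.swap hne

end Cfsg.Agent.SzSq70.Solv
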