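import Cfsg.Agent.SzSq70.SolvBasics

/-!
# Soluble groups of four kinds of primes: two primes in the second layer
-/

set_option autoImplicit false
set_option linter.style.haveILetI false
set_option linter.unusedSectionVars false

namespace Cfsg.Agent.SzSq70.Solv

open Subgroup
open scoped commutatorElement

variable {G : Type*} [Group G] [Finite G] [Group.IsSolvable G] {p : Fin 4 → ℕ}

/-- The data of the case of two primes in the second layer. -/
structure Gam (p : Fin 4 → ℕ) (H A : Subgroup G) : Prop where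
  primes : ∀ r, r.Prime → r ∣ Nat.card H → r = p 1 ∨ r = p 2 ∨ r = p 3
  isA : IsPGroup (p 0) A
  neA : A ≠ ⊥
  normA : H ≤ normalizer (A : Set G)
  faith : ∀ x ∈ H, (∀ a ∈ A, Commute x a) → x = 1
  ne1 : pc (p 1) H ≠ ⊥
  ne2 : pc (p 2) H ≠ ⊥
  bot3 : pc (p 3) H = ⊥
  hall : ∀ i : Fin 4, i ≠ 0 → i ≠ 3 → ∃ J E E' : Subgroup G, J ≤ H ∧
    (∀ r, r.Prime → r ∣ Nat.card J → r = p i ∨ r = p 3) ∧ R2 (p i) E ∧ E ≤ J ∧
    R2 (p 3) E' ∧ E' ≤ J

theorem Gam.swap {H A : Subgroup G} (t : Gam p H A) :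
    Gam (p ∘ Equiv.swap (1 : Fin 4) 2) H A where
  primes := fun r hr hd => by
    rcases t.primes r hr hd with h | h | h
    · exact Or.inr (Or.inl h)
    · exact Or.inl h
    · exact Or.inr (Or.inr h)
  isA := t.isA
  neA := t.neA
  normA := t.normA
  faith := t.faith
  ne1 := t.ne2
  ne2 := t.ne1
  bot3 := t.bot3
  hall := fun i hi0 hi3 => t.hall (Equiv.swap (1 : Fin 4) 2 i)
    (by revert i; decide) (by revert i; decide)

variable {H A : Subgroup G}

theorem R2.eq_sup {r : ℕ} (hr : r.Prime) {E : Subgroup G} (hE : R2 r E) {a b : G} (ha : a ∈ E)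
    (hb : b ∈ E) (hao : orderOf a = r) (hne : b ∉ zpowers a) : E = zpowers a ⊔ zpowers b := by
  haveI := Fact.mk hr
  have hle : zpowers a ⊔ zpowers b ≤ E := sup_le (zpowers_le.2 ha) (zpowers_le.2 hb)
  refine (Subgroup.eq_of_le_of_card_ge hle ?_).symm
  obtain ⟨k, hk⟩ := IsPGroup.iff_card.1 (hE.isPGroup.to_le hle)
  rw [hE.card, hk]
  refine Nat.pow_le_pow_right hr.pos (not_lt.1 fun hlt => hne ?_)
  have h1 : zpowers a = zpowers a ⊔ zpowers b := by
    refine Subgroup.eq_of_le_of_card_ge le_sup_left ?_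
    rw [hk, Nat.card_zpowers, hao]
    calc r ^ k ≤ r ^ 1 := Nat.pow_le_pow_right hr.pos (by omega)
      _ = r := pow_one _
  rw [h1]
  exact mem_sup_right (mem_zpowers b)

/-- The special group used to exclude a noncyclic core. -/
def wSub (r : ℕ) (T : Subgroup G) (hc : 2 < r) (hr : r.Prime) : Subgroup G where
  carrier := {x | x ∈ T ∧ x ^ r = 1 ∧ ∀ y ∈ T, x * y * x⁻¹ * y⁻¹ ∈ omZ r T}
  one_mem' := ⟨one_mem _, one_pow _, fun y _ => by simp⟩
  mul_mem' := fun {x y} hx hy => by
    refine ⟨mul_mem hx.1 hy.1, ?_, fun t ht => ?_⟩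
    · set z := y * x * y⁻¹ * x⁻¹ with hz
      have hzT : z ∈ omZ r T := hy.2.2 x hx.1
      have hyx : y * x = z * (x * y) := by rw [hz]; group
      have key : ∀ n : ℕ, (x * y) ^ n = z ^ (n * (n - 1) / 2) * (x ^ n * y ^ n) := by
        have hzx : Commute z x := hzT.2.2 x hx.1
        have hzy : Commute z y := hzT.2.2 y hy.1
        have hswap : ∀ n : ℕ, y ^ n * x = z ^ n * (x * y ^ n) := by
          intro n
          induction n with
          | zero => simp
          | succ n ih =>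
            calc y ^ (n + 1) * x = y * (y ^ n * x) := by rw [pow_succ', mul_assoc]
              _ = y * (z ^ n * (x * y ^ n)) := by rw [ih]
              _ = z ^ n * ((y * x) * y ^ n) := by
                rw [← mul_assoc y, ← (hzy.pow_left n).eq]; simp only [mul_assoc]
              _ = z ^ n * ((z * (x * y)) * y ^ n) := by rw [hyx]
              _ = _ := by rw [pow_succ z, pow_succ' y]; simp only [mul_assoc]
        intro n
        induction n with
        | zero => simp
        | succ n ih =>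
          have e : (n + 1) * (n + 1 - 1) / 2 = n * (n - 1) / 2 + n := by
            rcases n with _ | m
            · rfl
            · simp only [Nat.add_sub_cancel]
              rw [show (m + 1 + 1) * (m + 1) = (m + 1) * m + (m + 1) * 2 by ring,
                Nat.add_mul_div_right _ _ (by norm_num)]
          rw [pow_succ, ih, e, pow_add]
          calc z ^ (n * (n - 1) / 2) * (x ^ n * y ^ n) * (x * y)
              = z ^ (n * (n - 1) / 2) * x ^ n * (y ^ n * x) * y := by simp only [mul_assoc]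
            _ = z ^ (n * (n - 1) / 2) * x ^ n * (z ^ n * (x * y ^ n)) * y := by rw [hswap]
            _ = z ^ (n * (n - 1) / 2) * (z ^ n * x ^ n) * (x * y ^ n) * y := by
              rw [((hzx.pow_pow n n)).eq]; simp only [mul_assoc]
            _ = _ := by simp only [mul_assoc, pow_succ]
      rw [key, hx.2.1, hy.2.1, mul_one, mul_one]
      obtain ⟨m, hm⟩ : r ∣ r * (r - 1) / 2 := by
        have h2 : 2 ∣ r - 1 := by
          have := hr.eq_two_or_odd
          omega
        rw [Nat.mul_div_assoc r h2]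
        exact dvd_mul_right _ _
      rw [hm, pow_mul, hzT.2.1, one_pow]
    · have h1 := hy.2.2 t ht
      have h2 := hx.2.2 t ht
      have e : x * y * t * (x * y)⁻¹ * t⁻¹ = (y * t * y⁻¹ * t⁻¹) * (x * t * x⁻¹ * t⁻¹) := by
        calc x * y * t * (x * y)⁻¹ * t⁻¹
            = x * (y * t * y⁻¹ * t⁻¹) * (t * x⁻¹ * t⁻¹) := by group
          _ = _ := by rw [← (h1.2.2 x hx.1).eq]; group
      rw [e]
      exact mul_mem h1 h2
  inv_mem' := fun {x} hx => ⟨inv_mem hx.1, by rw [inv_pow, hx.2.1, inv_one], fun t ht => by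
    have h := hx.2.2 t ht
    have e : x⁻¹ * t * x⁻¹⁻¹ * t⁻¹ = x⁻¹ * (x * t * x⁻¹ * t⁻¹)⁻¹ * x := by group
    rw [e, mul_assoc, ((h.2.2 x hx.1).inv_left).eq, inv_mul_cancel_left]
    exact inv_mem h⟩

theorem Gam.others (t : Gam p H A) {r : ℕ} (hr : r.Prime) (h1 : r ≠ p 1) (h2 : r ≠ p 2) :
    pc r H = ⊥ := by
  haveI := Fact.mk hr
  by_cases h3 : r = p 3
  · rw [h3]; exact t.bot3
  refine pc_eq_bot fun hd => ?_
  rcases t.primes r hr hd with h | h | h <;> contradiction

theorem Gam.false_of_cyclic (h : Rainbow G p) (t : Gam p H A)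
    (hcyc : IsCyclic (omZ (p 2) (pc (p 2) H))) : False := by
  haveI := Fact.mk (h.prime 1)
  haveI := Fact.mk (h.prime 2)
  haveI := Fact.mk (h.prime 3)
  set B := pc (p 1) H with hB
  set T := pc (p 2) H with hT
  set Z := omZ (p 2) T with hZ
  haveI := hcyc
  have hBp : IsPGroup (p 1) B := isPGroup_pc _ _
  have hTp : IsPGroup (p 2) T := isPGroup_pc _ _
  have hBH : B ≤ H := pc_le _ _
  have hTH : T ≤ H := pc_le _ _
  have hHB : H ≤ normalizer (B : Set G) := le_normalizer_pc _ le_normalizer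
  have hHT : H ≤ normalizer (T : Set G) := le_normalizer_pc _ le_normalizer
  have hHZ : H ≤ normalizer (Z : Set G) := le_normalizer_omZ hHT
  obtain ⟨z, hz, hzo⟩ := exists_order_of_ne_bot (h.prime 2) (hTp.to_le (omZ_le _ _))
    (omZ_ne_bot (h.prime 2) hTp t.ne2)
  have hz1 : z ≠ 1 := by
    rintro rfl
    rw [orderOf_one] at hzo
    exact (h.prime 2).one_lt.ne hzo
  obtain ⟨hZeq, -⟩ := eq_zpowers_of_isCyclic (Z := Z) (h.prime 2) (fun x hx => hx.2.1) hz hz1
  have hzH : z ∈ H := hTH (omZ_le _ _ hz)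
  have hHz : H ≤ normalizer (zpowers z : Set G) := hZeq ▸ hHZ
  have hbz : ∀ y ∈ B, Commute y z := fun y hy =>
    pc_commute (h.prime 1) (h.prime 2) (h.ne (by decide)) hy (omZ_le _ _ hz)
  -- elements of order `d` centralizing `z` are fixed-point-free on `B`
  have hfB : ∀ f, orderOf f = p 3 → Commute f z → ¬ Fix f B := by
    intro f hfo hfz hfix
    obtain ⟨y, hy, hyo, hfy⟩ := hfix.exists_order (h.prime 1) hBp
    exact h.tri (show (3 : Fin 4) ≠ 2 by decide) (show (3 : Fin 4) ≠ 1 by decide)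
      (show (2 : Fin 4) ≠ 1 by decide) hfo hzo hyo hfz hfy (hbz y hy).symm
  obtain ⟨J, E₂, E₃, hJH, hJp, hE₂, hE₂J, hE₃, hE₃J⟩ := t.hall 2 (by decide) (by decide)
  have hE₃H : E₃ ≤ H := hE₃J.trans hJH
  have hmove : ∃ f ∈ E₃, f ≠ 1 ∧ ¬ Commute f z := by
    obtain ⟨f, hf, hf1, hfix⟩ := exists_fix (h.prime 3) (h.prime 1) (h.ne (by decide)) hE₃ hBp t.ne1
      (hE₃H.trans hHB)
    exact ⟨f, hf, hf1, fun hc => hfB f (hE₃.orderOf_eq (h.prime 3) hf hf1) hc hfix⟩
  obtain ⟨g₁, hg₁, hg₁1, hg₁z⟩ := hmove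
  have hg₁o := hE₃.orderOf_eq (h.prime 3) hg₁ hg₁1
  haveI : IsCyclic (zpowers z) := inferInstance
  have hdc : p 3 ∣ p 2 - 1 := by
    have := dvd_totient_of_moves (h.prime 3) (T := zpowers z) hg₁o (hHz (hE₃H hg₁))
      ⟨z, mem_zpowers z, hg₁z⟩
    rwa [Nat.card_zpowers, hzo, Nat.totient_prime (h.prime 2)] at this
  have h22 : p 2 ≠ 2 := by
    intro e
    rw [e] at hdc
    exact (h.prime 3).one_lt.ne' (Nat.dvd_one.1 hdc)
  have hcz : ∀ e ∈ H, orderOf e = p 2 → Commute e z := fun e he heo =>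
    commute_of_not_dvd (h.prime 2) (h.prime 2) hzo heo (hHz he) fun hd => by
      have := Nat.le_of_dvd (by have := (h.prime 2).two_le; omega) hd
      have := (h.prime 2).two_le
      omega
  -- some element of order `d` centralizes `z`
  obtain ⟨f₁, hf₁, hf₁1, hf₁z⟩ := exists_centralize_of_isCyclic (h.prime 3) (h.prime 2)
    (h.ne (by decide)) hE₃ (hTp.to_le (omZ_le (p 2) T)) (hE₃H.trans hHZ)
  have hf₁o := hE₃.orderOf_eq (h.prime 3) hf₁ hf₁1
  have hzA : ¬ Fix z A := by
    intro hA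
    obtain ⟨a, -, hao, hza⟩ := hA.exists_order (h.prime 0) t.isA
    obtain ⟨y, hy, hyo⟩ := exists_order_of_ne_bot (h.prime 1) hBp t.ne1
    exact h.three (show (0 : Fin 4) ≠ 1 by decide) (show (0 : Fin 4) ≠ 3 by decide)
      (show (1 : Fin 4) ≠ 3 by decide) (show (0 : Fin 4) ≠ 2 by decide)
      (show (1 : Fin 4) ≠ 2 by decide) (show (3 : Fin 4) ≠ 2 by decide)
      hzo hao hyo hf₁o hza (hbz y hy).symm (hf₁z z hz).symm
  have hfA : ∀ f ∈ H, orderOf f = p 3 → Fix f A := by
    intro f hf hfo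
    by_cases hc : Commute f z
    · refine fix_of_moves_faithful (Q := omZ (p 1) B) (h.prime 3) (h.prime 1) (h.prime 0)
        (h.ne (by decide)) (h.ne (by decide)) (h.ne (by decide)) t.isA (hBp.to_le (omZ_le _ _)) hfo
        (le_normalizer_omZ hHB hf) (t.normA hf) (((omZ_le _ _).trans hBH).trans t.normA)
        (fun _ x hx y hy => (omZ_comm hx hy).eq) (fun x hx => t.faith x (hBH (omZ_le _ _ hx))) ?_
      obtain ⟨y, hy, hyo⟩ := exists_order_of_ne_bot (h.prime 1) (hBp.to_le (omZ_le (p 1) B))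
        (omZ_ne_bot (h.prime 1) hBp t.ne1)
      refine ⟨y, hy, fun hfy => hfB f hfo hc ⟨y, omZ_le _ _ hy, ?_, hfy⟩⟩
      rintro rfl
      rw [orderOf_one] at hyo
      exact (h.prime 1).one_lt.ne hyo
    · exact fix_of_moves_faithful (h.prime 3) (h.prime 2) (h.prime 0)
        (h.ne (by decide)) (h.ne (by decide)) (h.ne (by decide)) t.isA (hTp.to_le (omZ_le _ _)) hfo
        (hHZ hf) (t.normA hf) (((omZ_le _ _).trans hTH).trans t.normA)
        (fun _ x hx y hy => (omZ_comm hx hy).eq) (fun x hx => t.faith x (hTH (omZ_le _ _ hx)))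
        ⟨z, hz, hc⟩
  -- the core is cyclic
  have hTcyc : IsCyclic T := by
    by_contra hnc
    obtain ⟨E, hET, hE, hTE⟩ := exists_R2_le_of_not_isCyclic (h.prime 2) h22 hTp hnc
    have hc2 : 2 < p 2 := by have := (h.prime 2).two_le; omega
    set W := wSub (p 2) T hc2 (h.prime 2) with hW
    have hWT : W ≤ T := fun x hx => hx.1
    have hEW : E ≤ W := by
      intro x hx
      refine ⟨hET hx, hE.pow x hx, fun y hy => ?_⟩
      set C := E.subgroupOf T with hC
      haveI : C.Normal := (normal_subgroupOf_iff_le_normalizer hET).2 hTE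
      haveI : Group.IsNilpotent T := hTp.isNilpotent
      have hcard : Nat.card C = p 2 ^ 2 := by
        rw [Nat.card_congr (subgroupOfEquivOfLe hET).toEquiv, hE.card]
      have hstrict : ∀ N : Subgroup T, N.Normal → N ≠ ⊥ →
          ⁅N, (⊤ : Subgroup T)⁆ < N := by
        intro N hN hNne
        refine lt_of_le_of_ne (Subgroup.commutator_le_left N ⊤) fun heq => hNne ?_
        obtain ⟨n, hn⟩ := Subgroup.nilpotent_iff_lowerCentralSeries.1 (inferInstance : Group.IsNilpotent T)
        have : ∀ k, N ≤ (⊤ : Subgroup T).lowerCentralSeries k := by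
          intro k
          induction k with
          | zero => exact le_top
          | succ k ih =>
            rw [← heq]
            exact Subgroup.commutator_mono ih le_top
        exact le_bot_iff.1 (hn ▸ this n)
      have hCne : C ≠ ⊥ := fun e => by
        rw [e, card_bot] at hcard
        have := (h.prime 2).two_le
        nlinarith
      set C1 := ⁅C, (⊤ : Subgroup T)⁆ with hC1
      have hC1n : C1.Normal := inferInstance
      have hC1lt := hstrict C inferInstance hCne
      have hle1 : Nat.card C1 ∣ p 2 := by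
        obtain ⟨k, -, hk⟩ := (Nat.dvd_prime_pow (h.prime 2)).1
          (hcard ▸ card_dvd_of_le hC1lt.le)
        have hlt : Nat.card C1 < p 2 ^ 2 := hcard ▸ Set.Finite.card_lt_card (Set.toFinite _) hC1lt
        rw [hk] at hlt ⊢
        have : k < 2 := (Nat.pow_lt_pow_iff_right (h.prime 2).one_lt).1 hlt
        interval_cases k <;> simp
      have hC2 : ⁅C1, (⊤ : Subgroup T)⁆ = ⊥ := by
        by_cases hb : C1 = ⊥
        · rw [hb]; exact Subgroup.commutator_bot_left _
        have hlt := hstrict C1 hC1n hb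
        have h1 : Nat.card (⁅C1, (⊤ : Subgroup T)⁆ : Subgroup T) < p 2 :=
          lt_of_lt_of_le (Set.Finite.card_lt_card (Set.toFinite _) hlt)
            (Nat.le_of_dvd (h.prime 2).pos hle1)
        refine Subgroup.eq_bot_of_card_eq _ ?_
        rcases (Nat.dvd_prime (h.prime 2)).1 ((card_dvd_of_le hlt.le).trans hle1) with h0 | h0
        · exact h0
        · omega
      have hmem : (⟨x, hET hx⟩ : T) * ⟨y, hy⟩ * (⟨x, hET hx⟩ : T)⁻¹ * (⟨y, hy⟩ : T)⁻¹ ∈ C1 :=
        Subgroup.commutator_mem_commutator (show (⟨x, hET hx⟩ : T) ∈ C from hx) (mem_top _)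
      refine ⟨mul_mem (mul_mem (mul_mem (hET hx) hy) (inv_mem (hET hx))) (inv_mem hy), ?_,
        fun w hw => ?_⟩
      · have := congrArg Subtype.val
          (orderOf_dvd_iff_pow_eq_one.1 ((Subgroup.orderOf_dvd_natCard (s := C1) hmem).trans hle1))
        simpa using this
      · have := (commutator_eq_bot_iff_le_centralizer.1 hC2) hmem
        have h2 := mem_centralizer_iff.1 this ⟨w, hw⟩ (mem_top _)
        exact (congrArg Subtype.val h2).symm
    have hHW : H ≤ normalizer (W : Set G) := by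
      refine Cfsg.Agent.Coprime.le_normalizer_of_conj_mem fun g hg x hx => ?_
      have hmem := mem_normalizer_iff.1 (hHT hg)
      refine ⟨(hmem x).1 hx.1, by rw [conj_pow, hx.2.1, mul_one, mul_inv_cancel], fun y hy => ?_⟩
      have h1 : g⁻¹ * y * g ∈ T := (hmem _).2 (by
        rwa [show g * (g⁻¹ * y * g) * g⁻¹ = y by group])
      have h2 := (mem_normalizer_iff.1 (hHZ hg) _).1 (hx.2.2 _ h1)
      rwa [show g * (x * (g⁻¹ * y * g) * x⁻¹ * (g⁻¹ * y * g)⁻¹) * g⁻¹ =
        g * x * g⁻¹ * y * (g * x * g⁻¹)⁻¹ * y⁻¹ by group] at h2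
    have hnotle : ¬ W ≤ Z := fun hle => hE.not_le_of_isCyclic (h.prime 2) (K := Z) (hEW.trans hle)
    obtain ⟨f, hf, hf1, e, heW, hef, heZ⟩ :
        ∃ f ∈ E₃, f ≠ 1 ∧ ∃ e ∈ W, Commute f e ∧ e ∉ Z := by
      by_contra hcon
      push Not at hcon
      haveI := hE₃.isMulCommutative
      refine hnotle (Cfsg.Agent.Coprime.le_of_centralizer_le E₃ W Z (hE₃.not_isCyclic (h.prime 3))
        (hE₃H.trans hHW) (coprime_card (h.prime 3) (h.prime 2) (h.ne (by decide)) hE₃.isPGroup
          (hTp.to_le hWT)) fun e he he1 x hx => ?_)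
      exact hcon e he he1 x hx.1 (mem_centralizer_singleton_iff.1 hx.2).symm
    have hfo := hE₃.orderOf_eq (h.prime 3) hf hf1
    have heo : orderOf e = p 2 := orderOf_eq_prime heW.2.1 fun e1 => heZ (e1 ▸ one_mem _)
    have hze : Commute z e := hz.2.2 e (hWT heW)
    have hne : e ∉ zpowers z := hZeq ▸ heZ
    obtain ⟨E', hE', hzE', heE'⟩ := exists_R2_of_two (h.prime 2) hzo heo hze hne
    have heq := hE'.eq_sup (h.prime 2) hzE' heE' hzo hne
    have hfixA := hfA f (hE₃H hf) hfo
    by_cases hfz : Commute f z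
    · -- `f` centralizes `z` and `e`
      have hcomm : ∀ g ∈ zpowers z ⊔ zpowers e, Commute g f := by
        have : zpowers z ⊔ zpowers e ≤ centralizer ({f} : Set G) := sup_le
          (zpowers_le.2 (mem_centralizer_singleton_iff.2 hfz.symm.eq))
          (zpowers_le.2 (mem_centralizer_singleton_iff.2 hef.symm.eq))
        exact fun g hg => mem_centralizer_singleton_iff.1 (this hg)
      have hE'A : E' ≤ normalizer (A : Set G) := heq ▸ sup_le (zpowers_le.2 (t.normA hzH))
        (zpowers_le.2 (t.normA (hTH (hWT heW))))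
      obtain ⟨g, hg, hg1, a, -, hao, hga, hfa⟩ := exists_fix_of_fix (h.prime 2) (h.prime 0)
        (h.ne (by decide)) hE' t.isA hE'A (fun g hg => hcomm g (heq ▸ hg)) hfixA
      exact h.tri (show (2 : Fin 4) ≠ 3 by decide) (show (2 : Fin 4) ≠ 0 by decide)
        (show (3 : Fin 4) ≠ 0 by decide) (hE'.orderOf_eq (h.prime 2) hg hg1) hfo hao
        (hcomm g (heq ▸ hg)) hga hfa
    -- `f` moves `z`: all elements of `⟨e, z⟩` are fixed-point-free on `A`
    have heA : ¬ Fix e A := by
      intro hA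
      obtain ⟨a, -, hao, hea⟩ := hA.exists_order (h.prime 0) t.isA
      obtain ⟨y, hy, hyo⟩ := exists_order_of_ne_bot (h.prime 1) hBp t.ne1
      exact h.three (show (0 : Fin 4) ≠ 1 by decide) (show (0 : Fin 4) ≠ 3 by decide)
        (show (1 : Fin 4) ≠ 3 by decide) (show (0 : Fin 4) ≠ 2 by decide)
        (show (1 : Fin 4) ≠ 2 by decide) (show (3 : Fin 4) ≠ 2 by decide)
        heo hao hyo hfo hea
        (pc_commute (h.prime 2) (h.prime 1) (h.ne (by decide)) (hWT heW) hy) hef.symm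
    obtain ⟨u, hu, hue⟩ : ∃ u ∈ T, ¬ Commute e u := by
      by_contra hcon
      push Not at hcon
      exact heZ ⟨hWT heW, heW.2.1, hcon⟩
    set w := u * e * u⁻¹ * e⁻¹ with hw
    have hwZ : w ∈ Z := by
      have := inv_mem (heW.2.2 u hu)
      simpa [hw, mul_assoc] using this
    have hw1 : w ≠ 1 := fun e1 => hue (mul_inv_eq_iff_eq_mul.1 (mul_inv_eq_one.1 e1)).symm
    have hwgen : Z = zpowers w := (eq_zpowers_of_isCyclic (Z := Z) (h.prime 2) (fun x hx => hx.2.1) hwZ hw1).1
    have hconj : ∀ k : ℕ, MulAut.conj (u ^ k) e = w ^ k * e := by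
      intro k
      induction k with
      | zero => simp
      | succ k ih =>
        rw [pow_succ', map_mul, MulAut.mul_apply, ih, map_mul, map_pow, pow_succ, mul_assoc]
        congr 1
        · congr 1
          rw [MulAut.conj_apply, ← (hwZ.2.2 u hu).eq, mul_inv_cancel_right]
        · simp [hw, MulAut.conj_apply, mul_assoc]
    obtain ⟨x, hxE, hx1, hxA⟩ := exists_fix (h.prime 2) (h.prime 0) (h.ne (by decide)) hE' t.isA
      t.neA (heq ▸ sup_le (zpowers_le.2 (t.normA hzH))
        (zpowers_le.2 (t.normA (hTH (hWT heW)))))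
    have hxrep : ∃ i j : ℤ, x = z ^ i * e ^ j := by
      let S : Subgroup G :=
        { carrier := {g | ∃ i j : ℤ, g = z ^ i * e ^ j}
          one_mem' := ⟨0, 0, by simp⟩
          mul_mem' := by
            rintro _ _ ⟨i, j, rfl⟩ ⟨i', j', rfl⟩
            refine ⟨i + i', j + j', ?_⟩
            rw [zpow_add, zpow_add, mul_assoc, ← mul_assoc (e ^ j), ← (hze.zpow_zpow i' j).eq]
            simp only [mul_assoc]
          inv_mem' := by
            rintro _ ⟨i, j, rfl⟩
            exact ⟨-i, -j, by rw [mul_inv_rev, zpow_neg, zpow_neg, ((hze.zpow_zpow i j).inv_inv).eq]⟩ }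
      have hle : zpowers z ⊔ zpowers e ≤ S := sup_le (zpowers_le.2 ⟨1, 0, by simp⟩)
        (zpowers_le.2 ⟨0, 1, by simp⟩)
      exact hle (heq ▸ hxE)
    obtain ⟨i, j, hij⟩ := hxrep
    obtain ⟨a, ha, ha1, hxa⟩ := hxA
    by_cases hj : ((p 2 : ℤ)) ∣ j
    · obtain ⟨m, rfl⟩ := hj
      have hej : e ^ ((p 2 : ℤ) * m) = 1 := by
        rw [zpow_mul, zpow_natCast, heW.2.1, one_zpow]
      rw [hej, mul_one] at hij
      have hzi : z ^ i ≠ 1 := hij ▸ hx1
      obtain ⟨hzx, -⟩ := eq_zpowers_of_isCyclic (Z := Z) (h.prime 2) (fun y hy => hy.2.1)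
        (zpow_mem hz i) hzi
      obtain ⟨n, hn⟩ := hzx.le hz
      exact hzA ⟨a, ha, ha1, hn ▸ ((hij ▸ hxa).zpow_left n)⟩
    · have hcop : IsCoprime j (p 2 : ℤ) :=
        ((Int.prime_iff_natAbs_prime.2 (by simpa using h.prime 2)).coprime_iff_not_dvd.2 hj).symm
      have hwj : w ^ j ≠ 1 := by
        intro e1
        obtain ⟨s, s', hs⟩ := hcop
        refine hw1 ?_
        rw [← zpow_one w, ← hs, zpow_add, mul_comm s, zpow_mul, e1, one_zpow, mul_comm s', zpow_mul,
          zpow_natCast, hwZ.2.1, one_zpow, one_mul]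
      obtain ⟨hwjgen, -⟩ := eq_zpowers_of_isCyclic (Z := Z) (h.prime 2) (fun y hy => hy.2.1)
        (zpow_mem hwZ j) hwj
      obtain ⟨k, hk⟩ := mem_powers_iff_mem_zpowers.2 (hwjgen.le (zpow_mem hz i))
      have hxconj : x = MulAut.conj (u ^ k) (e ^ j) := by
        rw [map_zpow, hconj k, ((hwZ.2.2 e (hWT heW)).pow_left k).mul_zpow, hij]
        congr 1
        rw [← zpow_natCast w k, ← zpow_mul, mul_comm, zpow_mul, zpow_natCast]
        exact hk.symm
      refine heA ⟨(u ^ k)⁻¹ * a * u ^ k, ?_, ?_, ?_⟩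
      · have := (mem_normalizer_iff.1 (t.normA (inv_mem (pow_mem (hTH hu) k))) a).1 ha
        simpa using this
      · intro e1
        apply ha1
        calc a = u ^ k * ((u ^ k)⁻¹ * a * u ^ k) * (u ^ k)⁻¹ := by group
          _ = 1 := by rw [e1]; group
      · obtain ⟨s, s', hs⟩ := hcop
        have h1 : Commute (e ^ j) ((u ^ k)⁻¹ * a * u ^ k) := by
          have := hxa.map (MulAut.conj (u ^ k)⁻¹).toMonoidHom
          rw [hxconj] at this
          simp only [MulEquiv.toMonoidHom_eq_coe, MonoidHom.coe_coe, MulAut.conj_apply,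
            inv_inv] at this
          simpa [mul_assoc] using this
        have h2 : (e ^ j) ^ s = e := by
          rw [← zpow_mul, show j * s = 1 - s' * (p 2 : ℤ) by linarith, zpow_sub, zpow_one,
            mul_comm s', zpow_mul, zpow_natCast, heW.2.1, one_zpow, inv_one, mul_one]
        exact h2 ▸ h1.zpow_left s
  -- the final configuration
  haveI := hTcyc
  obtain ⟨f₀, hf₀, hf₀1, hf₀T⟩ := exists_centralize_of_isCyclic (h.prime 3) (h.prime 2)
    (h.ne (by decide)) hE₃ hTp (hE₃H.trans hHT)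
  have hf₀o := hE₃.orderOf_eq (h.prime 3) hf₀ hf₀1
  set K := J ⊓ centralizer ({z} : Set G) with hKdef
  have hKJ : K ≤ J := inf_le_left
  have hKH : K ≤ H := hKJ.trans hJH
  have hKz : ∀ x ∈ K, Commute x z := fun x hx => mem_centralizer_singleton_iff.1 hx.2
  have hE₂K : E₂ ≤ K := fun e he => by
    rcases eq_or_ne e 1 with rfl | he1
    · exact one_mem _
    exact ⟨hE₂J he, mem_centralizer_singleton_iff.2
      (hcz e (hJH (hE₂J he)) (hE₂.orderOf_eq (h.prime 2) he he1)).eq⟩
  have hf₀K : f₀ ∈ K := ⟨hE₃J hf₀,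
    mem_centralizer_singleton_iff.2 (hf₀T z (omZ_le _ _ hz)).eq⟩
  have hKp : ∀ r, r.Prime → r ∣ Nat.card K → r = p 2 ∨ r = p 3 :=
    fun r hr hd => hJp r hr (hd.trans (card_dvd_of_le hKJ))
  have hrank : ¬ ∃ E : Subgroup G, E ≤ K ∧ R2 (p 3) E := by
    rintro ⟨E, hEK, hE⟩
    obtain ⟨e, he, he1, hfix⟩ := exists_fix (h.prime 3) (h.prime 1) (h.ne (by decide)) hE hBp t.ne1
      ((hEK.trans hKH).trans hHB)
    exact hfB e (hE.orderOf_eq (h.prime 3) he he1) (hKz e (hEK he)) hfix
  set U := pc (p 3) K with hU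
  by_cases hUb : U = ⊥
  · -- `f₀` moves the core of `K` modulo the centralizer of `B`
    set M := pc (p 2) K with hM
    have hKM : K ≤ normalizer (M : Set G) := le_normalizer_pc _ le_normalizer
    have hMK : M ≤ K := pc_le _ _
    have hMp : IsPGroup (p 2) M := isPGroup_pc _ _
    obtain ⟨x, hx, hxf⟩ : ∃ x ∈ M, ¬ Commute f₀ x := by
      by_contra hcon
      push Not at hcon
      have hmem := mem_pc_of_centralizes (r := p 3) hf₀K (hE₃.pow f₀ hf₀) fun r hr y hy => by
        haveI := Fact.mk hr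
        by_cases h2 : r = p 2
        · subst h2
          exact hcon y hy
        by_cases h3 : r = p 3
        · subst h3
          change y ∈ U at hy
          rw [hUb, Subgroup.mem_bot] at hy
          rw [hy]; exact Commute.one_right _
        rw [pc_eq_bot (fun hd => (hKp r hr hd).elim h2 h3), Subgroup.mem_bot] at hy
        rw [hy]; exact Commute.one_right _
      exact hf₀1 (Subgroup.mem_bot.1 (hUb ▸ hmem))
    have hfix : Fix f₀ B := by
      refine fix_of_moves (h.prime 3) (h.prime 2) (h.prime 1) (h.ne (by decide)) (h.ne (by decide))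
        (h.ne (by decide)) hBp hMp hf₀o (hKM hf₀K) (hHB (hKH hf₀K))
        ((hMK.trans hKH).trans hHB) (fun e => absurd e h22) ?_
      refine ⟨x, hx, fun hw => hxf ?_⟩
      set w := ⁅x, f₀⁆ with hwdef
      have hwM : w ∈ M := by
        have h1 : f₀ * x⁻¹ * f₀⁻¹ ∈ M := (mem_normalizer_iff.1 (hKM hf₀K) _).1 (inv_mem hx)
        simpa [hwdef, commutatorElement_def, mul_assoc] using mul_mem hx h1
      have hwT : w ∈ T := by
        obtain ⟨k, hk⟩ := IsPGroup.iff_orderOf.1 hMp ⟨w, hwM⟩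
        rw [Subgroup.orderOf_mk] at hk
        exact mem_core_of_centralizes (h.prime 2) (h.prime 1) (h.ne (by decide))
          (fun r hr h2 h1 => t.others hr h1 h2) hTcyc (hKH (hMK hwM)) hk
          fun y hy => (mem_centralizer_iff.1 hw y hy).symm
      have hwf : Commute f₀ w := hf₀T w hwT
      have hstep : ∀ n : ℕ, f₀ ^ n * x⁻¹ * (f₀ ^ n)⁻¹ = x⁻¹ * w ^ n := by
        intro n
        induction n with
        | zero => simp
        | succ n ih =>
          calc f₀ ^ (n + 1) * x⁻¹ * (f₀ ^ (n + 1))⁻¹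
              = f₀ * (f₀ ^ n * x⁻¹ * (f₀ ^ n)⁻¹) * f₀⁻¹ := by rw [pow_succ']; group
            _ = f₀ * x⁻¹ * f₀⁻¹ * (f₀ * w ^ n * f₀⁻¹) := by rw [ih]; group
            _ = x⁻¹ * w * w ^ n := by
              rw [(hwf.pow_right n).eq, mul_inv_cancel_right, hwdef, commutatorElement_def]
              group
            _ = _ := by rw [mul_assoc, ← pow_succ']
      have hd := hstep (p 3)
      rw [← hf₀o, pow_orderOf_eq_one, one_mul, inv_one, mul_one, left_eq_mul] at hd
      have hw1 : w = 1 := by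
        obtain ⟨k, hk⟩ := IsPGroup.iff_orderOf.1 hMp ⟨w, hwM⟩
        rw [Subgroup.orderOf_mk] at hk
        have hdv : orderOf w ∣ p 3 := hf₀o ▸ orderOf_dvd_of_pow_eq_one hd
        exact orderOf_eq_one_iff.1 (Nat.eq_one_of_dvd_coprimes
          ((h.coprime (show (2 : Fin 4) ≠ 3 by decide)).pow_left k) (hk ▸ dvd_rfl) hdv)
      exact (commutatorElement_eq_one_iff_commute.1 hw1).symm
    exact hfB f₀ hf₀o (hKz f₀ hf₀K) hfix
  · -- the centre of the core is cyclic and centralized by `E₂`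
    have hUp : IsPGroup (p 3) U := isPGroup_pc _ _
    set Y := omZ (p 3) U with hY
    have hYK : Y ≤ K := (omZ_le _ _).trans (pc_le _ _)
    haveI : IsCyclic Y := (isCyclic_or_exists_R2 (h.prime 3) (fun a ha b hb => omZ_comm ha hb)
      (fun a (ha : a ∈ Y) => ha.2.1)).resolve_right fun ⟨E, hEY, hE⟩ =>
        hrank ⟨E, hEY.trans hYK, hE⟩
    obtain ⟨y, hy, hyo⟩ := exists_order_of_ne_bot (h.prime 3) (hUp.to_le (omZ_le _ _))
      (omZ_ne_bot (h.prime 3) hUp hUb)
    have hy1 : y ≠ 1 := by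
      rintro rfl
      rw [orderOf_one] at hyo
      exact (h.prime 3).one_lt.ne hyo
    obtain ⟨hYeq, -⟩ := eq_zpowers_of_isCyclic (h.prime 3) (fun a (ha : a ∈ Y) => ha.2.1) hy hy1
    have hKY : K ≤ normalizer (Y : Set G) :=
      le_normalizer_omZ (le_normalizer_pc _ le_normalizer)
    have hlt : p 3 < p 2 := by
      have := Nat.le_of_dvd (by have := (h.prime 2).two_le; omega) hdc
      have := (h.prime 2).two_le
      omega
    have hcomm : ∀ e ∈ E₂, Commute e y := by
      intro e he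
      rcases eq_or_ne e 1 with rfl | he1
      · exact Commute.one_left y
      refine commute_of_not_dvd (h.prime 2) (h.prime 3) hyo (hE₂.orderOf_eq (h.prime 2) he he1)
        (hYeq ▸ hKY (hE₂K he)) fun hd => ?_
      have := Nat.le_of_dvd (by have := (h.prime 3).two_le; omega) hd
      omega
    obtain ⟨g, hg, hg1, a, -, hao, hga, hya⟩ := exists_fix_of_fix (h.prime 2) (h.prime 0)
      (h.ne (by decide)) hE₂ t.isA ((hE₂J.trans hJH).trans t.normA) hcomm
      (hfA y (hKH (hYK hy)) hyo)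
    exact h.tri (show (2 : Fin 4) ≠ 3 by decide) (show (2 : Fin 4) ≠ 0 by decide)
      (show (3 : Fin 4) ≠ 0 by decide) (hE₂.orderOf_eq (h.prime 2) hg hg1) hyo hao (hcomm g hg)
      hga hya

theorem Gam.false (h : Rainbow G p) (t : Gam p H A) : False := by
  haveI := Fact.mk (h.prime 1)
  haveI := Fact.mk (h.prime 2)
  rcases isCyclic_or_exists_R2 (h.prime 2) (Z := omZ (p 2) (pc (p 2) H))
    (fun a ha b hb => omZ_comm ha hb) (fun a ha => ha.2.1) with hc | ⟨E, hEZ, hE⟩
  · exact t.false_of_cyclic h hc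
  rcases isCyclic_or_exists_R2 (h.prime 1) (Z := omZ (p 1) (pc (p 1) H))
    (fun a ha b hb => omZ_comm ha hb) (fun a ha => ha.2.1) with hc | ⟨E', hEZ', hE'⟩
  · exact Gam.false_of_cyclic (h.perm (Equiv.swap 1 2)) t.swap hc
  obtain ⟨e, he, he1, hfix⟩ := exists_fix (h.prime 1) (h.prime 0) (h.ne (by decide)) hE' t.isA t.neA
    (((hEZ'.trans (omZ_le _ _)).trans (pc_le _ _)).trans t.normA)
  have hcomm : ∀ g ∈ E, Commute g e := fun g hg =>
    pc_commute (h.prime 2) (h.prime 1) (h.ne (by decide)) (omZ_le _ _ (hEZ hg))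
      (omZ_le _ _ (hEZ' he))
  obtain ⟨g, hg, hg1, a, -, hao, hga, hea⟩ := exists_fix_of_fix (h.prime 2) (h.prime 0)
    (h.ne (by decide)) hE t.isA (((hEZ.trans (omZ_le _ _)).trans (pc_le _ _)).trans t.normA)
    hcomm hfix
  exact h.tri (show (2 : Fin 4) ≠ 1 by decide) (show (2 : Fin 4) ≠ 0 by decide)
    (show (1 : Fin 4) ≠ 0 by decide) (hE.orderOf_eq (h.prime 2) hg hg1)
    (hE'.orderOf_eq (h.prime 1) he he1) hao (hcomm g hg) hga hea

end Cfsg.Agent.SzSq70.Solv
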