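import Cfsg.Agent.SzSq70.SolvAlpha
import Cfsg.Agent.SzSq70.SolvBeta
import Cfsg.Agent.SzSq70.SolvGamma
import Cfsg.Agent.Lib.Solvable.HallPi

/-!
# No soluble group has four primes with all products of two and no product of three
-/

set_option autoImplicit false
set_option linter.style.haveILetI false
set_option linter.unusedSectionVars false

namespace Cfsg.Agent.SzSq70

open Subgroup
open scoped Pointwise

namespace Solv

variable {G : Type*} [Group G] [Finite G] [Group.IsSolvable G] {p : Fin 4 → ℕ}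

/-- A conjugate of a subgroup with primes in `π` lies in a given Hall subgroup. -/
theorem exists_conj_le {π : Set ℕ} {J : Subgroup G} (hJ : Cfsg.IsPiHall π J) (K : Subgroup G)
    (hK : ∀ r : ℕ, r.Prime → r ∣ Nat.card K → r ∈ π) :
    ∃ g : G, MulAut.conj g • K ≤ J := by
  obtain ⟨g, hg⟩ := Cfsg.Agent.Solvable.le_conj_isPiHall hJ K hK
  exact ⟨g⁻¹, by rwa [map_inv, ← Subgroup.subset_pointwise_smul_iff]⟩

theorem exists_hall_le {π π' : Set ℕ} {H : Subgroup G} (hH : Cfsg.IsPiHall π H) (h : π' ⊆ π) :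
    ∃ J : Subgroup G, Cfsg.IsPiHall π' J ∧ J ≤ H := by
  obtain ⟨J, hJ⟩ := Cfsg.Agent.Solvable.exists_isPiHall (G := G) π'
  obtain ⟨g, hg⟩ := exists_conj_le hH J fun r hr hd => h (hJ.1 r hr hd)
  exact ⟨_, Cfsg.Agent.Solvable.isPiHall_conj_smul hJ g, hg⟩

theorem exists_R2_le_hall (h : Rainbow G p) {π : Set ℕ} {J : Subgroup G}
    (hJ : Cfsg.IsPiHall π J) {i : Fin 4} (hi : p i ∈ π) :
    ∃ E : Subgroup G, R2 (p i) E ∧ E ≤ J := by
  obtain ⟨E, hE⟩ := h.exists_R2 i
  obtain ⟨g, hg⟩ := exists_conj_le hJ E fun r hr hd => by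
    rw [hE.card] at hd
    rwa [(Nat.prime_dvd_prime_iff_eq hr (h.prime i)).1 (hr.dvd_of_dvd_pow hd)]
  refine ⟨_, hE.map (MulAut.conj g), ?_⟩
  exact hg

/-- Elements of a subgroup centralizing all cores are trivial, if the cores of its primes are. -/
theorem eq_one_of_centralizes {K J : Subgroup G} (hJK : J ≤ K)
    (hbot : ∀ r, r.Prime → r ∣ Nat.card J → pc r K = ⊥) {x : G} (hx : x ∈ J)
    (hc : ∀ t, t.Prime → ∀ y ∈ pc t K, Commute x y) : x = 1 := by
  by_contra hx1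
  obtain ⟨r, hr, hd⟩ := Nat.exists_prime_and_dvd fun e => hx1 (orderOf_eq_one_iff.1 e)
  set y := x ^ (orderOf x / r) with hy
  have hyo : orderOf y = r := orderOf_pow_orderOf_div (orderOf_pos x).ne' hd
  have hyJ : y ∈ J := pow_mem hx _
  have hrJ : r ∣ Nat.card J := by
    rw [← hyo, ← Subgroup.orderOf_mk y hyJ]
    exact orderOf_dvd_natCard _
  have hmem := mem_pc_of_centralizes (hJK hyJ) (hyo ▸ pow_orderOf_eq_one y) fun t ht z hz =>
    (hc t ht z hz).pow_left _
  rw [hbot r hr hrJ, Subgroup.mem_bot] at hmem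
  rw [hmem, orderOf_one] at hyo
  exact hr.one_lt.ne hyo

/-- Three cores are too many. -/
theorem false_of_three_cores (h : Rainbow G p) {K : Subgroup G} {i j k : Fin 4} (hij : i ≠ j)
    (hik : i ≠ k) (hjk : j ≠ k) (h1 : pc (p i) K ≠ ⊥) (h2 : pc (p j) K ≠ ⊥)
    (h3 : pc (p k) K ≠ ⊥) : False := by
  haveI := Fact.mk (h.prime i)
  haveI := Fact.mk (h.prime j)
  haveI := Fact.mk (h.prime k)
  obtain ⟨x, hx, hxo⟩ := exists_order_of_ne_bot (h.prime i) (isPGroup_pc _ _) h1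
  obtain ⟨y, hy, hyo⟩ := exists_order_of_ne_bot (h.prime j) (isPGroup_pc _ _) h2
  obtain ⟨z, hz, hzo⟩ := exists_order_of_ne_bot (h.prime k) (isPGroup_pc _ _) h3
  exact h.tri hij hik hjk hxo hyo hzo (pc_commute (h.prime i) (h.prime j) (h.ne hij) hx hy)
    (pc_commute (h.prime i) (h.prime k) (h.ne hik) hx hz)
    (pc_commute (h.prime j) (h.prime k) (h.ne hjk) hy hz)

/-- The data after the first layer. -/
structure Lay (p : Fin 4 → ℕ) (H A : Subgroup G) : Prop where
  hall : Cfsg.IsPiHall {r | ∃ i : Fin 4, i ≠ 0 ∧ r = p i} H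
  isA : IsPGroup (p 0) A
  neA : A ≠ ⊥
  normA : H ≤ normalizer (A : Set G)
  faith : ∀ x ∈ H, (∀ a ∈ A, Commute x a) → x = 1

variable {H A : Subgroup G}

theorem Lay.perm (t : Lay p H A) (σ : Equiv.Perm (Fin 4)) (hσ : σ 0 = 0) :
    Lay (p ∘ σ) H A where
  hall := by
    have : {r | ∃ i : Fin 4, i ≠ 0 ∧ r = (p ∘ σ) i} = {r | ∃ i : Fin 4, i ≠ 0 ∧ r = p i} := by
      ext r
      constructor
      · rintro ⟨i, hi, rfl⟩
        exact ⟨σ i, fun e => hi (σ.injective (e.trans hσ.symm)), rfl⟩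
      · rintro ⟨i, hi, rfl⟩
        refine ⟨σ.symm i, fun e => hi ?_, by simp⟩
        rw [← σ.apply_symm_apply i, e, hσ]
    exact this ▸ t.hall
  isA := by simpa [hσ] using t.isA
  neA := t.neA
  normA := t.normA
  faith := t.faith

theorem Lay.prime_eq (t : Lay p H A) {r : ℕ} (hr : r.Prime) (hd : r ∣ Nat.card H) :
    r = p 1 ∨ r = p 2 ∨ r = p 3 := by
  obtain ⟨i, hi, rfl⟩ := t.hall.1 r hr hd
  fin_cases i <;> simp at hi ⊢

theorem Lay.false_of_two (h : Rainbow G p) (t : Lay p H A) (h1 : pc (p 1) H ≠ ⊥)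
    (h2 : pc (p 2) H ≠ ⊥) (h3 : pc (p 3) H = ⊥) : False := by
  refine Gam.false h (p := p) (H := H) (A := A) ⟨fun r hr hd => t.prime_eq hr hd, t.isA, t.neA,
    t.normA, t.faith, h1, h2, h3, fun i hi0 _ => ?_⟩
  obtain ⟨J, hJ, hJH⟩ := exists_hall_le (π' := {p i, p 3}) t.hall (by
    rintro r (rfl | rfl)
    · exact ⟨i, hi0, rfl⟩
    · exact ⟨3, by decide, rfl⟩)
  obtain ⟨E, hE, hEJ⟩ := exists_R2_le_hall h hJ (i := i) (Or.inl rfl)
  obtain ⟨E', hE', hEJ'⟩ := exists_R2_le_hall h hJ (i := 3) (Or.inr rfl)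
  exact ⟨J, E, E', hJH, fun r hr hd => hJ.1 r hr hd, hE, hEJ, hE', hEJ'⟩

theorem Lay.false_of_one (h : Rainbow G p) (t : Lay p H A) (h1 : pc (p 1) H ≠ ⊥)
    (h2 : pc (p 2) H = ⊥) (h3 : pc (p 3) H = ⊥) : False := by
  haveI := Fact.mk (h.prime 1)
  obtain ⟨J, hJ, hJH⟩ := exists_hall_le (π' := {p 2, p 3}) t.hall (by
    rintro r (rfl | rfl)
    · exact ⟨2, by decide, rfl⟩
    · exact ⟨3, by decide, rfl⟩)
  obtain ⟨E, hE, hEJ⟩ := exists_R2_le_hall h hJ (i := 2) (Or.inl rfl)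
  obtain ⟨E', hE', hEJ'⟩ := exists_R2_le_hall h hJ (i := 3) (Or.inr rfl)
  refine One.false h (p := p) (J := J) (A := A) (B := pc (p 1) H) (E₂ := E) (E₃ := E')
    ⟨fun r hr hd => hJ.1 r hr hd, t.isA, isPGroup_pc _ _, t.neA, h1, (pc_le _ _).trans t.normA,
      hJH.trans t.normA, hJH.trans (le_normalizer_pc _ le_normalizer),
      fun x hx => t.faith x (pc_le _ _ hx), fun x hx => t.faith x (hJH hx),
      fun x hx hc => ?_, hE, hEJ, hE', hEJ'⟩
  refine eq_one_of_centralizes hJH (fun r hr hd => ?_) hx fun r hr y hy => ?_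
  · rcases hJ.1 r hr hd with rfl | rfl <;> assumption
  · haveI := Fact.mk hr
    by_cases hd : r ∣ Nat.card H
    · rcases t.prime_eq hr hd with rfl | rfl | rfl
      · exact hc y hy
      · rw [h2, Subgroup.mem_bot] at hy
        rw [hy]; exact Commute.one_right _
      · rw [h3, Subgroup.mem_bot] at hy
        rw [hy]; exact Commute.one_right _
    · rw [pc_eq_bot hd, Subgroup.mem_bot] at hy
      rw [hy]; exact Commute.one_right _

theorem Lay.false (h : Rainbow G p) (t : Lay p H A) : False := by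
  classical
  have hne : H ≠ ⊥ := by
    obtain ⟨E, hE, hEH⟩ := exists_R2_le_hall h t.hall (i := 1) ⟨1, by decide, rfl⟩
    intro e
    obtain rfl := le_bot_iff.1 (e ▸ hEH)
    have := hE.card
    rw [Subgroup.card_bot] at this
    nlinarith [(h.prime 1).two_le]
  obtain ⟨r, hr, hd, hrne⟩ := exists_pc_ne_bot hne
  obtain ⟨i, hi0, rfl⟩ := t.hall.1 r hr hd
  by_cases hex : ∃ j : Fin 4, j ≠ 0 ∧ j ≠ i ∧ pc (p j) H ≠ ⊥
  · obtain ⟨j, hj0, hji, hj⟩ := hex
    obtain ⟨σ, hσ0, hσ1, hσ2⟩ : ∃ σ : Equiv.Perm (Fin 4), σ 0 = 0 ∧ σ 1 = i ∧ σ 2 = j := by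
      refine ⟨Equiv.swap 1 i * Equiv.swap 2 (Equiv.swap 1 i j), ?_, ?_, ?_⟩
      all_goals revert hi0 hj0 hji
      all_goals clear hrne hj hr hd
      all_goals revert i j
      all_goals decide
    by_cases hk : pc (p (σ 3)) H = ⊥
    · exact (t.perm σ hσ0).false_of_two (h.perm σ) (by simpa [hσ1] using hrne)
        (by simpa [hσ2] using hj) hk
    · exact false_of_three_cores h (i := σ 1) (j := σ 2) (k := σ 3) (σ.injective.ne (by decide))
        (σ.injective.ne (by decide)) (σ.injective.ne (by decide)) (hσ1 ▸ hrne) (hσ2 ▸ hj) hk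
  · push Not at hex
    have hσ0 : Equiv.swap (1 : Fin 4) i 0 = 0 :=
      Equiv.swap_apply_of_ne_of_ne (by decide) hi0.symm
    refine (t.perm _ hσ0).false_of_one (h.perm _) (by simpa using hrne) ?_ ?_
    · refine hex _ ?_ ?_
      all_goals revert hi0
      all_goals clear hex hrne hr hd
      all_goals revert i
      all_goals decide
    · refine hex _ ?_ ?_
      all_goals revert hi0
      all_goals clear hex hrne hr hd
      all_goals revert i
      all_goals decide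

/-- The primes of the group are the four given ones. -/
theorem false_of_primes (h : Rainbow G p)
    (hG : ∀ r : ℕ, r.Prime → r ∣ Nat.card G → ∃ i, r = p i) : False := by
  classical
  have hcard : Nat.card (⊤ : Subgroup G) = Nat.card G := Subgroup.card_top
  have hout : ∀ r : ℕ, r.Prime → (∀ i, r ≠ p i) → pc r (⊤ : Subgroup G) = ⊥ := by
    intro r hr hne
    haveI := Fact.mk hr
    refine pc_eq_bot fun hd => ?_
    obtain ⟨i, hi⟩ := hG r hr (hcard ▸ hd)
    exact hne i hi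
  have htop : (⊤ : Subgroup G) ≠ ⊥ := by
    intro e
    obtain ⟨x, hx⟩ := h.pair 0 1 (by decide)
    have hx1 : x = 1 := Subgroup.mem_bot.1 (e ▸ Subgroup.mem_top x)
    rw [hx1, orderOf_one] at hx
    have := (h.prime 0).two_le
    have := (h.prime 1).two_le
    nlinarith
  obtain ⟨r, hr, hd, hrne⟩ := exists_pc_ne_bot htop
  obtain ⟨i, rfl⟩ := hG r hr (hcard ▸ hd)
  by_cases hex : ∃ j, j ≠ i ∧ pc (p j) (⊤ : Subgroup G) ≠ ⊥
  · obtain ⟨j, hji, hj⟩ := hex
    by_cases hex' : ∃ k, k ≠ i ∧ k ≠ j ∧ pc (p k) (⊤ : Subgroup G) ≠ ⊥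
    · obtain ⟨k, hki, hkj, hk⟩ := hex'
      exact false_of_three_cores h hji.symm hki.symm hkj.symm hrne hj hk
    push Not at hex'
    obtain ⟨σ, hσ0, hσ1⟩ : ∃ σ : Equiv.Perm (Fin 4), σ 0 = i ∧ σ 1 = j := by
      refine ⟨Equiv.swap 0 i * Equiv.swap 1 (Equiv.swap 0 i j), ?_, ?_⟩
      all_goals revert hji
      all_goals clear hrne hr hd hex' hj
      all_goals revert i j
      all_goals decide
    have hbot : ∀ m : Fin 4, m ≠ 0 → m ≠ 1 → pc (p (σ m)) (⊤ : Subgroup G) = ⊥ := fun m h0 h1 =>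
      hex' _ (hσ0 ▸ σ.injective.ne h0) (hσ1 ▸ σ.injective.ne h1)
    have h' := h.perm σ
    haveI := Fact.mk (h'.prime 0)
    haveI := Fact.mk (h'.prime 1)
    obtain ⟨J, hJ⟩ := Cfsg.Agent.Solvable.exists_isPiHall (G := G) {(p ∘ σ) 2, (p ∘ σ) 3}
    obtain ⟨E, hE, hEJ⟩ := exists_R2_le_hall h' hJ (i := 2) (Or.inl rfl)
    obtain ⟨E', hE', hEJ'⟩ := exists_R2_le_hall h' hJ (i := 3) (Or.inr rfl)
    have hN : ∀ r : ℕ, (⊤ : Subgroup G) ≤ normalizer (pc r (⊤ : Subgroup G) : Set G) := fun r =>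
      le_normalizer_pc r le_normalizer
    refine Two.false h' (p := p ∘ σ) (J := J) (A := pc ((p ∘ σ) 0) ⊤) (B := pc ((p ∘ σ) 1) ⊤)
      (E₂ := E) (E₃ := E') ⟨fun r hr hd => hJ.1 r hr hd, isPGroup_pc _ _, isPGroup_pc _ _,
        by simpa [hσ0] using hrne, by simpa [hσ1] using hj,
        fun a ha b hb => pc_commute (h'.prime 0) (h'.prime 1) (h'.ne (by decide)) ha hb,
        le_top.trans (hN _), le_top.trans (hN _), fun x hx hA hB => ?_, hE, hEJ, hE', hEJ'⟩
    refine eq_one_of_centralizes le_top (fun r hr hd => ?_) hx fun r hr y hy => ?_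
    · rcases hJ.1 r hr hd with rfl | rfl
      · exact hbot 2 (by decide) (by decide)
      · exact hbot 3 (by decide) (by decide)
    · by_cases hm : ∃ m, r = p (σ m)
      · obtain ⟨m, rfl⟩ := hm
        by_cases h0 : m = 0
        · subst h0; exact hA y hy
        by_cases h1 : m = 1
        · subst h1; exact hB y hy
        rw [hbot m h0 h1, Subgroup.mem_bot] at hy
        rw [hy]; exact Commute.one_right _
      · rw [hout r hr (fun k hk => hm ⟨σ.symm k, by simpa using hk⟩), Subgroup.mem_bot] at hy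
        rw [hy]; exact Commute.one_right _
  · push Not at hex
    set σ : Equiv.Perm (Fin 4) := Equiv.swap 0 i with hσ
    have hσ0 : σ 0 = i := Equiv.swap_apply_left _ _
    have h' := h.perm σ
    set A := pc (p i) (⊤ : Subgroup G) with hA
    haveI := Fact.mk hr
    have hAp : IsPGroup (p i) A := isPGroup_pc _ _
    obtain ⟨H, hH⟩ := Cfsg.Agent.Solvable.exists_isPiHall (G := G)
      {r | ∃ k : Fin 4, k ≠ 0 ∧ r = (p ∘ σ) k}
    refine Lay.false h' (p := p ∘ σ) (H := H) (A := A) ⟨hH, by simpa [hσ0] using hAp, hrne,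
      le_top.trans (le_normalizer_pc _ le_normalizer), fun x hx hc => ?_⟩
    have hbot : ∀ t : ℕ, t.Prime → t ≠ p i → t ≠ p i → pc t (⊤ : Subgroup G) = ⊥ := by
      intro t ht hti _
      by_cases hm : ∃ k, t = p k
      · obtain ⟨k, rfl⟩ := hm
        exact hex k fun e => hti (e ▸ rfl)
      · exact hout t ht fun k hk => hm ⟨k, hk⟩
    obtain ⟨u, hu, w, hw, huw⟩ := mem_mul_of_centralizes hbot (Subgroup.mem_top x) hc hc
    have hxA : x ∈ A := huw ▸ mul_mem hu hw
    obtain ⟨e, he⟩ := IsPGroup.iff_card.1 hAp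
    have hcop : (Nat.card A).Coprime (Nat.card H) := by
      rw [he]
      refine Nat.Coprime.pow_left _ (hr.coprime_iff_not_dvd.2 fun hd' => ?_)
      obtain ⟨k, hk, hk'⟩ := hH.1 _ hr hd'
      exact hk (σ.injective ((h.inj hk').symm.trans hσ0.symm))
    exact Subgroup.mem_bot.1 (Subgroup.inf_eq_bot_of_coprime hcop ▸ ⟨hxA, hx⟩)

end Solv

/-- No soluble group has four primes with elements of all products of two of them and none of
a product of three of them. -/
theorem false_of_solvable {G : Type*} [Group G] [Finite G] [Group.IsSolvable G] (p : Fin 4 → ℕ)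
    (hp : ∀ i, (p i).Prime) (hinj : Function.Injective p)
    (pair : ∀ i j, i ≠ j → ∃ x : G, orderOf x = p i * p j)
    (no3 : ∀ i j k, i ≠ j → i ≠ k → j ≠ k → ¬ ∃ x : G, orderOf x = p i * p j * p k) : False := by
  obtain ⟨H, hH⟩ := Cfsg.Agent.Solvable.exists_isPiHall (G := G) (Set.range p)
  refine Solv.false_of_primes (G := H) (p := p) ⟨hp, hinj, fun i j hij => ?_,
    fun i j k hij hik hjk => ?_⟩ fun r hr hd => (hH.1 r hr hd).imp fun i hi => hi.symm
  · obtain ⟨x, hx⟩ := pair i j hij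
    obtain ⟨g, hg⟩ := Solv.exists_conj_le hH (zpowers x) fun r hr hd => by
      rw [Nat.card_zpowers, hx] at hd
      rcases hr.dvd_mul.1 hd with hd | hd
      · exact ⟨i, ((Nat.prime_dvd_prime_iff_eq hr (hp i)).1 hd).symm⟩
      · exact ⟨j, ((Nat.prime_dvd_prime_iff_eq hr (hp j)).1 hd).symm⟩
    have hm : MulAut.conj g • x ∈ H := hg (Subgroup.smul_mem_pointwise_smul _ _ _ (mem_zpowers x))
    exact ⟨⟨_, hm⟩, by rw [Subgroup.orderOf_mk, MulAut.smul_def, MulEquiv.orderOf_eq, hx]⟩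
  · rintro ⟨x, hx⟩
    exact no3 i j k hij hik hjk ⟨x, by rw [Subgroup.orderOf_coe, hx]⟩

end Cfsg.Agent.SzSq70
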