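import Cfsg.Agent.SzSq70.Socle
import Cfsg.Agent.SzSq70.Solvable
import Cfsg.Agent.SzSq70.One
import Cfsg.Agent.SzSq70.BoundsMain
import Cfsg.Agent.SzSq70.Outer
import Cfsg.Agent.SzSq70.Radical
import Cfsg.Agent.CNCit80.SzCongr

/-!
# Recognition of the square of a Suzuki group by its element orders

A finite group with the element orders of `Sz(q) × Sz(q)`, `q = 2 ^ n` with `n ≠ 5`, is isomorphic
to it, given the recognition of the simple groups of order prime to three.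
-/

set_option autoImplicit false
set_option linter.style.haveILetI false

namespace Cfsg.Agent.SzSq70

open Subgroup

universe u v

theorem Pairs.congr {G : Type*} {H : Type*} [Group G] [Group H] {n : ℕ} (h : Pairs G n)
    (e : G ≃* H) : Pairs H n := fun i j hij => by
  obtain ⟨g, hg⟩ := h i j hij
  exact ⟨e g, by rw [MulEquiv.orderOf_eq, hg]⟩

theorem TwoTop.symm {X : Type*} [Group X] {M₁ M₂ : Subgroup X} (h : TwoTop M₁ M₂) :
    TwoTop M₂ M₁ where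
  comm x hx y hy := (h.comm y hy x hx).symm
  inf_eq := by rw [inf_comm, h.inf_eq]
  perm g := by
    rcases h.perm g with ⟨h1, h2⟩ | ⟨h1, h2⟩
    · exact Or.inl ⟨h2, h1⟩
    · exact Or.inr ⟨h2, h1⟩
  cent := by rw [sup_comm]; exact h.cent

/-- Two commuting subgroups with trivial intersection generating the group give a product. -/
theorem nonempty_prod_equiv {X : Type*} [Group X] (M₁ M₂ : Subgroup X)
    (hc : ∀ x ∈ M₁, ∀ y ∈ M₂, Commute x y) (hi : M₁ ⊓ M₂ = ⊥) (hs : M₁ ⊔ M₂ = ⊤) :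
    Nonempty (M₁ × M₂ ≃* X) := by
  let f : M₁ × M₂ →* X :=
    MonoidHom.noncommCoprod M₁.subtype M₂.subtype (fun a b => hc a a.2 b b.2)
  have hinj : Function.Injective f := by
    rw [injective_iff_map_eq_one]
    rintro ⟨a, b⟩ hab
    replace hab : (a : X) * b = 1 := hab
    have ha : (a : X) ∈ M₁ ⊓ M₂ :=
      mem_inf.2 ⟨a.2, by rw [eq_inv_of_mul_eq_one_left hab]; exact inv_mem b.2⟩
    rw [hi, mem_bot] at ha
    rw [ha, one_mul] at hab
    exact Prod.ext (Subtype.ext ha) (Subtype.ext hab)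
  have hsurj : Function.Surjective f := by
    rw [← MonoidHom.range_eq_top, eq_top_iff, ← hs, sup_le_iff]
    exact ⟨fun x hx => ⟨(⟨x, hx⟩, 1), show x * ((1 : M₂) : X) = x by rw [OneMemClass.coe_one, mul_one]⟩,
      fun x hx => ⟨(1, ⟨x, hx⟩), show ((1 : M₁) : X) * x = x by rw [OneMemClass.coe_one, one_mul]⟩⟩
  exact ⟨MulEquiv.ofBijective f ⟨hinj, hsurj⟩⟩

theorem nonempty_equiv_of_isSz {M : Type*} [Group M] {F : Type*} [Field F] [Fintype F] {m : ℕ}
    (hF : Fintype.card F = 2 ^ (2 * m + 1)) (h : IsSz M (2 * m + 1)) :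
    Nonempty (M ≃* Cfsg.Lie.Sz F (2 ^ (m + 1))) := by
  obtain ⟨F₁, _, _, m', -, hk, hF₁, ⟨e⟩⟩ := h
  obtain rfl : m = m' := by omega
  obtain ⟨f⟩ := CNCit80.nonempty_szCongr (FiniteField.ringEquivOfCardEq (hF₁.trans hF.symm))
    (2 ^ (m + 1))
  exact ⟨e.trans f⟩

/-- The recognition theorem. -/
theorem recognize (hST : ThreePrime89.SimpleThree.{u}) {F : Type v} [Field F] [Fintype F] {m : ℕ}
    (hm : 1 ≤ m) (hm2 : m ≠ 2) (hF : Fintype.card F = 2 ^ (2 * m + 1)) {G : Type u} [Group G]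
    [Finite G]
    (h : Set.range (orderOf : G → ℕ) = Set.range (orderOf :
      ↥(Cfsg.Lie.Sz F (2 ^ (m + 1))) × ↥(Cfsg.Lie.Sz F (2 ^ (m + 1))) → ℕ)) :
    Nonempty (G ≃* ↥(Cfsg.Lie.Sz F (2 ^ (m + 1))) × ↥(Cfsg.Lie.Sz F (2 ^ (m + 1)))) := by
  have hA : SzFacts ↥(Cfsg.Lie.Sz F (2 ^ (m + 1))) (2 * m + 1) :=
    (szFacts_model hF hm).congr (RankOne.SzBridge.szEquiv hF hm)
  have hn : Odd (2 * m + 1) := ⟨m, rfl⟩
  have h3 : 3 ≤ 2 * m + 1 := by omega
  have h5 : 2 * m + 1 ≠ 5 := by omega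
  have hS : Small G (2 * m + 1) := fun g => by
    obtain ⟨y, hy⟩ : orderOf g ∈ Set.range (orderOf :
        ↥(Cfsg.Lie.Sz F (2 ^ (m + 1))) × ↥(Cfsg.Lie.Sz F (2 ^ (m + 1))) → ℕ) := h ▸ ⟨g, rfl⟩
    exact hy ▸ small_prod hA hA y
  have hP : Pairs G (2 * m + 1) := fun i j hij => by
    obtain ⟨y, hy⟩ := pairs_prod hn h3 hA hA i j hij
    obtain ⟨g, hg⟩ : orderOf y ∈ Set.range (orderOf : G → ℕ) := h ▸ ⟨y, rfl⟩
    exact ⟨g, hg.trans hy⟩
  have hns : ¬ Group.IsSolvable G := fun hsol => by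
    haveI := hsol
    choose p hp hpd using fun i => exists_prime_dvd_num (n := 2 * m + 1) h3 i
    refine false_of_solvable p hp (fun i j hij => eq_of_prime_dvd hn h3 (hp i) (hpd i)
      (hij ▸ hpd j)) (fun i j hij => hP.exists_order_prime_mul hij (hpd i) (hpd j))
      fun i j k hij hik hjk => ?_
    rintro ⟨x, hx⟩
    refine hS.no_triple hn h3 (hp i) (hp j) (hp k) (hpd i) (hpd j) (hpd k) hij hik hjk x
      ⟨?_, ?_, ?_⟩ <;> rw [hx]
    · exact (dvd_mul_right _ _).mul_right _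
    · exact (dvd_mul_left _ _).mul_right _
    · exact dvd_mul_left _ _
  obtain ⟨R, hRn, hR, htop⟩ := exists_top hST hS hn h3 hns
  haveI := hRn
  rcases htop with ⟨M, hMn, k, hM, hkn, hc⟩ | ⟨M₁, M₂, k₁, k₂, hT, h₁, h₂, hd₁, hd₂⟩
  · haveI := hMn
    rcases eq_or_lt_of_le (Nat.le_of_dvd (by omega) hkn) with rfl | hlt
    · exact (false_of_one_big hn h3 hS hP R hR M hM (pow_mem_one M hM hc)).elim
    · exact (false_of_one_small hn h3 hS hP R hR M hM hc hlt hkn).elim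
  · have main : ∀ (N₁ N₂ : Subgroup (G ⧸ R)) (k : ℕ), TwoTop N₁ N₂ → IsSz N₁ k →
        IsSz N₂ (2 * m + 1) → k ∣ 2 * m + 1 →
        Nonempty (G ≃* ↥(Cfsg.Lie.Sz F (2 ^ (m + 1))) × ↥(Cfsg.Lie.Sz F (2 ^ (m + 1)))) := by
      intro N₁ N₂ k hT h₁ h₂ hkn
      have hbot : R = ⊥ := radical_eq_bot_of_two hn h3 hS R hR N₁ N₂ hT.comm hT.inf_eq h₁.odd
        h₁.three_le hkn (szFacts h₁) (szFacts h₂)
      subst hbot
      have e : G ⧸ (⊥ : Subgroup G) ≃* G := QuotientGroup.quotientBot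
      have hPX : Pairs (G ⧸ (⊥ : Subgroup G)) (2 * m + 1) := hP.congr e.symm
      rcases eq_or_lt_of_le (Nat.le_of_dvd (by omega) hkn) with rfl | hlt
      · have htop := eq_top_of_two_big hn h3 h5 (hS.quotient ⊥) hT h₁ h₂
        obtain ⟨f⟩ := nonempty_prod_equiv N₁ N₂ hT.comm hT.inf_eq htop
        obtain ⟨f₁⟩ := nonempty_equiv_of_isSz hF h₁
        obtain ⟨f₂⟩ := nonempty_equiv_of_isSz hF h₂
        exact ⟨e.symm.trans (f.symm.trans (f₁.prodCongr f₂))⟩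
      · exact (false_of_mixed hn h3 hPX N₁ N₂ hT h₁ h₂ hlt hkn).elim
    have hle₁ := Nat.le_of_dvd (by omega) hd₁
    have hle₂ := Nat.le_of_dvd (by omega) hd₂
    rcases eq_or_lt_of_le hle₂ with rfl | hlt
    · exact main M₁ M₂ k₁ hT h₁ h₂ hd₁
    · rcases eq_or_lt_of_le hle₁ with rfl | hlt₁
      · exact main M₂ M₁ k₂ hT.symm h₂ h₁ hd₂
      · exact (false_of_two_small hn h3 hS hP R hR M₁ M₂ hT h₁ h₂ hlt₁ hlt hd₁ hd₂).elim

end Cfsg.Agent.SzSq70
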