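import Cfsg.Agent.SzSq70.Defs

/-!
# Groups with the element orders of a square of a Suzuki group: size bounds

Three configurations are excluded by comparing element orders: one Suzuki section over a proper
subfield, two of them, and a mixed pair without radical.
-/

set_option autoImplicit false
set_option linter.style.haveILetI false

namespace Cfsg.Agent.SzSq70

universe u

section arith

private theorem bounds_linear : ∀ j : ℕ, (3 ≤ j → 8 * j ≤ 3 * 2 ^ j) ∧ (6 ≤ j → 8 * j ≤ 2 ^ j) ∧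
    (7 ≤ j → 12 * j ≤ 2 ^ j) := by
  intro j
  induction j with
  | zero => simp
  | succ j ih =>
    obtain ⟨h1, h2, h3⟩ := ih
    have hp : 2 ^ (j + 1) = 2 ^ j + 2 ^ j := by rw [pow_succ]; ring
    refine ⟨fun h => ?_, fun h => ?_, fun h => ?_⟩
    · rcases Nat.lt_or_ge j 3 with hj | hj
      · interval_cases j <;> omega
      · have := h1 hj; omega
    · rcases Nat.lt_or_ge j 6 with hj | hj
      · interval_cases j <;> omega
      · have := h2 hj; omega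
    · rcases Nat.lt_or_ge j 7 with hj | hj
      · interval_cases j <;> omega
      · have := h3 hj; omega

private theorem bounds_quarter {n : ℕ} (h5 : 5 ≤ n) : 4 * 2 ^ ((n + 1) / 2) ≤ 2 ^ n := by
  rw [show (4 : ℕ) = 2 ^ 2 by norm_num, ← pow_add]
  exact Nat.pow_le_pow_right (by norm_num) (by omega)

/-- The odd numbers exceed three quarters of `q`. -/
theorem three_quarters_lt_num {n : ℕ} (h5 : 5 ≤ n) {i : Fin 4} (hi : i ≠ 0) :
    3 * 2 ^ n < 4 * num n i := by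
  have h := bounds_quarter h5
  have h1 : 2 ^ 5 ≤ 2 ^ n := Nat.pow_le_pow_right (by norm_num) h5
  fin_cases i
  · exact absurd rfl hi
  · show 3 * 2 ^ n < 4 * (2 ^ n - 1)
    omega
  · show 3 * 2 ^ n < 4 * (2 ^ n + 2 ^ ((n + 1) / 2) + 1)
    omega
  · show 3 * 2 ^ n < 4 * (2 ^ n + 1 - 2 ^ ((n + 1) / 2))
    omega

theorem num_le_num_two {k : ℕ} (h3 : 3 ≤ k) (i : Fin 4) : num k i ≤ num k 2 := by
  have h := half_le h3
  have h4 := four_le_half h3
  fin_cases i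
  · show 4 ≤ 2 ^ k + 2 ^ ((k + 1) / 2) + 1
    omega
  · show 2 ^ k - 1 ≤ 2 ^ k + 2 ^ ((k + 1) / 2) + 1
    omega
  · exact le_rfl
  · show 2 ^ k + 1 - 2 ^ ((k + 1) / 2) ≤ 2 ^ k + 2 ^ ((k + 1) / 2) + 1
    omega

theorem num_two_le_pow {k : ℕ} (h3 : 3 ≤ k) : num k 2 ≤ 2 ^ (k + 1) := by
  have h := half_le h3
  have h4 := four_le_half h3
  rw [num_two, pow_succ]
  omega

theorem num_le_pow {k : ℕ} (h3 : 3 ≤ k) {i : Fin 4} (hi : i ≠ 2) : num k i ≤ 2 ^ k := by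
  have h := half_le h3
  have h4 := four_le_half h3
  fin_cases i
  · show 4 ≤ 2 ^ k
    omega
  · show 2 ^ k - 1 ≤ 2 ^ k
    omega
  · exact absurd rfl hi
  · show 2 ^ k + 1 - 2 ^ ((k + 1) / 2) ≤ 2 ^ k
    omega

theorem num_le_pow_succ {k : ℕ} (h3 : 3 ≤ k) (i : Fin 4) : num k i ≤ 2 ^ (k + 1) :=
  (num_le_num_two h3 i).trans (num_two_le_pow h3)

theorem num_pos_bounds {k : ℕ} (h3 : 3 ≤ k) (i : Fin 4) : 0 < num k i := by
  have := two_le_num h3 i
  omega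

theorem three_mul_le_of_dvd {n k : ℕ} (hn : Odd n) (hk : k < n) (hkn : k ∣ n) : 3 * k ≤ n := by
  obtain ⟨c, rfl⟩ := hkn
  obtain ⟨d, rfl⟩ := (Nat.odd_mul.1 hn).2
  rcases Nat.eq_zero_or_pos d with rfl | hd
  · simp at hk
  · rw [mul_comm 3 k]
    exact Nat.mul_le_mul le_rfl (by omega)

theorem add_le_of_dvd {n k₁ k₂ : ℕ} (hn : Odd n) (h₁ : 3 ≤ k₁) (h₂ : 3 ≤ k₂) (hk₁ : k₁ < n)
    (hk₂ : k₂ < n) (hd₁ : k₁ ∣ n) (hd₂ : k₂ ∣ n) (hne : k₁ ≠ k₂) :
    15 * (k₁ + k₂) ≤ 8 * n ∧ 15 ≤ n := by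
  have key : ∀ a b : ℕ, a < b → Odd n → a ∣ n → b ∣ n → b < n → 3 ≤ a →
      15 * (a + b) ≤ 8 * n ∧ 15 ≤ n := by
    intro a b hab hn ha hb hbn h3
    have hb3 := three_mul_le_of_dvd hn hbn hb
    obtain ⟨c, rfl⟩ := ha
    obtain ⟨d, hd⟩ := hb
    obtain ⟨c', rfl⟩ := (Nat.odd_mul.1 hn).2
    have hd' : Odd d := (Nat.odd_mul.1 (hd ▸ hn)).2
    obtain ⟨d', rfl⟩ := hd'
    have hc : d' < c' := by
      by_contra hcd
      push Not at hcd
      have : a * (2 * c' + 1) < b * (2 * d' + 1) :=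
        lt_of_lt_of_le (Nat.mul_lt_mul_of_pos_right hab (by omega))
          (Nat.mul_le_mul le_rfl (by omega))
      omega
    have hd1 : 1 ≤ d' := by
      rcases Nat.eq_zero_or_pos d' with rfl | h
      · omega
      · exact h
    have h5 : a * 5 ≤ a * (2 * c' + 1) := Nat.mul_le_mul le_rfl (by omega)
    omega
  rcases Nat.lt_or_ge k₁ k₂ with h | h
  · exact key k₁ k₂ h hn hd₁ hd₂ hk₂ h₁
  · have := key k₂ k₁ (lt_of_le_of_ne h (Ne.symm hne)) hn hd₂ hd₁ hk₁ h₂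
    omega

/-- One subfield: the order bound is smaller than three quarters of `q`. -/
theorem bound_same {n k : ℕ} (h3 : 3 ≤ k) (hk : 3 * k ≤ n) :
    4 * (k * (2 ^ k * 2 ^ (k + 1))) ≤ 3 * 2 ^ n := by
  have h1 := (bounds_linear k).1 h3
  calc 4 * (k * (2 ^ k * 2 ^ (k + 1))) = 8 * k * (2 ^ k * 2 ^ k) := by rw [pow_succ]; ring
    _ ≤ 3 * 2 ^ k * (2 ^ k * 2 ^ k) := Nat.mul_le_mul h1 le_rfl
    _ = 3 * 2 ^ (3 * k) := by rw [show 3 * k = k + (k + k) by omega, pow_add, pow_add]; ring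
    _ ≤ 3 * 2 ^ n := Nat.mul_le_mul le_rfl (Nat.pow_le_pow_right (by norm_num) hk)

/-- Two different subfields: the order bound is smaller than three quarters of `q`. -/
theorem bound_ne {n k₁ k₂ : ℕ} (h : 15 * (k₁ + k₂) ≤ 8 * n) (hn : 15 ≤ n) :
    4 * (n * (2 ^ (k₁ + 1) * 2 ^ (k₂ + 1))) ≤ 3 * 2 ^ n := by
  obtain ⟨j, hj⟩ := Nat.exists_eq_add_of_le (show k₁ + k₂ ≤ n by omega)
  have h7 : 7 ≤ j := by omega
  have h1 := (bounds_linear j).2.2 h7
  calc 4 * (n * (2 ^ (k₁ + 1) * 2 ^ (k₂ + 1))) = 16 * n * 2 ^ (k₁ + k₂) := by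
        rw [pow_succ, pow_succ, pow_add]; ring
    _ ≤ 3 * 2 ^ j * 2 ^ (k₁ + k₂) := Nat.mul_le_mul (by omega) le_rfl
    _ = 3 * 2 ^ (k₁ + k₂ + j) := by rw [pow_add _ (k₁ + k₂)]; ring
    _ = 3 * 2 ^ n := by rw [← hj]

/-- A subfield and the whole field: the order bound is smaller than `(q - 1) (q - r + 1)`. -/
theorem bound_mixed {n k : ℕ} (hn : 9 ≤ n) (hk : 3 * k ≤ n) :
    n * (num n 2 * 2 ^ (k + 1)) < num n 1 * num n 3 := by
  obtain ⟨j, hj⟩ := Nat.exists_eq_add_of_le (show k ≤ n by omega)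
  have h6 : 6 ≤ j := by omega
  have h1 := (bounds_linear j).2.1 h6
  have hq : 2 ^ n = 2 ^ k * 2 ^ j := by rw [← pow_add, ← hj]
  have h5 : 5 * n ≤ 2 ^ j := by omega
  have h2 : 5 * n * 2 ^ (k + 1) ≤ 2 * 2 ^ n := by
    rw [hq, pow_succ]
    calc 5 * n * (2 ^ k * 2) ≤ 2 ^ j * (2 ^ k * 2) := Nat.mul_le_mul h5 le_rfl
      _ = 2 * (2 ^ k * 2 ^ j) := by ring
  have hr := bounds_quarter (show 5 ≤ n by omega)
  have h32 : 2 ^ 5 ≤ 2 ^ n := Nat.pow_le_pow_right (by norm_num) (by omega)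
  have h4 := four_le_half (show 3 ≤ n by omega)
  have hA : 4 * num n 2 ≤ 6 * 2 ^ n := by
    rw [num_two]; omega
  have hB : 3 * 2 ^ n < 4 * num n 3 := three_quarters_lt_num (by omega) (by decide)
  have hC : 9 * 2 ^ n ≤ 10 * num n 1 := by rw [num_one]; omega
  have e1 : 20 * (n * (num n 2 * 2 ^ (k + 1))) ≤ 12 * (2 ^ n * 2 ^ n) := by
    calc 20 * (n * (num n 2 * 2 ^ (k + 1))) = (4 * num n 2) * (5 * n * 2 ^ (k + 1)) := by ring
      _ ≤ 6 * 2 ^ n * (2 * 2 ^ n) := Nat.mul_le_mul hA h2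
      _ = 12 * (2 ^ n * 2 ^ n) := by ring
  have e2 : 27 * (2 ^ n * 2 ^ n) < 40 * (num n 1 * num n 3) := by
    calc 27 * (2 ^ n * 2 ^ n) = 9 * 2 ^ n * (3 * 2 ^ n) := by ring
      _ ≤ 10 * num n 1 * (3 * 2 ^ n) := Nat.mul_le_mul hC le_rfl
      _ < 10 * num n 1 * (4 * num n 3) :=
          Nat.mul_lt_mul_of_pos_left hB (by have := num_pos_bounds (show 3 ≤ n by omega) 1; omega)
      _ = 40 * (num n 1 * num n 3) := by ring
  omega

theorem lcm_num_le {k : ℕ} (h3 : 3 ≤ k) (i j : Fin 4) :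
    Nat.lcm (num k i) (num k j) ≤ 2 ^ k * 2 ^ (k + 1) := by
  by_cases hij : i = j
  · subst hij
    rw [Nat.lcm_self]
    exact (num_le_pow_succ h3 i).trans (Nat.le_mul_of_pos_left _ (by positivity))
  · refine (Nat.le_of_dvd (Nat.mul_pos (num_pos_bounds h3 i) (num_pos_bounds h3 j))
      (Nat.lcm_dvd (dvd_mul_right _ _) (dvd_mul_left _ _))).trans ?_
    by_cases hi : i = 2
    · rw [mul_comm (num k i)]
      exact Nat.mul_le_mul (num_le_pow h3 fun h => hij (hi.trans h.symm)) (num_le_pow_succ h3 i)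
    · exact Nat.mul_le_mul (num_le_pow h3 hi) (num_le_pow_succ h3 j)

end arith

private theorem bounds_three_le {M : Type*} [Group M] {k : ℕ} (h : IsSz M k) : 3 ≤ k := by
  obtain ⟨F, _, _, m, hm, hk, -⟩ := h
  omega

section groups

variable {G : Type u} [Group G] [Finite G]

/-- An element of order prime to the radical keeps its order in the quotient. -/
theorem exists_orderOf_quotient (R : Subgroup G) [R.Normal] {g : G} {N : ℕ} (hN : N ∣ orderOf g)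
    (hR : (Nat.card R).Coprime N) : ∃ x : G ⧸ R, orderOf x = N := by
  obtain ⟨c, hc⟩ := hN
  have hpos := orderOf_pos g
  have hc0 : c ≠ 0 := by
    rintro rfl
    simp only [mul_zero] at hc
    omega
  have h1 : orderOf (g ^ c) = N := by
    rw [orderOf_pow_of_dvd hc0 (hc ▸ dvd_mul_left c N), hc, Nat.mul_div_cancel _ (by omega)]
  refine ⟨QuotientGroup.mk' R (g ^ c), Nat.dvd_antisymm (h1 ▸ orderOf_map_dvd _ _) ?_⟩
  have hmem : (g ^ c) ^ orderOf (QuotientGroup.mk' R (g ^ c)) ∈ R := by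
    rw [← QuotientGroup.eq_one_iff]
    exact pow_orderOf_eq_one (QuotientGroup.mk' R (g ^ c))
  have h2 : orderOf ((g ^ c) ^ orderOf (QuotientGroup.mk' R (g ^ c))) ∣ Nat.card R := by
    rw [← Subgroup.orderOf_mk _ hmem]
    exact orderOf_dvd_natCard _
  have h3 : orderOf ((g ^ c) ^ orderOf (QuotientGroup.mk' R (g ^ c))) ∣ N := by
    rw [← h1]
    exact orderOf_pow_dvd _
  have h4 : ((g ^ c) ^ orderOf (QuotientGroup.mk' R (g ^ c))) = 1 :=
    orderOf_eq_one_iff.1 (Nat.eq_one_of_dvd_coprimes hR h2 h3)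
  exact h1 ▸ orderOf_dvd_of_pow_eq_one h4

/-- The order of an element whose power lies in a product of two commuting subgroups. -/
theorem orderOf_dvd_of_pow_mem_sup {X : Type*} [Group X] {M₁ M₂ : Subgroup X}
    (hc : ∀ x ∈ M₁, ∀ y ∈ M₂, Commute x y) {x : X} {L : ℕ} (hx : x ^ L ∈ M₁ ⊔ M₂) :
    ∃ (a : M₁) (b : M₂), orderOf x ∣ L * Nat.lcm (orderOf a) (orderOf b) := by
  have hr := MonoidHom.noncommCoprod_range M₁.subtype M₂.subtype fun a b => hc a a.2 b b.2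
  rw [Subgroup.range_subtype, Subgroup.range_subtype] at hr
  rw [← hr] at hx
  obtain ⟨⟨a, b⟩, hab⟩ := hx
  refine ⟨a, b, orderOf_dvd_of_pow_eq_one ?_⟩
  have hab' : (a : X) * (b : X) = x ^ L := hab
  rw [pow_mul, ← hab']
  refine orderOf_dvd_iff_pow_eq_one.1 ?_
  have h := (hc a a.2 b b.2).orderOf_mul_dvd_lcm
  rwa [Subgroup.orderOf_coe, Subgroup.orderOf_coe] at h

variable {n : ℕ}

theorem exists_large_element (h3 : 3 ≤ n) (hP : Pairs G n) (R : Subgroup G) [R.Normal]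
    {i : Fin 4} (hi : i ≠ 0) (hR : (Nat.card R).Coprime (num n i)) :
    ∃ x : G ⧸ R, orderOf x = num n i ∧ Odd (orderOf x) := by
  obtain ⟨g, hg⟩ := hP i 0 hi
  obtain ⟨x, hx⟩ := exists_orderOf_quotient R (g := g) (hg ▸ dvd_mul_right _ _) hR
  exact ⟨x, hx, hx ▸ odd_num h3 hi⟩

end groups

/-- Statement of the colouring lemma for the radical. -/
def NotThreeColours : Prop :=
  ∀ (G : Type u) [Group G] [Finite G] (n : ℕ), Odd n → 3 ≤ n → Small G n →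
    ∀ (R : Subgroup G) [R.Normal], Group.IsSolvable R → ∀ (M : Subgroup (G ⧸ R)) [IsSimpleGroup M],
      (∃ a b : M, a * b ≠ b * a) → (∃ u : M, orderOf u = 4) →
      ∃ i : Fin 4, i ≠ 0 ∧ (Nat.card R).Coprime (num n i)

/-- Statement of the facts about Suzuki groups. -/
def HasFacts : Prop :=
  ∀ (M : Type u) [Group M] [Finite M] (k : ℕ), IsSz M k → SzFacts M k

/-- Statement of the outer bound for one simple normal subgroup. -/
def PowMemOne : Prop :=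
  ∀ (X : Type u) [Group X] [Finite X] (M : Subgroup X) [M.Normal] (k : ℕ), IsSz M k →
    Subgroup.centralizer (M : Set X) = ⊥ → ∀ x : X, x ^ k ∈ M

/-- Statement of the outer bound for two simple factors. -/
def PowMemTwo : Prop :=
  ∀ (X : Type u) [Group X] [Finite X] (M₁ M₂ : Subgroup X) (k₁ k₂ : ℕ), TwoTop M₁ M₂ →
    IsSz M₁ k₁ → IsSz M₂ k₂ → ∀ x : X, Odd (orderOf x) → x ^ Nat.lcm k₁ k₂ ∈ M₁ ⊔ M₂

section main

variable {G : Type u} [Group G] [Finite G] {n : ℕ}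

theorem false_of_one_small_of (hB : NotThreeColours.{u}) (hF : HasFacts.{u}) (hH : PowMemOne.{u})
    (hn : Odd n) (h3 : 3 ≤ n) (hS : Small G n) (hP : Pairs G n) (R : Subgroup G) [R.Normal]
    (hR : Group.IsSolvable R) (M : Subgroup (G ⧸ R)) [M.Normal] {k : ℕ} (hM : IsSz M k)
    (hc : Subgroup.centralizer (M : Set (G ⧸ R)) = ⊥) (hk : k < n) (hkn : k ∣ n) : False := by
  have h3k := (bounds_three_le hM)
  have hkn3 := three_mul_le_of_dvd hn hk hkn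
  have F := hF M k hM
  haveI := F.simple
  obtain ⟨u, hu⟩ := F.exists_order 0
  obtain ⟨i, hi, hcop⟩ := hB G n hn h3 hS R hR M F.noncomm ⟨u, by rw [hu, num_zero]⟩
  obtain ⟨x, hx, -⟩ := exists_large_element h3 hP R hi hcop
  have hmem := hH (G ⧸ R) M k hM hc x
  obtain ⟨j, hj⟩ := F.order_dvd ⟨x ^ k, hmem⟩
  rw [Subgroup.orderOf_mk] at hj
  have hd : orderOf x ∣ k * num k j := by
    apply orderOf_dvd_of_pow_eq_one
    rw [pow_mul]
    exact orderOf_dvd_iff_pow_eq_one.1 hj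
  have hle : num n i ≤ k * (2 ^ k * 2 ^ (k + 1)) := by
    rw [← hx]
    refine (Nat.le_of_dvd (Nat.mul_pos (by omega) (num_pos_bounds h3k j)) hd).trans ?_
    exact Nat.mul_le_mul le_rfl
      ((num_le_pow_succ h3k j).trans (Nat.le_mul_of_pos_left _ (by positivity)))
  have := bound_same h3k hkn3
  have := three_quarters_lt_num (n := n) (by omega) hi
  omega

theorem false_of_two_small_of (hB : NotThreeColours.{u}) (hF : HasFacts.{u}) (hH : PowMemTwo.{u})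
    (hn : Odd n) (h3 : 3 ≤ n) (hS : Small G n) (hP : Pairs G n) (R : Subgroup G) [R.Normal]
    (hR : Group.IsSolvable R) (M₁ M₂ : Subgroup (G ⧸ R)) (hT : TwoTop M₁ M₂) {k₁ k₂ : ℕ}
    (h₁ : IsSz M₁ k₁) (h₂ : IsSz M₂ k₂) (hk₁ : k₁ < n) (hk₂ : k₂ < n) (hd₁ : k₁ ∣ n)
    (hd₂ : k₂ ∣ n) : False := by
  have h31 := (bounds_three_le h₁)
  have h32 := (bounds_three_le h₂)
  have F₁ := hF M₁ k₁ h₁
  have F₂ := hF M₂ k₂ h₂
  haveI := F₁.simple
  obtain ⟨u, hu⟩ := F₁.exists_order 0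
  obtain ⟨i, hi, hcop⟩ := hB G n hn h3 hS R hR M₁ F₁.noncomm ⟨u, by rw [hu, num_zero]⟩
  obtain ⟨x, hx, hxo⟩ := exists_large_element h3 hP R hi hcop
  obtain ⟨a, b, hab⟩ :=
    orderOf_dvd_of_pow_mem_sup hT.comm (hH (G ⧸ R) M₁ M₂ k₁ k₂ hT h₁ h₂ x hxo)
  obtain ⟨j₁, hj₁⟩ := F₁.order_dvd a
  obtain ⟨j₂, hj₂⟩ := F₂.order_dvd b
  have hd : num n i ∣ Nat.lcm k₁ k₂ * Nat.lcm (num k₁ j₁) (num k₂ j₂) :=
    hx ▸ hab.trans (mul_dvd_mul_left _
      (Nat.lcm_dvd (hj₁.trans (Nat.dvd_lcm_left _ _)) (hj₂.trans (Nat.dvd_lcm_right _ _))))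
  have hpos : 0 < Nat.lcm k₁ k₂ * Nat.lcm (num k₁ j₁) (num k₂ j₂) :=
    Nat.mul_pos (Nat.lcm_pos (by omega) (by omega))
      (Nat.lcm_pos (num_pos_bounds h31 j₁) (num_pos_bounds h32 j₂))
  have hle := Nat.le_of_dvd hpos hd
  have hk31 := three_mul_le_of_dvd hn hk₁ hd₁
  have hlow := three_quarters_lt_num (n := n) (by omega) hi
  by_cases hne : k₁ = k₂
  · subst hne
    rw [Nat.lcm_self] at hle
    have := hle.trans (Nat.mul_le_mul le_rfl (lcm_num_le h31 j₁ j₂))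
    have := bound_same h31 hk31
    omega
  · obtain ⟨h15, hn15⟩ := add_le_of_dvd hn h31 h32 hk₁ hk₂ hd₁ hd₂ hne
    have hL : Nat.lcm k₁ k₂ ≤ n := Nat.le_of_dvd (by omega) (Nat.lcm_dvd hd₁ hd₂)
    have hN : Nat.lcm (num k₁ j₁) (num k₂ j₂) ≤ 2 ^ (k₁ + 1) * 2 ^ (k₂ + 1) :=
      (Nat.le_of_dvd (Nat.mul_pos (num_pos_bounds h31 j₁) (num_pos_bounds h32 j₂))
        (Nat.lcm_dvd (dvd_mul_right _ _) (dvd_mul_left _ _))).trans
        (Nat.mul_le_mul (num_le_pow_succ h31 j₁) (num_le_pow_succ h32 j₂))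
    have := hle.trans (Nat.mul_le_mul hL hN)
    have := bound_ne h15 hn15
    omega

theorem false_of_mixed_of (hF : HasFacts.{u}) (hH : PowMemTwo.{u})
    (hn : Odd n) (h3 : 3 ≤ n) (hP : Pairs G n) (M₁ M₂ : Subgroup G) (hT : TwoTop M₁ M₂) {k : ℕ}
    (h₁ : IsSz M₁ k) (h₂ : IsSz M₂ n) (hk : k < n) (hkn : k ∣ n) : False := by
  have h3k := (bounds_three_le h₁)
  have F₁ := hF M₁ k h₁
  have F₂ := hF M₂ n h₂
  obtain ⟨x, hx⟩ := hP 1 3 (by decide)
  have hxo : Odd (orderOf x) := by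
    rw [hx]
    exact (odd_num h3 (by decide)).mul (odd_num h3 (by decide))
  obtain ⟨a, b, hab⟩ := orderOf_dvd_of_pow_mem_sup hT.comm (hH G M₁ M₂ k n hT h₁ h₂ x hxo)
  obtain ⟨j₁, hj₁⟩ := F₁.order_dvd a
  obtain ⟨j₂, hj₂⟩ := F₂.order_dvd b
  have hd : num n 1 * num n 3 ∣ n * (num n j₂ * num k j₁) := by
    rw [← hx]
    exact hab.trans (mul_dvd_mul (Nat.lcm_dvd hkn dvd_rfl)
      (Nat.lcm_dvd (hj₁.trans (dvd_mul_left _ _)) (hj₂.trans (dvd_mul_right _ _))))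
  have hle := Nat.le_of_dvd
    (Nat.mul_pos (by omega) (Nat.mul_pos (num_pos_bounds h3 j₂) (num_pos_bounds h3k j₁))) hd
  have hkn3 := three_mul_le_of_dvd hn hk hkn
  have := bound_mixed (n := n) (by omega) hkn3
  have : n * (num n j₂ * num k j₁) ≤ n * (num n 2 * 2 ^ (k + 1)) :=
    Nat.mul_le_mul le_rfl (Nat.mul_le_mul (num_le_num_two h3 j₂) (num_le_pow_succ h3k j₁))
  omega

end main

end Cfsg.Agent.SzSq70
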