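import Cfsg.Agent.SzSq70.Bounds
import Cfsg.Agent.SzSq70.Facts
import Cfsg.Agent.SzSq70.Radical

/-!
# The colouring lemma and the Suzuki facts as inputs of the size bounds
-/

set_option autoImplicit false

namespace Cfsg.Agent.SzSq70

universe u

theorem notThreeColours : NotThreeColours.{u} :=
  fun _ _ _ _ hn h3 hS R _ hR M _ hM hu => not_three_colours hn h3 hS R hR M hM hu

theorem hasFacts : HasFacts.{u} :=
  fun _ _ _ _ h => szFacts h

end Cfsg.Agent.SzSq70
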