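import Mathlib
import Cfsg.Prelude.Def_Sz

/-!
# Groups with the element orders of a square of a Suzuki group: common definitions

The index `0` stands for the prime two, `1` for `q - 1`, `2` and `3` for `q ± r + 1`.
-/

set_option autoImplicit false
set_option linter.style.haveILetI false

namespace Cfsg.Agent.SzSq70

universe u

/-- The four numbers attached to `q = 2 ^ n`. -/
def num (n : ℕ) : Fin 4 → ℕ :=
  ![4, 2 ^ n - 1, 2 ^ n + 2 ^ ((n + 1) / 2) + 1, 2 ^ n + 1 - 2 ^ ((n + 1) / 2)]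

/-- Every element order divides the product of two of the numbers. -/
def Small (G : Type*) [Group G] (n : ℕ) : Prop :=
  ∀ g : G, ∃ i j : Fin 4, i ≠ j ∧ orderOf g ∣ num n i * num n j

/-- Every product of two of the numbers is an element order. -/
def Pairs (G : Type*) [Group G] (n : ℕ) : Prop :=
  ∀ i j : Fin 4, i ≠ j → ∃ g : G, orderOf g = num n i * num n j

/-- `M` is a Suzuki group over the field with `2 ^ k` elements. -/
def IsSz (M : Type*) [Group M] (k : ℕ) : Prop :=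
  ∃ (F : Type) (_ : Field F) (_ : Fintype F) (m : ℕ), 1 ≤ m ∧ k = 2 * m + 1 ∧
    Fintype.card F = 2 ^ k ∧ Nonempty (M ≃* Cfsg.Lie.Sz F (2 ^ (m + 1)))

/-- The facts about a Suzuki group that are used. -/
structure SzFacts (M : Type*) [Group M] (k : ℕ) : Prop where
  simple : IsSimpleGroup M
  noncomm : ∃ a b : M, a * b ≠ b * a
  order_dvd : ∀ g : M, ∃ i, orderOf g ∣ num k i
  exists_order : ∀ i, ∃ g : M, orderOf g = num k i
  cent : ∀ i : Fin 4, i ≠ 0 → ∀ g : M, g ≠ 1 → orderOf g ∣ num k i →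
    ∀ h : M, Commute g h → orderOf h ∣ num k i
  conj : ∀ i : Fin 4, i ≠ 0 → ∀ g h : M, orderOf g = orderOf h → orderOf g ∣ num k i →
    ∃ c : M, c * g * c⁻¹ ∈ Subgroup.zpowers h
  borel : ∃ (Q : Subgroup M) (t : M), Q ≠ ⊥ ∧ (∀ x ∈ Q, x ^ 2 = 1) ∧ orderOf t = num k 1 ∧
    (∀ x ∈ Q, t * x * t⁻¹ ∈ Q) ∧
    ∀ s ∈ Subgroup.zpowers t, s ≠ 1 → ∀ x ∈ Q, Commute s x → x = 1
  four : ∀ p : ℕ, p.Prime → ∀ i : Fin 4, i = 2 ∨ i = 3 → p ∣ num k i →
    ∃ y u : M, orderOf y = p ∧ orderOf u = 4 ∧ u * y * u⁻¹ ∈ Subgroup.zpowers y ∧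
      u ^ 2 * y * (u ^ 2)⁻¹ = y⁻¹

/-- `M₁ M₂` is a direct product with trivial centralizer whose factors are permuted by `X`. -/
structure TwoTop {X : Type*} [Group X] (M₁ M₂ : Subgroup X) : Prop where
  comm : ∀ x ∈ M₁, ∀ y ∈ M₂, Commute x y
  inf_eq : M₁ ⊓ M₂ = ⊥
  perm : ∀ g : X,
    (M₁.map (MulAut.conj g).toMonoidHom = M₁ ∧ M₂.map (MulAut.conj g).toMonoidHom = M₂) ∨
    (M₁.map (MulAut.conj g).toMonoidHom = M₂ ∧ M₂.map (MulAut.conj g).toMonoidHom = M₁)
  cent : Subgroup.centralizer ((M₁ ⊔ M₂ : Subgroup X) : Set X) = ⊥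

theorem num_zero (n : ℕ) : num n 0 = 4 := rfl
theorem num_one (n : ℕ) : num n 1 = 2 ^ n - 1 := rfl
theorem num_two (n : ℕ) : num n 2 = 2 ^ n + 2 ^ ((n + 1) / 2) + 1 := rfl
theorem num_three (n : ℕ) : num n 3 = 2 ^ n + 1 - 2 ^ ((n + 1) / 2) := rfl

section arith

variable {n : ℕ}

theorem two_pow_half (hn : Odd n) : 2 ^ ((n + 1) / 2) * 2 ^ ((n + 1) / 2) = 2 * 2 ^ n := by
  obtain ⟨m, rfl⟩ := hn
  rw [← pow_add, ← pow_succ']
  congr 1
  omega

theorem half_le (h3 : 3 ≤ n) : 2 * 2 ^ ((n + 1) / 2) ≤ 2 ^ n := by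
  rw [← pow_succ']
  exact Nat.pow_le_pow_right (by norm_num) (by omega)

theorem four_le_half (h3 : 3 ≤ n) : 4 ≤ 2 ^ ((n + 1) / 2) :=
  le_trans (by norm_num) (Nat.pow_le_pow_right (show 1 ≤ 2 by norm_num) (show 2 ≤ (n + 1) / 2 by omega))

theorem num_two_mul_num_three (hn : Odd n) (h3 : 3 ≤ n) :
    num n 2 * num n 3 = 2 ^ n * 2 ^ n + 1 := by
  have h := two_pow_half hn
  have h' := half_le h3
  rw [num_two, num_three]
  generalize 2 ^ ((n + 1) / 2) = r at h h'
  generalize 2 ^ n = q at h h'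
  zify [show r ≤ q + 1 by omega] at h ⊢
  linear_combination (-1 : ℤ) * h

theorem odd_num (h3 : 3 ≤ n) {i : Fin 4} (hi : i ≠ 0) : Odd (num n i) := by
  have h1 : 2 ∣ 2 ^ n := dvd_pow_self 2 (by omega)
  have h2 : 2 ∣ 2 ^ ((n + 1) / 2) := dvd_pow_self 2 (by omega)
  have h' := half_le h3
  have h0 := Nat.one_le_two_pow (n := n)
  rw [Nat.odd_iff]
  fin_cases i
  · exact absurd rfl hi
  · show (2 ^ n - 1) % 2 = 1
    omega
  · show (2 ^ n + 2 ^ ((n + 1) / 2) + 1) % 2 = 1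
    omega
  · show (2 ^ n + 1 - 2 ^ ((n + 1) / 2)) % 2 = 1
    omega

/-- The numbers are large. -/
theorem lt_num (h3 : 3 ≤ n) {i : Fin 4} (hi : i ≠ 0) : n < num n i := by
  have h' := half_le h3
  have h4 := four_le_half h3
  have hn2 : ∀ k : ℕ, 2 * k + 3 ≤ 2 ^ (k + 2) := fun k => by
    induction k with
    | zero => norm_num
    | succ k ih => rw [pow_succ]; omega
  have h1 : 2 * n ≤ 2 ^ n := by
    obtain ⟨k, rfl⟩ := Nat.exists_eq_add_of_le' (show 2 ≤ n by omega)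
    have h := hn2 k
    have h5 : 2 ^ (k + 2) = 4 * 2 ^ k := by rw [pow_add]; ring
    have h6 : 1 ≤ 2 ^ k := Nat.one_le_two_pow
    omega
  fin_cases i
  · exact absurd rfl hi
  · show n < 2 ^ n - 1
    omega
  · show n < 2 ^ n + 2 ^ ((n + 1) / 2) + 1
    omega
  · show n < 2 ^ n + 1 - 2 ^ ((n + 1) / 2)
    omega

theorem two_le_num (h3 : 3 ≤ n) (i : Fin 4) : 2 ≤ num n i := by
  by_cases hi : i = 0
  · subst hi; rw [num_zero]; norm_num
  · have := lt_num h3 hi
    omega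

theorem coprime_num (hn : Odd n) (h3 : 3 ≤ n) {i j : Fin 4} (hij : i ≠ j) :
    Nat.Coprime (num n i) (num n j) := by
  refine Nat.coprime_of_dvd' fun p hp hpi hpj => ?_
  exfalso
  have hodd : ∀ {k : Fin 4}, k ≠ 0 → p ∣ num n k → p ≠ 2 := by
    intro k hk h hp2
    have := Nat.odd_iff.1 (odd_num h3 hk)
    rw [hp2] at h
    omega
  have hp4 : p ∣ num n 0 → p = 2 := fun h => by
    rw [num_zero] at h
    exact (Nat.prime_dvd_prime_iff_eq hp Nat.prime_two).1 (hp.dvd_of_dvd_pow (n := 2) h)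
  have hi0 : i ≠ 0 := fun h => hodd (fun hj => hij (h.trans hj.symm)) hpj (hp4 (h ▸ hpi))
  have hj0 : j ≠ 0 := fun h => hodd hi0 hpi (hp4 (h ▸ hpj))
  have hp2 := hodd hi0 hpi
  have hq : ¬ p ∣ 2 ^ n := fun h =>
    hp2 ((Nat.prime_dvd_prime_iff_eq hp Nat.prime_two).1 (hp.dvd_of_dvd_pow h))
  have h23 := num_two_mul_num_three hn h3
  have hA : p ∣ num n 1 → (p ∣ num n 2 ∨ p ∣ num n 3) → False := by
    intro h1 h
    have h5 : p ∣ 2 ^ n * 2 ^ n + 1 := by
      rw [← h23]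
      rcases h with h | h
      · exact h.mul_right _
      · exact h.mul_left _
    rw [num_one] at h1
    obtain ⟨c, hc⟩ := h1
    have h6 : 2 ^ n * 2 ^ n + 1 = p * (c * (2 ^ n + 1)) + 2 := by
      have := Nat.one_le_two_pow (n := n)
      rw [← mul_assoc, ← hc]
      zify [this]
      ring
    rw [h6] at h5
    exact hp2 ((Nat.prime_dvd_prime_iff_eq hp Nat.prime_two).1
      ((Nat.dvd_add_right (Dvd.intro _ rfl)).1 h5))
  have hB : p ∣ num n 2 → p ∣ num n 3 → False := by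
    intro h2 h3'
    have h5 : p ∣ num n 2 - num n 3 := Nat.dvd_sub h2 h3'
    have h6 : num n 2 - num n 3 = 2 ^ ((n + 1) / 2 + 1) := by
      have h' := half_le h3
      rw [num_two, num_three, pow_succ]
      omega
    rw [h6] at h5
    exact hp2 ((Nat.prime_dvd_prime_iff_eq hp Nat.prime_two).1 (hp.dvd_of_dvd_pow h5))
  fin_cases i <;> fin_cases j <;>
    first
      | exact absurd rfl hij
      | exact absurd rfl hi0
      | exact absurd rfl hj0
      | exact hA hpi (Or.inl hpj)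
      | exact hA hpi (Or.inr hpj)
      | exact hA hpj (Or.inl hpi)
      | exact hA hpj (Or.inr hpi)
      | exact hB hpi hpj
      | exact hB hpj hpi

theorem eq_of_prime_dvd (hn : Odd n) (h3 : 3 ≤ n) {p : ℕ} (hp : p.Prime) {i j : Fin 4}
    (hi : p ∣ num n i) (hj : p ∣ num n j) : i = j := by
  by_contra h
  exact hp.one_lt.ne' (Nat.eq_one_of_dvd_coprimes (coprime_num hn h3 h) hi hj)

theorem eq_two_of_dvd_num_zero {p : ℕ} (hp : p.Prime) (h : p ∣ num n 0) : p = 2 := by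
  rw [num_zero] at h
  exact (Nat.prime_dvd_prime_iff_eq hp Nat.prime_two).1 (hp.dvd_of_dvd_pow (n := 2) h)

theorem exists_prime_dvd_num (h3 : 3 ≤ n) (i : Fin 4) : ∃ p, p.Prime ∧ p ∣ num n i :=
  Nat.exists_prime_and_dvd (by have := two_le_num h3 i; omega)

end arith

section groups

variable {G : Type*} [Group G] {n : ℕ}

theorem Small.subgroup (h : Small G n) (H : Subgroup G) : Small H n := fun g => by
  obtain ⟨i, j, hij, hd⟩ := h g
  exact ⟨i, j, hij, by rwa [← Subgroup.orderOf_coe]⟩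

theorem Small.of_surjective {H : Type*} [Group H] (h : Small G n) (f : G →* H)
    (hf : Function.Surjective f) : Small H n := fun y => by
  obtain ⟨g, rfl⟩ := hf y
  obtain ⟨i, j, hij, hd⟩ := h g
  exact ⟨i, j, hij, (orderOf_map_dvd f g).trans hd⟩

theorem Small.quotient (h : Small G n) (R : Subgroup G) [R.Normal] : Small (G ⧸ R) n :=
  h.of_surjective (QuotientGroup.mk' R) (QuotientGroup.mk'_surjective R)

/-- Every prime divisor of the order belongs to one of the numbers. -/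
theorem Small.exists_index [Finite G] (h : Small G n) {p : ℕ} (hp : p.Prime)
    (hd : p ∣ Nat.card G) : ∃ i, p ∣ num n i := by
  haveI := Fact.mk hp
  obtain ⟨g, hg⟩ := exists_prime_orderOf_dvd_card' (G := G) p hd
  obtain ⟨i, j, -, hij⟩ := h g
  rw [hg] at hij
  rcases hp.dvd_mul.1 hij with h1 | h1
  · exact ⟨i, h1⟩
  · exact ⟨j, h1⟩

/-- No element order involves three of the numbers. -/
theorem Small.no_triple (h : Small G n) (hn : Odd n) (h3 : 3 ≤ n) {p q r : ℕ} (hp : p.Prime)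
    (hq : q.Prime) (hr : r.Prime) {i j k : Fin 4} (hi : p ∣ num n i) (hj : q ∣ num n j)
    (hk : r ∣ num n k) (hij : i ≠ j) (hik : i ≠ k) (hjk : j ≠ k) (g : G) :
    ¬ (p ∣ orderOf g ∧ q ∣ orderOf g ∧ r ∣ orderOf g) := by
  rintro ⟨h1, h2, h4⟩
  obtain ⟨a, b, -, hd⟩ := h g
  have key : ∀ {s : ℕ} {c : Fin 4}, s.Prime → s ∣ num n c → s ∣ orderOf g → c = a ∨ c = b := by
    intro s c hs hc hso
    rcases hs.dvd_mul.1 (hso.trans hd) with h5 | h5
    · exact Or.inl (eq_of_prime_dvd hn h3 hs hc h5)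
    · exact Or.inr (eq_of_prime_dvd hn h3 hs hc h5)
  rcases key hp hi h1 with rfl | rfl <;> rcases key hq hj h2 with rfl | rfl <;>
    rcases key hr hk h4 with rfl | rfl <;> simp at *

/-- Commuting elements of three kinds do not exist. -/
theorem Small.false_of_commute (h : Small G n) (hn : Odd n) (h3 : 3 ≤ n) {x y z : G} {p q r : ℕ}
    (hx : orderOf x = p) (hy : orderOf y = q) (hz : orderOf z = r) (hp : p.Prime)
    (hq : q.Prime) (hr : r.Prime) {i j k : Fin 4} (hi : p ∣ num n i) (hj : q ∣ num n j)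
    (hk : r ∣ num n k) (hij : i ≠ j) (hik : i ≠ k) (hjk : j ≠ k)
    (hxy : Commute x y) (hxz : Commute x z) (hyz : Commute y z) : False := by
  have hpq : Nat.Coprime p q := (Nat.coprime_primes hp hq).2 fun e =>
    hij (eq_of_prime_dvd hn h3 hp hi (e ▸ hj))
  have hpr : Nat.Coprime p r := (Nat.coprime_primes hp hr).2 fun e =>
    hik (eq_of_prime_dvd hn h3 hp hi (e ▸ hk))
  have hqr : Nat.Coprime q r := (Nat.coprime_primes hq hr).2 fun e =>
    hjk (eq_of_prime_dvd hn h3 hq hj (e ▸ hk))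
  have h1 : orderOf (x * y) = p * q := by
    rw [hxy.orderOf_mul_eq_mul_orderOf_of_coprime (by rwa [hx, hy]), hx, hy]
  have h2 : orderOf (x * y * z) = p * q * r := by
    rw [(hxz.mul_left hyz).orderOf_mul_eq_mul_orderOf_of_coprime
      (by rw [h1, hz]; exact Nat.Coprime.mul_left hpr hqr), h1, hz]
  refine h.no_triple hn h3 hp hq hr hi hj hk hij hik hjk (x * y * z) ⟨?_, ?_, ?_⟩ <;> rw [h2]
  · exact (dvd_mul_right p q).mul_right r
  · exact (dvd_mul_left q p).mul_right r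
  · exact dvd_mul_left r (p * q)

/-- A prime power dividing an element order divides the number of its prime. -/
theorem Small.pow_dvd (h : Small G n) (hn : Odd n) (h3 : 3 ≤ n) {l e : ℕ} (hl : l.Prime)
    {i : Fin 4} (hi : l ∣ num n i) {g : G} (hd : l ^ e ∣ orderOf g) : l ^ e ∣ num n i := by
  obtain ⟨a, b, hab, hg⟩ := h g
  have key : ∀ a b : Fin 4, i ≠ b → l ^ e ∣ num n a * num n b → l ^ e ∣ num n a := fun a b hb hh =>
    (Nat.Coprime.pow_left _ (hl.coprime_iff_not_dvd.2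
      fun hlb => hb (eq_of_prime_dvd hn h3 hl hi hlb))).dvd_of_dvd_mul_right hh
  rcases Nat.eq_zero_or_pos e with rfl | he
  · simp
  by_cases hia : i = a
  · subst hia; exact key _ _ hab (hd.trans hg)
  · have hib : i = b := by
      rcases hl.dvd_mul.1 ((dvd_pow_self l he.ne').trans (hd.trans hg)) with h5 | h5
      · exact absurd (eq_of_prime_dvd hn h3 hl hi h5) hia
      · exact eq_of_prime_dvd hn h3 hl hi h5
    subst hib
    exact key _ _ hia (by rw [mul_comm]; exact hd.trans hg)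

/-- There are no elements of order eight. -/
theorem Small.no_eight (h : Small G n) (hn : Odd n) (h3 : 3 ≤ n) (g : G) : orderOf g ≠ 8 := by
  intro hg
  have := h.pow_dvd hn h3 (e := 3) Nat.prime_two (i := 0) (by rw [num_zero]; norm_num)
    (g := g) (by rw [hg]; norm_num)
  rw [num_zero] at this
  norm_num at this

/-- The order is prime to three. -/
theorem Small.not_three_dvd [Finite G] (h : Small G n) (hn : Odd n) (h3 : 3 ≤ n) :
    ¬ 3 ∣ Nat.card G := by
  intro hd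
  obtain ⟨i, hi⟩ := h.exists_index Nat.prime_three hd
  have h1 : 2 ^ n % 3 = 2 := by
    obtain ⟨m, rfl⟩ := hn
    rw [pow_succ, pow_mul, Nat.mul_mod, Nat.pow_mod]
    norm_num
  have h23 := num_two_mul_num_three hn h3
  have h2 : ¬ 3 ∣ 2 ^ n * 2 ^ n + 1 := by
    intro h
    have : (2 ^ n * 2 ^ n + 1) % 3 = 2 := by rw [Nat.add_mod, Nat.mul_mod, h1]
    omega
  by_cases hi0 : i = 0
  · subst hi0; exact absurd (eq_two_of_dvd_num_zero Nat.prime_three hi) (by norm_num)
  by_cases hi1 : i = 1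
  · subst hi1
    rw [num_one] at hi
    obtain ⟨c, hc⟩ := hi
    have := Nat.one_le_two_pow (n := n)
    omega
  have hi' : i = 2 ∨ i = 3 := by omega
  rcases hi' with rfl | rfl
  · exact h2 (h23 ▸ hi.mul_right _)
  · exact h2 (h23 ▸ hi.mul_left _)

theorem Pairs.exists_order_prime_mul [Finite G] (h : Pairs G n) {p q : ℕ} {i j : Fin 4}
    (hij : i ≠ j) (hi : p ∣ num n i) (hj : q ∣ num n j) : ∃ x : G, orderOf x = p * q := by
  obtain ⟨g, hg⟩ := h i j hij
  obtain ⟨c, hc⟩ : p * q ∣ orderOf g := hg ▸ mul_dvd_mul hi hj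
  refine ⟨g ^ c, ?_⟩
  rw [orderOf_pow_of_dvd (fun h0 => ?_) (Dvd.intro_left _ hc.symm)]
  · rw [hc, Nat.mul_div_cancel]
    rcases Nat.eq_zero_or_pos c with rfl | hc0
    · exact absurd (by simpa using hc) (orderOf_pos g).ne'
    · exact hc0
  · subst h0
    exact (orderOf_pos g).ne' (by simpa using hc)

end groups

end Cfsg.Agent.SzSq70
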