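import Cfsg.Agent.SzSq70.Defs
import Cfsg.Agent.SzSq70.Facts
import Cfsg.Agent.S2904
import Cfsg.Agent.CNCit80.SzGraph
import Cfsg.Agent.EPPO42.Basic
import Cfsg.Agent.Lib.Components.GenFitting
import Cfsg.Agent.ThreePrime89.Solv

/-!
# The top of a nonsolvable group with small element orders

Modulo the solvable radical there are one or two simple components, all of them Suzuki groups over
fields whose degree divides `n`.
-/

set_option autoImplicit false
set_option linter.style.haveILetI false

namespace Cfsg.Agent.SzSq70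

open Subgroup

universe u

theorem socle_exists_sz {M : Type*} [Group M] (h : Cfsg.Lie.IsoSuzuki M) : ∃ k, IsSz M k := by
  obtain ⟨F, iF, iT, m, hm, hF, he⟩ := h
  exact ⟨2 * m + 1, F, iF, iT, m, hm, rfl, hF, he⟩

section

variable {G : Type u} [Group G] [Finite G] {n : ℕ}

/-- The degree of a Suzuki section divides `n`. -/
theorem socle_dvd (hS : Small G n) (hn : Odd n) (h3 : 3 ≤ n) {k : ℕ} (hk : Odd k) (hk3 : 3 ≤ k)
    (hd : 2 ^ k - 1 ∣ Nat.card G) : k ∣ n := by
  obtain ⟨p, hp, hpd, hmin⟩ := S2904.result 2 k one_lt_two (by omega)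
    (fun h => by rcases hk with ⟨c, hc⟩; omega) (fun h => by omega)
  haveI := Fact.mk hp
  have hp2 : p ≠ 2 := by
    rintro rfl
    have h1 : 2 ∣ 2 ^ k := dvd_pow_self 2 (by omega)
    obtain ⟨c, hc⟩ := hpd
    have := Nat.one_le_two_pow (n := k)
    omega
  have hone : ∀ e, p ∣ 2 ^ e - 1 ↔ (2 : ZMod p) ^ e = 1 := fun e => by
    rw [← ZMod.natCast_eq_zero_iff, Nat.cast_sub Nat.one_le_two_pow, Nat.cast_pow, Nat.cast_one,
      sub_eq_zero, Nat.cast_ofNat]
  have hord : orderOf (2 : ZMod p) = k := by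
    have hdk : orderOf (2 : ZMod p) ∣ k := orderOf_dvd_of_pow_eq_one ((hone k).1 hpd)
    have hpos : 0 < orderOf (2 : ZMod p) :=
      Nat.pos_of_ne_zero fun h => by rw [h, zero_dvd_iff] at hdk; omega
    exact le_antisymm (Nat.le_of_dvd (by omega) hdk) (not_lt.1 fun hlt =>
      hmin _ hpos hlt ((hone _).2 (pow_orderOf_eq_one _)))
  obtain ⟨i, hi⟩ := hS.exists_index hp (hpd.trans hd)
  have hi0 : i ≠ 0 := fun h => hp2 (eq_two_of_dvd_num_zero hp (h ▸ hi))
  by_cases hi1 : i = 1
  · rw [hi1, num_one] at hi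
    exact hord ▸ orderOf_dvd_of_pow_eq_one ((hone n).1 hi)
  have h23 : p ∣ 2 ^ n * 2 ^ n + 1 := by
    rw [← num_two_mul_num_three hn h3]
    rcases (show i = 2 ∨ i = 3 by omega) with rfl | rfl
    · exact hi.mul_right _
    · exact hi.mul_left _
  have h4 : (2 : ZMod p) ^ (4 * n) = 1 := by
    have h5 : ((2 ^ n * 2 ^ n + 1 : ℕ) : ZMod p) = 0 := (ZMod.natCast_eq_zero_iff _ _).2 h23
    push_cast at h5
    rw [show 4 * n = (n + n) + (n + n) by ring, pow_add, pow_add, eq_neg_of_add_eq_zero_left h5,
      neg_mul_neg, one_mul]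
  exact ((Nat.Coprime.pow_right 2 (Nat.coprime_two_right.2 hk)).dvd_of_dvd_mul_left
    (show k ∣ 2 ^ 2 * n from hord ▸ orderOf_dvd_of_pow_eq_one h4))

/-- One or two Suzuki components over the radical. -/
theorem exists_top (hST : ThreePrime89.SimpleThree.{u}) (hS : Small G n) (hn : Odd n) (h3 : 3 ≤ n)
    (hns : ¬ Group.IsSolvable G) :
    ∃ (R : Subgroup G) (_ : R.Normal), Group.IsSolvable R ∧
      ((∃ (M : Subgroup (G ⧸ R)) (_ : M.Normal) (k : ℕ), IsSz M k ∧ k ∣ n ∧
          centralizer (M : Set (G ⧸ R)) = ⊥) ∨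
        ∃ (M₁ M₂ : Subgroup (G ⧸ R)) (k₁ k₂ : ℕ), TwoTop M₁ M₂ ∧ IsSz M₁ k₁ ∧ IsSz M₂ k₂ ∧
          k₁ ∣ n ∧ k₂ ∣ n) := by
  classical
  obtain ⟨R, hRn, hRs, hmax⟩ := EPPO42.exists_radical (G := G)
  haveI := hRn
  haveI := hRs
  refine ⟨R, hRn, hRs, ?_⟩
  set X := G ⧸ R
  have hrad : ∀ N : Subgroup X, N.Normal → Group.IsSolvable N → N = ⊥ := by
    intro N hN hNs
    haveI := hN
    haveI := hNs
    set N' := N.comap (QuotientGroup.mk' R)
    haveI : Group.IsSolvable N' := by
      refine Group.isSolvable_of_ker_le_range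
        (inclusion (show R ≤ N' from fun r hr => by
          show QuotientGroup.mk' R r ∈ N
          rw [show QuotientGroup.mk' R r = 1 from (QuotientGroup.eq_one_iff r).2 hr]
          exact one_mem N))
        (((QuotientGroup.mk' R).comp N'.subtype).codRestrict N fun x => x.2) ?_
      intro x hx
      exact ⟨⟨x, (QuotientGroup.eq_one_iff _).1 (congrArg Subtype.val hx)⟩, rfl⟩
    have hle : N' ≤ R := hmax N' inferInstance inferInstance
    rw [eq_bot_iff]
    intro y hy
    obtain ⟨g, rfl⟩ := QuotientGroup.mk'_surjective R y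
    exact mem_bot.2 ((QuotientGroup.eq_one_iff g).2 (hle hy))
  have hfit : Cfsg.fittingSubgroup X = ⊥ := by
    haveI : Group.IsNilpotent (Cfsg.fittingSubgroup X) := Fitting.fitting_isNilpotent
    exact hrad _ inferInstance (Coprime.isSolvable_of_isNilpotent' inferInstance)
  have hF : Cfsg.generalizedFittingSubgroup X = Cfsg.layer X := by
    rw [Cfsg.generalizedFittingSubgroup, hfit, sup_bot_eq]
  have hC : centralizer (Cfsg.layer X : Set X) = ⊥ := by
    have h1 : centralizer (Cfsg.layer X : Set X) ≤ Cfsg.layer X := by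
      have := Components.centralizer_generalizedFitting_le (G := X)
      rwa [hF] at this
    refine hrad _ inferInstance (Group.isSolvable_of_comm fun a b => Subtype.ext ?_)
    exact (mem_centralizer_iff.1 a.2 b (h1 b.2)).symm
  have hprops : ∀ L : Subgroup X, Cfsg.IsComponent L →
      center L = ⊥ ∧ ∃ k, IsSz L k ∧ k ∣ n := by
    intro L hL
    have hz : center L = ⊥ := by
      haveI : (center L).Normal := inferInstance
      have hsn : ((center L).map L.subtype).IsSubnormal :=
        (inferInstance : (center L).Normal).isSubnormal.trans' hL.1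
      letI : CommGroup (center L) :=
        { (inferInstance : Group (center L)) with
          mul_comm := fun a b => Subtype.ext (mem_center_iff.1 b.2 a) }
      haveI : Group.IsNilpotent (center L) := CommGroup.isNilpotent
      have hnil : Group.IsNilpotent ((center L).map L.subtype) :=
        Group.nilpotent_of_mulEquiv ((center L).equivMapOfInjective _ L.subtype_injective)
      have h1 := Components.le_fitting_of_isSubnormal hsn hnil
      rwa [hfit, le_bot_iff, Subgroup.map_eq_bot_iff_of_injective _ L.subtype_injective] at h1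
    haveI : Nontrivial L := Components.nontrivial_of_isQuasisimple hL.2
    haveI : IsSimpleGroup (L ⧸ center L) := hL.2.2
    haveI : IsSimpleGroup L := IsSimpleGroup.isSimpleGroup_of_surjective
      ((QuotientGroup.quotientMulEquivOfEq hz).trans QuotientGroup.quotientBot).toMonoidHom
      ((QuotientGroup.quotientMulEquivOfEq hz).trans QuotientGroup.quotientBot).surjective
    have hna : ∃ a b : L, a * b ≠ b * a := by
      by_contra hc
      push Not at hc
      exact Components.not_isMulCommutative_of_isQuasisimple hL.2 ⟨⟨hc⟩⟩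
    have hLG : Nat.card L ∣ Nat.card G :=
      (card_subgroup_dvd_card L).trans (card_quotient_dvd_card R)
    obtain ⟨k, hk⟩ := socle_exists_sz (hST L hna fun h => hS.not_three_dvd hn h3 (h.trans hLG))
    refine ⟨hz, k, hk, socle_dvd hS hn h3 ?_ hk.three_le ?_⟩
    · obtain ⟨F, _, _, m, -, rfl, -, -⟩ := hk
      exact odd_two_mul_add_one m
    · exact (Dvd.intro_left _ hk.card.symm).trans hLG
  have hcomm : ∀ L M : Subgroup X, Cfsg.IsComponent L → Cfsg.IsComponent M → L ≠ M →
      ∀ x ∈ L, ∀ y ∈ M, Commute x y := fun L M hL hM hne x hx y hy =>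
    (mem_centralizer_iff.1 (Components.component_le_centralizer hL hM hne hx) y hy).symm
  -- three components give commuting elements of three kinds
  have hthree : ∀ A B C : Subgroup X, Cfsg.IsComponent A → Cfsg.IsComponent B →
      Cfsg.IsComponent C → A ≠ B → A ≠ C → B ≠ C → False := by
    intro A B C hA hB hC' hAB hAC hBC
    obtain ⟨-, kA, hkA, -⟩ := hprops A hA
    obtain ⟨-, kB, hkB, hdB⟩ := hprops B hB
    obtain ⟨-, kC, hkC, hdC⟩ := hprops C hC'
    haveI : Fact (Nat.Prime 2) := ⟨Nat.prime_two⟩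
    have h2 : 2 ∣ Nat.card A := by
      rw [hkA.card]
      exact ((dvd_pow (dvd_pow_self 2 (by have := hkA.three_le; omega)) two_ne_zero).mul_right
        _).mul_right _
    obtain ⟨x, hx⟩ := exists_prime_orderOf_dvd_card' (G := A) 2 h2
    obtain ⟨p, hp, hpd⟩ := Nat.exists_prime_and_dvd (n := 2 ^ kB - 1) (by
      have := Nat.pow_le_pow_right (show 1 ≤ 2 by norm_num) hkB.three_le
      omega)
    haveI := Fact.mk hp
    obtain ⟨y, hy⟩ := exists_prime_orderOf_dvd_card' (G := B) p
      (hpd.trans (Dvd.intro_left _ hkB.card.symm))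
    obtain ⟨q, hq, hqd⟩ := Nat.exists_prime_and_dvd (n := (2 ^ kC) ^ 2 + 1) (by
      have := Nat.one_le_pow 2 (2 ^ kC) (by positivity)
      have := Nat.pow_le_pow_right (show 1 ≤ 2 by norm_num) hkC.three_le
      nlinarith)
    haveI := Fact.mk hq
    obtain ⟨z, hz⟩ := exists_prime_orderOf_dvd_card' (G := C) q
      (hqd.trans (by rw [hkC.card]; exact (dvd_mul_left _ _).mul_right _))
    have hp1 : p ∣ num n 1 := by
      rw [num_one]
      exact hpd.trans (Nat.pow_sub_one_dvd_pow_sub_one 2 hdB)
    have hq23 : q ∣ num n 2 * num n 3 := by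
      rw [num_two_mul_num_three hn h3]
      obtain ⟨c, hc⟩ := hdC
      have hcodd : Odd c := (Nat.odd_mul.1 (hc ▸ hn)).2
      have h4 : (2 ^ kC) ^ 2 + 1 ∣ ((2 ^ kC) ^ 2) ^ c + 1 ^ c := hcodd.nat_add_dvd_pow_add_pow _ _
      rw [one_pow] at h4
      refine hqd.trans ((show 2 ^ n * 2 ^ n + 1 = ((2 ^ kC) ^ 2) ^ c + 1 by
        rw [hc, ← pow_mul, ← pow_mul, ← pow_add]; ring_nf) ▸ h4)
    have hX : Small X n := hS.quotient R
    have key : ∀ i : Fin 4, i = 2 ∨ i = 3 → q ∣ num n i → False := by
      intro i hi hqi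
      refine hX.false_of_commute hn h3 (x := (x : X)) (y := (y : X)) (z := (z : X))
        ((orderOf_coe x).trans hx) ((orderOf_coe y).trans hy) ((orderOf_coe z).trans hz)
        Nat.prime_two hp hq (i := 0) (j := 1) (k := i) (by rw [num_zero]; norm_num) hp1 hqi
        (by decide) ?_ ?_ (hcomm A B hA hB hAB _ x.2 _ y.2) (hcomm A C hA hC' hAC _ x.2 _ z.2)
        (hcomm B C hB hC' hBC _ y.2 _ z.2) <;> rcases hi with rfl | rfl <;> decide
    rcases hq.dvd_mul.1 hq23 with h | h
    · exact key 2 (Or.inl rfl) h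
    · exact key 3 (Or.inr rfl) h
  have hne : ∃ L : Subgroup X, Cfsg.IsComponent L := by
    by_contra hno
    push Not at hno
    rw [Components.layer_eq_bot_iff.2 hno] at hC
    refine hns (Group.isSolvable_of_ker_le_range R.subtype (1 : G →* Unit) fun g _ => ?_)
    have h1 : QuotientGroup.mk' R g ∈ centralizer ((⊥ : Subgroup X) : Set X) := by
      rw [mem_centralizer_iff]
      intro b hb
      rw [mem_bot.1 hb, one_mul, mul_one]
    rw [hC, mem_bot] at h1
    exact ⟨⟨g, (QuotientGroup.eq_one_iff g).1 h1⟩, rfl⟩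
  obtain ⟨L, hL⟩ := hne
  by_cases honly : ∀ M : Subgroup X, Cfsg.IsComponent M → M = L
  · have hlay : Cfsg.layer X = L :=
      le_antisymm (Components.layer_le_iff.2 fun M hM => (honly M hM).le)
        (Components.component_le_layer hL)
    obtain ⟨-, k, hk, hd⟩ := hprops L hL
    haveI : L.Normal := hlay ▸ inferInstance
    exact Or.inl ⟨L, inferInstance, k, hk, hd, hlay ▸ hC⟩
  push Not at honly
  obtain ⟨M, hM, hMne⟩ := honly
  have hall : ∀ K : Subgroup X, Cfsg.IsComponent K → K = L ∨ K = M := by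
    intro K hK
    by_contra hc
    push Not at hc
    exact hthree L M K hL hM hK hMne.symm hc.1.symm hc.2.symm
  obtain ⟨hzL, k₁, hk₁, hd₁⟩ := hprops L hL
  obtain ⟨-, k₂, hk₂, hd₂⟩ := hprops M hM
  refine Or.inr ⟨L, M, k₁, k₂, ⟨hcomm L M hL hM hMne.symm, ?_, fun g => ?_, ?_⟩, hk₁, hk₂, hd₁,
    hd₂⟩
  · rw [eq_bot_iff]
    intro x hx
    have h1 : (⟨x, hx.1⟩ : L) ∈ center L := mem_center_iff.2 fun y =>
      Subtype.ext ((hcomm L M hL hM hMne.symm y y.2 x hx.2).eq)
    rw [hzL, mem_bot] at h1
    exact mem_bot.2 (congrArg Subtype.val h1)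
  · have hL' := Components.component_map_conj g hL
    have hM' := Components.component_map_conj g hM
    have hne' : L.map (MulAut.conj g).toMonoidHom ≠ M.map (MulAut.conj g).toMonoidHom :=
      fun e => hMne (map_injective (MulAut.conj g).injective e).symm
    rcases hall _ hL' with h1 | h1 <;> rcases hall _ hM' with h2 | h2
    · exact absurd (h1.trans h2.symm) hne'
    · exact Or.inl ⟨h1, h2⟩
    · exact Or.inr ⟨h1, h2⟩
    · exact absurd (h1.trans h2.symm) hne'
  · have hlay : Cfsg.layer X = L ⊔ M :=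
      le_antisymm (Components.layer_le_iff.2 fun K hK => by
        rcases hall K hK with rfl | rfl
        · exact le_sup_left
        · exact le_sup_right)
        (sup_le (Components.component_le_layer hL) (Components.component_le_layer hM))
    exact hlay ▸ hC

end

end Cfsg.Agent.SzSq70
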