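import Cfsg.Agent.SzSq70.SolvBasics

/-!
# Soluble groups of four kinds of primes: two primes in the Fitting subgroup
-/

set_option autoImplicit false
set_option linter.style.haveILetI false
set_option linter.unusedSectionVars false

namespace Cfsg.Agent.SzSq70.Solv

open Subgroup

variable {G : Type*} [Group G] [Finite G] [Group.IsSolvable G] {p : Fin 4 → ℕ}

/-- The data of the case of two primes. -/
structure Two (p : Fin 4 → ℕ) (J A B E₂ E₃ : Subgroup G) : Prop where
  primes : ∀ r, r.Prime → r ∣ Nat.card J → r = p 2 ∨ r = p 3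
  isA : IsPGroup (p 0) A
  isB : IsPGroup (p 1) B
  neA : A ≠ ⊥
  neB : B ≠ ⊥
  comm : ∀ a ∈ A, ∀ b ∈ B, Commute a b
  normA : J ≤ normalizer (A : Set G)
  normB : J ≤ normalizer (B : Set G)
  faith : ∀ x ∈ J, (∀ a ∈ A, Commute x a) → (∀ b ∈ B, Commute x b) → x = 1
  r2 : R2 (p 2) E₂
  le2 : E₂ ≤ J
  r3 : R2 (p 3) E₃
  le3 : E₃ ≤ J

theorem Two.swap {J A B E₂ E₃ : Subgroup G} (t : Two p J A B E₂ E₃) :
    Two (p ∘ Equiv.swap (2 : Fin 4) 3) J A B E₃ E₂ where
  primes := fun r hr hd => (t.primes r hr hd).symm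
  isA := t.isA
  isB := t.isB
  neA := t.neA
  neB := t.neB
  comm := t.comm
  normA := t.normA
  normB := t.normB
  faith := t.faith
  r2 := t.r3
  le2 := t.le3
  r3 := t.r2
  le3 := t.le2

theorem Two.swapAB {J A B E₂ E₃ : Subgroup G} (t : Two p J A B E₂ E₃) :
    Two (p ∘ Equiv.swap (0 : Fin 4) 1) J B A E₂ E₃ where
  primes := t.primes
  isA := t.isB
  isB := t.isA
  neA := t.neB
  neB := t.neA
  comm := fun a ha b hb => (t.comm b hb a ha).symm
  normA := t.normB
  normB := t.normA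
  faith := fun x hx ha hb => t.faith x hx hb ha
  r2 := t.r2
  le2 := t.le2
  r3 := t.r3
  le3 := t.le3

variable {J A B E₂ E₃ : Subgroup G}

/-- No element of prime order fixes elements of both factors. -/
theorem Two.not_both (h : Rainbow G p) (t : Two p J A B E₂ E₃) {x : G} {i : Fin 4} (hi0 : i ≠ 0)
    (hi1 : i ≠ 1) (hx : orderOf x = p i) : ¬ (Fix x A ∧ Fix x B) := by
  rintro ⟨hA, hB⟩
  obtain ⟨a, ha, hao, hxa⟩ := hA.exists_order (h.prime 0) t.isA
  obtain ⟨b, hb, hbo, hxb⟩ := hB.exists_order (h.prime 1) t.isB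
  exact h.tri hi0 hi1 (show (0 : Fin 4) ≠ 1 by decide) hx hao hbo hxa hxb (t.comm a ha b hb)

theorem Two.no_elementary (h : Rainbow G p) (t : Two p J A B E₂ E₃) {Z : Subgroup G} (hZJ : Z ≤ J)
    (hJZ : J ≤ normalizer (Z : Set G)) (hZ : IsPGroup (p 2) Z)
    (hZc : ∀ x ∈ Z, ∀ y ∈ Z, Commute x y) (hZA : ∀ x ∈ Z, ∀ a ∈ A, Commute x a) : Z = ⊥ := by
  by_contra hne
  obtain ⟨e, he, he1, hfix⟩ := exists_fix (h.prime 3) (h.prime 0) (h.ne (by decide)) t.r3 t.isA
    t.neA (t.le3.trans t.normA)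
  have heo := t.r3.orderOf_eq (h.prime 3) he he1
  obtain ⟨a, ha, hao, hea⟩ := hfix.exists_order (h.prime 0) t.isA
  obtain ⟨z, hz, hzo⟩ := exists_order_of_ne_bot (h.prime 2) hZ hne
  by_cases hc : Commute e z
  · exact h.tri (show (3 : Fin 4) ≠ 2 by decide) (show (3 : Fin 4) ≠ 0 by decide)
      (show (2 : Fin 4) ≠ 0 by decide) heo hzo hao hc hea (hZA z hz a ha)
  refine t.not_both h (show (3 : Fin 4) ≠ 0 by decide) (show (3 : Fin 4) ≠ 1 by decide) heo
    ⟨hfix, ?_⟩
  exact fix_of_moves_faithful (h.prime 3) (h.prime 2) (h.prime 1) (h.ne (by decide))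
    (h.ne (by decide)) (h.ne (by decide)) t.isB hZ heo (hJZ (t.le3 he)) (t.normB (t.le3 he))
    (hZJ.trans t.normB) (fun _ x hx y hy => (hZc x hx y hy).eq)
    (fun x hx hb => t.faith x (hZJ hx) (hZA x hx) hb) ⟨z, hz, hc⟩

theorem Two.faithful_left (h : Rainbow G p) (t : Two p J A B E₂ E₃) :
    ∀ x ∈ J, (∀ a ∈ A, Commute x a) → x = 1 := by
  intro x hx hxa
  by_contra hx1
  set K := J ⊓ centralizer (A : Set G) with hK
  have hxK : x ∈ K := ⟨hx, mem_centralizer_iff.2 fun a ha => (hxa a ha).symm.eq⟩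
  have hKne : K ≠ ⊥ := fun e => hx1 (Subgroup.mem_bot.1 (e ▸ hxK))
  have hJK : J ≤ normalizer (K : Set G) :=
    Cfsg.Agent.Coprime.le_normalizer_inf le_normalizer
      (Cfsg.Agent.Coprime.le_normalizer_centralizer t.normA)
  obtain ⟨r, hr, hrd, hne⟩ := exists_pc_ne_bot hKne
  haveI := Fact.mk hr
  have hom := omZ_ne_bot hr (isPGroup_pc r K) hne
  have hle : omZ r (pc r K) ≤ K := (omZ_le _ _).trans (pc_le r K)
  have hJZ : J ≤ normalizer (omZ r (pc r K) : Set G) :=
    le_normalizer_omZ (le_normalizer_pc r hJK)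
  have hZp : IsPGroup r ↥(omZ r (pc r K)) := (isPGroup_pc r K).to_le (omZ_le _ _)
  have hZA : ∀ y ∈ omZ r (pc r K), ∀ a ∈ A, Commute y a := fun y hy a ha =>
    (mem_centralizer_iff.1 (hle hy).2 a ha).symm
  rcases t.primes r hr (hrd.trans (card_dvd_of_le inf_le_left)) with rfl | rfl
  · exact hom (t.no_elementary h (hle.trans inf_le_left) hJZ hZp
      (fun a ha b hb => omZ_comm ha hb) hZA)
  · exact hom (Two.no_elementary (h.perm (Equiv.swap 2 3)) t.swap (hle.trans inf_le_left) hJZ hZp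
      (fun a ha b hb => omZ_comm ha hb) hZA)

theorem Two.faithful_right (h : Rainbow G p) (t : Two p J A B E₂ E₃) :
    ∀ x ∈ J, (∀ b ∈ B, Commute x b) → x = 1 :=
  Two.faithful_left (h.perm (Equiv.swap 0 1)) t.swapAB

/-- The prime two is not among the two last primes. -/
theorem Two.ne_two (h : Rainbow G p) (t : Two p J A B E₂ E₃) : p 2 ≠ 2 := by
  classical
  intro h2
  cases nonempty_fintype E₂
  have hsub : ∀ {X : Subgroup G}, IsPGroup (p 0) X ∨ IsPGroup (p 1) X → E₂ ≤ normalizer (X : Set G) →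
      (∀ x ∈ J, (∀ a ∈ X, Commute x a) → x = 1) → X ≠ ⊥ →
      2 ≤ (Finset.univ.filter fun e : E₂ => e ≠ 1 ∧ Fix (e : G) X).card := by
    intro X hX hN hf hne
    obtain ⟨v, hv, hv2, hXv⟩ : ∃ v, v.Prime ∧ p 2 ≠ v ∧ IsPGroup v X := by
      rcases hX with hX | hX
      · exact ⟨_, h.prime 0, h.ne (by decide), hX⟩
      · exact ⟨_, h.prime 1, h.ne (by decide), hX⟩
    obtain ⟨e, he, he1, hfe⟩ := exists_fix (h.prime 2) hv hv2 t.r2 hXv hne hN
    have : ∃ e' : E₂, e' ≠ 1 ∧ Fix (e' : G) X ∧ (e' : G) ≠ e := by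
      by_contra hcon
      push Not at hcon
      haveI := t.r2.isMulCommutative
      have hle := Cfsg.Agent.Coprime.le_of_centralizer_le E₂ X (centralizer ({e} : Set G))
        (t.r2.not_isCyclic (h.prime 2)) hN (coprime_card (h.prime 2) hv hv2 t.r2.isPGroup hXv) ?_
      · exact he1 (hf e (t.le2 he) fun a ha => (mem_centralizer_singleton_iff.1 (hle ha)).symm)
      intro g hg hg1 x hx
      rcases eq_or_ne x 1 with rfl | hx1
      · exact one_mem _
      have := hcon ⟨g, hg⟩ (fun e => hg1 (congrArg Subtype.val e))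
        ⟨x, hx.1, hx1, (mem_centralizer_singleton_iff.1 hx.2).symm⟩
      rw [← this]
      exact hx.2
    obtain ⟨e', he'1, he'f, hne'⟩ := this
    refine le_trans (le_of_eq ?_) (Finset.card_le_card
      (show ({⟨e, he⟩, e'} : Finset E₂) ⊆ _ from ?_))
    · rw [Finset.card_pair (fun hh => hne' (congrArg Subtype.val hh).symm)]
    · intro g hg
      simp only [Finset.mem_insert, Finset.mem_singleton] at hg
      refine Finset.mem_filter.2 ⟨Finset.mem_univ _, ?_⟩
      rcases hg with rfl | rfl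
      · exact ⟨fun hh => he1 (congrArg Subtype.val hh), hfe⟩
      · exact ⟨he'1, he'f⟩
  have hA2 := hsub (Or.inl t.isA) (t.le2.trans t.normA) (t.faithful_left h) t.neA
  have hB2 := hsub (Or.inr t.isB) (t.le2.trans t.normB) (t.faithful_right h) t.neB
  have hdis : Disjoint (Finset.univ.filter fun e : E₂ => e ≠ 1 ∧ Fix (e : G) A)
      (Finset.univ.filter fun e : E₂ => e ≠ 1 ∧ Fix (e : G) B) := by
    rw [Finset.disjoint_filter]
    intro e _ hea heb
    refine t.not_both h (show (2 : Fin 4) ≠ 0 by decide) (show (2 : Fin 4) ≠ 1 by decide)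
      (t.r2.orderOf_eq (h.prime 2) e.2 fun hh => hea.1 (Subtype.ext hh)) ⟨hea.2, heb.2⟩
  have hle : (Finset.univ.filter fun e : E₂ => e ≠ 1 ∧ Fix (e : G) A) ∪
      (Finset.univ.filter fun e : E₂ => e ≠ 1 ∧ Fix (e : G) B) ⊆ Finset.univ.erase (1 : E₂) := by
    intro e he
    simp only [Finset.mem_union, Finset.mem_filter, Finset.mem_univ, true_and] at he
    rcases he with he | he <;> simp [he.1]
  have hcard := Finset.card_le_card hle
  rw [Finset.card_union_of_disjoint hdis, Finset.card_erase_of_mem (Finset.mem_univ _),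
    Finset.card_univ, ← Nat.card_eq_fintype_card, t.r2.card, h2] at hcard
  omega

/-- The core of an odd prime is cyclic and centralized by the elements of the other order. -/
theorem Two.core (h : Rainbow G p) (t : Two p J A B E₂ E₃) :
    IsCyclic (pc (p 2) J) ∧
      ∀ f ∈ J, orderOf f = p 3 → ∀ y ∈ pc (p 2) J, Commute f y := by
  haveI := Fact.mk (h.prime 2)
  set T := pc (p 2) J with hT
  have hTp : IsPGroup (p 2) T := isPGroup_pc _ _
  have hJT : J ≤ normalizer (T : Set G) := le_normalizer_pc _ le_normalizer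
  have hTJ : T ≤ J := pc_le _ _
  have hall : ∀ f ∈ J, orderOf f = p 3 → ∀ y ∈ T, Commute f y := by
    intro f hf hfo y hy
    by_contra hc
    refine t.not_both h (show (3 : Fin 4) ≠ 0 by decide) (show (3 : Fin 4) ≠ 1 by decide) hfo
      ⟨?_, ?_⟩
    · exact fix_of_moves_faithful (h.prime 3) (h.prime 2) (h.prime 0) (h.ne (by decide))
        (h.ne (by decide)) (h.ne (by decide)) t.isA hTp hfo (hJT hf) (t.normA hf)
        (hTJ.trans t.normA) (fun h2 => absurd h2 (t.ne_two h))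
        (fun x hx ha => t.faithful_left h x (hTJ hx) ha) ⟨y, hy, hc⟩
    · exact fix_of_moves_faithful (h.prime 3) (h.prime 2) (h.prime 1) (h.ne (by decide))
        (h.ne (by decide)) (h.ne (by decide)) t.isB hTp hfo (hJT hf) (t.normB hf)
        (hTJ.trans t.normB) (fun h2 => absurd h2 (t.ne_two h))
        (fun x hx hb => t.faithful_right h x (hTJ hx) hb) ⟨y, hy, hc⟩
  refine ⟨?_, hall⟩
  by_contra hc
  obtain ⟨E, hET, hE, -⟩ := exists_R2_le_of_not_isCyclic (h.prime 2) (t.ne_two h) hTp hc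
  obtain ⟨e, he, he1, hfix⟩ := exists_fix (h.prime 3) (h.prime 0) (h.ne (by decide)) t.r3 t.isA
    t.neA (t.le3.trans t.normA)
  have heo := t.r3.orderOf_eq (h.prime 3) he he1
  obtain ⟨g, hg, hg1, a, ha, hao, hga, hea⟩ := exists_fix_of_fix (h.prime 2) (h.prime 0)
    (h.ne (by decide)) hE t.isA ((hET.trans hTJ).trans t.normA)
    (fun g hg => (hall e (t.le3 he) heo g (hET hg)).symm) hfix
  exact h.tri (show (2 : Fin 4) ≠ 3 by decide) (show (2 : Fin 4) ≠ 0 by decide)
    (show (3 : Fin 4) ≠ 0 by decide) (hE.orderOf_eq (h.prime 2) hg hg1) heo hao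
    (hall e (t.le3 he) heo g (hET hg)).symm hga hea

theorem Two.false (h : Rainbow G p) (t : Two p J A B E₂ E₃) : False := by
  obtain ⟨-, hall⟩ := t.core h
  obtain ⟨hU, -⟩ := Two.core (h.perm (Equiv.swap 2 3)) t.swap
  haveI : IsCyclic (pc (p 3) J) := hU
  haveI := Fact.mk (h.prime 3)
  refine t.r3.not_le_of_isCyclic (h.prime 3) (K := pc (p 3) J) fun e he => ?_
  rcases eq_or_ne e 1 with rfl | he1
  · exact one_mem _
  have heo := t.r3.orderOf_eq (h.prime 3) he he1
  refine mem_core_of_centralizes (h.prime 3) (h.prime 2) (h.ne (by decide)) ?_ hU (t.le3 he)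
    (k := 1) (by rw [heo, pow_one]) (hall e (t.le3 he) heo)
  intro r hr h3 h2
  haveI := Fact.mk hr
  exact pc_eq_bot fun hd => (t.primes r hr hd).elim h2 h3

end Cfsg.Agent.SzSq70.Solv
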