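import Cfsg.Agent.SzSq70.SolvTools

/-!
# Cyclic and noncyclic subgroups of prime power order: small facts
-/

set_option autoImplicit false
set_option linter.style.haveILetI false
set_option linter.unusedSectionVars false

namespace Cfsg.Agent.SzSq70.Solv

open Subgroup

variable {G : Type*} [Group G] [Finite G]

theorem R2.not_le_of_isCyclic {r : ℕ} (hr : r.Prime) {E K : Subgroup G} (hE : R2 r E)
    [IsCyclic K] : ¬ E ≤ K := fun h => hE.not_isCyclic hr
  (isCyclic_of_injective (Subgroup.inclusion h) (Subgroup.inclusion_injective h))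

/-- A noncyclic group of odd prime power order contains an elementary group of order `r ^ 2`. -/
theorem exists_R2_le_of_not_isCyclic {r : ℕ} (hr : r.Prime) (hr2 : r ≠ 2) {T : Subgroup G}
    (hT : IsPGroup r T) (hc : ¬ IsCyclic T) :
    ∃ E : Subgroup G, E ≤ T ∧ R2 r E ∧ T ≤ normalizer (E : Set G) := by
  haveI := Fact.mk hr
  obtain ⟨B, hBn, hBc, hBp, hBcard⟩ := Cfsg.Agent.PGroup.exists_normal_elementary_sq hT hr2 hc
  refine ⟨B.map T.subtype, map_subtype_le _, ⟨?_, ?_, ?_⟩, ?_⟩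
  · rw [Subgroup.card_map_of_injective T.subtype_injective, hBcard]
  · rintro _ ⟨x, hx, rfl⟩ _ ⟨y, hy, rfl⟩
    haveI := hBc
    exact (show Commute x y from congrArg Subtype.val (mul_comm' (⟨x, hx⟩ : B) ⟨y, hy⟩)).map T.subtype
  · rintro _ ⟨x, hx, rfl⟩
    rw [← map_pow, hBp x hx, map_one]
  · refine Cfsg.Agent.Coprime.le_normalizer_of_conj_mem fun t ht => ?_
    rintro _ ⟨x, hx, rfl⟩
    exact ⟨_, hBn.conj_mem x hx ⟨t, ht⟩, rfl⟩

/-- An elementary group is cyclic or contains a group of order `r ^ 2`. -/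
theorem isCyclic_or_exists_R2 {r : ℕ} (hr : r.Prime) {Z : Subgroup G}
    (hc : ∀ x ∈ Z, ∀ y ∈ Z, Commute x y) (he : ∀ x ∈ Z, x ^ r = 1) :
    IsCyclic Z ∨ ∃ E : Subgroup G, E ≤ Z ∧ R2 r E := by
  haveI := Fact.mk hr
  rcases eq_or_ne Z ⊥ with rfl | hne
  · exact Or.inl isCyclic_of_subsingleton
  obtain ⟨a, ha, ha1⟩ := (bot_or_exists_ne_one Z).resolve_left hne
  by_cases h : ∀ b ∈ Z, b ∈ zpowers a
  · refine Or.inl ?_
    have heq : Z = zpowers a := le_antisymm h (zpowers_le.2 ha)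
    rw [heq]
    infer_instance
  push Not at h
  obtain ⟨b, hb, hba⟩ := h
  have hb1 : b ≠ 1 := fun e => hba (e ▸ one_mem _)
  obtain ⟨E, hE, haE, hbE⟩ := exists_R2_of_two hr (orderOf_eq_prime (he a ha) ha1)
    (orderOf_eq_prime (he b hb) hb1) (hc a ha b hb) hba
  refine Or.inr ⟨zpowers a ⊔ zpowers b, sup_le (zpowers_le.2 ha) (zpowers_le.2 hb), ?_⟩
  suffices zpowers a ⊔ zpowers b = E by rw [this]; exact hE
  refine Subgroup.eq_of_le_of_card_ge (sup_le (zpowers_le.2 haE) (zpowers_le.2 hbE)) ?_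
  obtain ⟨k, hk⟩ := IsPGroup.iff_card.1
    (hE.isPGroup.to_le (sup_le (zpowers_le.2 haE) (zpowers_le.2 hbE)))
  rw [hE.card, hk]
  refine Nat.pow_le_pow_right hr.pos (not_lt.1 fun hlt => ?_)
  have hle : zpowers b ≤ zpowers a := by
    have h1 : zpowers a = zpowers a ⊔ zpowers b := by
      refine Subgroup.eq_of_le_of_card_ge le_sup_left ?_
      rw [hk, Nat.card_zpowers, orderOf_eq_prime (he a ha) ha1]
      calc r ^ k ≤ r ^ 1 := Nat.pow_le_pow_right hr.pos (by omega)
        _ = r := pow_one r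
    rw [h1]
    exact le_sup_right
  exact hba (hle (mem_zpowers b))

/-- An element of prime order moving a cyclic group has order dividing the totient. -/
theorem dvd_totient_of_moves {r : ℕ} (hr : r.Prime) {T : Subgroup G} [IsCyclic T] {f : G}
    (hf : orderOf f = r) (hfT : f ∈ normalizer (T : Set G)) (hmove : ∃ t ∈ T, ¬ Commute f t) :
    r ∣ (Nat.card T).totient := by
  haveI := Fact.mk hr
  set σ := T.normalizerMonoidHom ⟨f, hfT⟩ with hσ
  have h1 : σ ≠ 1 := by
    obtain ⟨t, ht, htc⟩ := hmove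
    intro h
    have := congrArg Subtype.val (DFunLike.congr_fun h ⟨t, ht⟩)
    simp [σ] at this
    exact htc (mul_inv_eq_iff_eq_mul.1 this)
  have h2 : orderOf σ = r := by
    refine orderOf_eq_prime ?_ h1
    rw [hσ, ← map_pow]
    have : (⟨f, hfT⟩ : normalizer (T : Set G)) ^ r = 1 :=
      Subtype.ext (by rw [SubmonoidClass.coe_pow, ← hf, pow_orderOf_eq_one]; rfl)
    rw [this, map_one]
  rw [← h2, ← IsCyclic.card_mulAut]
  exact orderOf_dvd_natCard σ

/-- The same for a cyclic group of prime power order. -/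
theorem dvd_sub_one_of_moves {r s : ℕ} (hr : r.Prime) (hs : s.Prime) (hrs : r ≠ s)
    {T : Subgroup G} [IsCyclic T] (hT : IsPGroup s T) {f : G}
    (hf : orderOf f = r) (hfT : f ∈ normalizer (T : Set G)) (hmove : ∃ t ∈ T, ¬ Commute f t) :
    r ∣ s - 1 := by
  haveI := Fact.mk hs
  have h := dvd_totient_of_moves hr hf hfT hmove
  obtain ⟨k, hk⟩ := IsPGroup.iff_card.1 hT
  rw [hk] at h
  rcases k with _ | k
  · rw [pow_zero, Nat.totient_one] at h
    exact absurd (Nat.dvd_one.1 h) hr.one_lt.ne'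
  rw [Nat.totient_prime_pow hs k.succ_pos, Nat.succ_sub_one] at h
  exact (hr.dvd_mul.1 h).resolve_left fun h' =>
    hrs ((Nat.prime_dvd_prime_iff_eq hr hs).1 (hr.dvd_of_dvd_pow h'))

theorem commute_of_not_dvd {r s : ℕ} (hr : r.Prime) (hs : s.Prime) {z f : G}
    (hz : orderOf z = s) (hf : orderOf f = r) (hfz : f ∈ normalizer (zpowers z : Set G))
    (hnd : ¬ r ∣ s - 1) : Commute f z := by
  by_contra hc
  have h := dvd_totient_of_moves hr (T := zpowers z) hf hfz ⟨z, mem_zpowers z, hc⟩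
  rw [Nat.card_zpowers, hz, Nat.totient_prime hs] at h
  exact hnd h

theorem eq_zpowers_of_isCyclic {r : ℕ} (hr : r.Prime) {Z : Subgroup G} [IsCyclic Z]
    (he : ∀ x ∈ Z, x ^ r = 1) {z : G} (hz : z ∈ Z) (hz1 : z ≠ 1) :
    Z = zpowers z ∧ orderOf z = r := by
  haveI := Fact.mk hr
  have hzo : orderOf z = r := orderOf_eq_prime (he z hz) hz1
  refine ⟨(Subgroup.eq_of_le_of_card_ge (zpowers_le.2 hz) ?_).symm, hzo⟩
  obtain ⟨g, hg⟩ := IsCyclic.exists_generator (α := Z)
  rw [Nat.card_zpowers, hzo, ← orderOf_eq_card_of_forall_mem_zpowers hg]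
  refine Nat.le_of_dvd hr.pos (orderOf_dvd_of_pow_eq_one (Subtype.ext ?_))
  simpa using he g g.2

end Cfsg.Agent.SzSq70.Solv
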