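import Mathlib
import Cfsg.Agent.Lib.Coprime.Generation
import Cfsg.Agent.Lib.Coprime.HallHigman
import Cfsg.Agent.Lib.Fitting.Minimal
import Cfsg.Agent.Lib.Thompson.Cores
import Cfsg.Agent.Lib.PGroup.NormalRankTwo
import Cfsg.Agent.S3633

/-!
# Soluble groups of four kinds of primes: tools

The primes `p i` are such that each product of two of them is an element order and no product of
three of them is one.
-/

set_option autoImplicit false
set_option linter.style.haveILetI false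
set_option linter.unusedSectionVars false

namespace Cfsg.Agent.SzSq70.Solv

open Subgroup

/-- The hypothesis on the element orders. -/
structure Rainbow (G : Type*) [Group G] (p : Fin 4 → ℕ) : Prop where
  prime : ∀ i, (p i).Prime
  inj : Function.Injective p
  pair : ∀ i j, i ≠ j → ∃ x : G, orderOf x = p i * p j
  no3 : ∀ i j k, i ≠ j → i ≠ k → j ≠ k → ¬ ∃ x : G, orderOf x = p i * p j * p k

variable {G : Type*} [Group G] {p : Fin 4 → ℕ}

theorem Rainbow.perm (h : Rainbow G p) (σ : Equiv.Perm (Fin 4)) : Rainbow G (p ∘ σ) :=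
  ⟨fun i => h.prime _, h.inj.comp σ.injective, fun i j hij => h.pair _ _ (σ.injective.ne hij),
    fun i j k hij hik hjk =>
      h.no3 _ _ _ (σ.injective.ne hij) (σ.injective.ne hik) (σ.injective.ne hjk)⟩

theorem Rainbow.ne (h : Rainbow G p) {i j : Fin 4} (hij : i ≠ j) : p i ≠ p j := h.inj.ne hij

theorem Rainbow.coprime (h : Rainbow G p) {i j : Fin 4} (hij : i ≠ j) : (p i).Coprime (p j) :=
  (Nat.coprime_primes (h.prime i) (h.prime j)).2 (h.ne hij)

/-- Three commuting elements of three kinds do not exist. -/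
theorem Rainbow.tri (h : Rainbow G p) {i j k : Fin 4} (hij : i ≠ j) (hik : i ≠ k) (hjk : j ≠ k)
    {x y z : G} (hx : orderOf x = p i) (hy : orderOf y = p j) (hz : orderOf z = p k)
    (hxy : Commute x y) (hxz : Commute x z) (hyz : Commute y z) : False := by
  have h1 : orderOf (x * y) = p i * p j := by
    rw [hxy.orderOf_mul_eq_mul_orderOf_of_coprime (by rw [hx, hy]; exact h.coprime hij), hx, hy]
  refine h.no3 i j k hij hik hjk ⟨x * y * z, ?_⟩
  rw [(hxz.mul_left hyz).orderOf_mul_eq_mul_orderOf_of_coprime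
    (by rw [h1, hz]; exact Nat.Coprime.mul_left (h.coprime hik) (h.coprime hjk)), h1, hz]

/-- `f` commutes with a nontrivial element of `A`. -/
def Fix (f : G) (A : Subgroup G) : Prop := ∃ a ∈ A, a ≠ 1 ∧ Commute f a

/-- An elementary abelian group of order `r ^ 2`. -/
structure R2 (r : ℕ) (E : Subgroup G) : Prop where
  card : Nat.card E = r ^ 2
  comm : ∀ x ∈ E, ∀ y ∈ E, Commute x y
  pow : ∀ x ∈ E, x ^ r = 1

theorem R2.isMulCommutative {r : ℕ} {E : Subgroup G} (hE : R2 r E) : IsMulCommutative E :=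
  ⟨⟨fun x y => Subtype.ext (hE.comm x x.2 y y.2).eq⟩⟩

theorem R2.orderOf_eq {r : ℕ} {E : Subgroup G} (hE : R2 r E) (hr : r.Prime) {x : G} (hx : x ∈ E)
    (hx1 : x ≠ 1) : orderOf x = r :=
  haveI := Fact.mk hr
  orderOf_eq_prime (hE.pow x hx) hx1

theorem R2.isPGroup {r : ℕ} {E : Subgroup G} (hE : R2 r E) : IsPGroup r E :=
  fun x => ⟨1, Subtype.ext (by simpa using hE.pow x x.2)⟩

theorem R2.not_isCyclic {r : ℕ} {E : Subgroup G} (hE : R2 r E) (hr : r.Prime) : ¬ IsCyclic E := by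
  intro hc
  obtain ⟨g, hg⟩ := hc.exists_generator
  have h1 : orderOf g = r ^ 2 := by rw [orderOf_eq_card_of_forall_mem_zpowers hg, hE.card]
  have h2 : orderOf g ∣ r := orderOf_dvd_of_pow_eq_one (Subtype.ext (by simpa using hE.pow g g.2))
  have h3 := Nat.le_of_dvd hr.pos (h1 ▸ h2)
  have := hr.two_le
  nlinarith

theorem R2.map {r : ℕ} {E : Subgroup G} (hE : R2 r E) (σ : MulAut G) :
    R2 r (E.map σ.toMonoidHom) where
  card := by rw [Subgroup.card_map_of_injective σ.injective, hE.card]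
  comm := by
    rintro _ ⟨x, hx, rfl⟩ _ ⟨y, hy, rfl⟩
    exact (hE.comm x hx y hy).map σ.toMonoidHom
  pow := by
    rintro _ ⟨x, hx, rfl⟩
    rw [← map_pow, hE.pow x hx, map_one]

theorem R2.exists_ne_one {r : ℕ} {E : Subgroup G} (hE : R2 r E) (hr : r.Prime) :
    ∃ e ∈ E, e ≠ 1 := by
  refine (bot_or_exists_ne_one E).resolve_left ?_
  rintro rfl
  have h := hE.card
  rw [card_bot] at h
  have := hr.two_le
  nlinarith

/-- Two commuting independent elements of order `r` span a group of order `r ^ 2`. -/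
theorem exists_R2_of_two [Finite G] {r : ℕ} (hr : r.Prime) {a b : G} (ha : orderOf a = r) (hb : orderOf b = r)
    (hab : Commute a b) (hne : b ∉ zpowers a) :
    ∃ E : Subgroup G, R2 r E ∧ a ∈ E ∧ b ∈ E := by
  have hc : ∀ (x : zpowers a) (y : zpowers b), Commute (x : G) (y : G) := by
    rintro ⟨_, i, rfl⟩ ⟨_, j, rfl⟩
    exact hab.zpow_zpow i j
  let φ : zpowers a × zpowers b →* G :=
    MonoidHom.noncommCoprod (zpowers a).subtype (zpowers b).subtype hc
  have hinj : Function.Injective φ := by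
    rw [injective_iff_map_eq_one]
    rintro ⟨x, y⟩ h
    have hxy : (y : G) = (x : G)⁻¹ := eq_inv_of_mul_eq_one_right h
    have hy1 : (y : G) = 1 := by
      by_contra hy1
      refine hne ?_
      have hyo : orderOf (y : G) = r := by
        haveI := Fact.mk hr
        obtain ⟨j, hj⟩ := y.2
        refine orderOf_eq_prime ?_ hy1
        rw [← hj]
        show (b ^ j) ^ r = 1
        rw [← zpow_natCast, ← zpow_mul, mul_comm, zpow_mul, zpow_natCast, ← hb,
          pow_orderOf_eq_one, one_zpow]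
      have hle : zpowers (y : G) = zpowers b := by
        refine Subgroup.eq_of_le_of_card_ge (zpowers_le.2 y.2) ?_
        rw [Nat.card_zpowers, Nat.card_zpowers, hyo, hb]
      have : zpowers b ≤ zpowers a := by
        rw [← hle, zpowers_le, hxy]
        exact inv_mem x.2
      exact this (mem_zpowers b)
    have hx1 : (x : G) = 1 := inv_eq_one.1 (hxy ▸ hy1)
    exact Prod.ext (Subtype.ext hx1) (Subtype.ext hy1)
  refine ⟨φ.range, ⟨?_, ?_, ?_⟩, ⟨(⟨a, mem_zpowers a⟩, 1), mul_one a⟩,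
    ⟨(1, ⟨b, mem_zpowers b⟩), one_mul b⟩⟩
  · rw [← Nat.card_congr (MonoidHom.ofInjective hinj).toEquiv, Nat.card_prod, Nat.card_zpowers,
      Nat.card_zpowers, ha, hb, sq]
  · rintro _ ⟨⟨x, y⟩, rfl⟩ _ ⟨⟨x', y'⟩, rfl⟩
    have h1 : Commute (x : G) (x' : G) := by
      obtain ⟨i, hi⟩ := x.2; obtain ⟨j, hj⟩ := x'.2
      rw [← hi, ← hj]; exact Commute.zpow_zpow_self a i j
    have h2 : Commute (y : G) (y' : G) := by
      obtain ⟨i, hi⟩ := y.2; obtain ⟨j, hj⟩ := y'.2
      rw [← hi, ← hj]; exact Commute.zpow_zpow_self b i j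
    exact ((h1.mul_right (hc x y')).mul_left ((hc x' y).symm.mul_right h2))
  · rintro _ ⟨⟨x, y⟩, rfl⟩
    show ((x : G) * y) ^ r = 1
    rw [(hc x y).mul_pow]
    have h1 : (x : G) ^ r = 1 := by
      obtain ⟨i, hi⟩ := x.2
      rw [← hi]
      show (a ^ i) ^ r = 1
      rw [← zpow_natCast, ← zpow_mul, mul_comm, zpow_mul, zpow_natCast, ← ha, pow_orderOf_eq_one,
        one_zpow]
    have h2 : (y : G) ^ r = 1 := by
      obtain ⟨i, hi⟩ := y.2
      rw [← hi]
      show (b ^ i) ^ r = 1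
      rw [← zpow_natCast, ← zpow_mul, mul_comm, zpow_mul, zpow_natCast, ← hb, pow_orderOf_eq_one,
        one_zpow]
    rw [h1, h2, one_mul]

theorem mem_normalizer_of_commute {A : Subgroup G} {g : G} (h : ∀ a ∈ A, Commute g a) :
    g ∈ normalizer (A : Set G) := by
  refine Cfsg.Agent.Coprime.mem_normalizer_of_le_iff (fun x hx => ?_) (fun x hx => ?_)
  · rwa [(h x hx).eq, mul_inv_cancel_right]
  · rwa [mul_assoc, ← (h x hx).eq, inv_mul_cancel_left]

theorem le_normalizer_inf_centralizer {E A : Subgroup G} {f : G}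
    (hA : E ≤ normalizer (A : Set G)) (hf : ∀ e ∈ E, Commute e f) :
    E ≤ normalizer ((A ⊓ centralizer ({f} : Set G) : Subgroup G) : Set G) := by
  refine Cfsg.Agent.Coprime.le_normalizer_inf hA fun e he => ?_
  refine le_normalizer ?_
  exact mem_centralizer_singleton_iff.2 (hf e he).eq

/-- The central elements of order dividing `r`. -/
def omZ (r : ℕ) (P : Subgroup G) : Subgroup G where
  carrier := {x | x ∈ P ∧ x ^ r = 1 ∧ ∀ y ∈ P, Commute x y}
  one_mem' := ⟨one_mem _, one_pow _, fun y _ => Commute.one_left y⟩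
  mul_mem' := fun {x y} hx hy => ⟨mul_mem hx.1 hy.1,
    by rw [(hx.2.2 y hy.1).mul_pow, hx.2.1, hy.2.1, one_mul],
    fun z hz => (hx.2.2 z hz).mul_left (hy.2.2 z hz)⟩
  inv_mem' := fun {x} hx => ⟨inv_mem hx.1, by rw [inv_pow, hx.2.1, inv_one],
    fun y hy => (hx.2.2 y hy).inv_left⟩

theorem omZ_le (r : ℕ) (P : Subgroup G) : omZ r P ≤ P := fun _ hx => hx.1

theorem omZ_comm {r : ℕ} {P : Subgroup G} {x y : G} (hx : x ∈ omZ r P) (hy : y ∈ omZ r P) :
    Commute x y := hx.2.2 y hy.1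

theorem le_normalizer_omZ {r : ℕ} {P J : Subgroup G} (h : J ≤ normalizer (P : Set G)) :
    J ≤ normalizer (omZ r P : Set G) := by
  refine Cfsg.Agent.Coprime.le_normalizer_of_conj_mem fun g hg x hx => ?_
  have hmem := mem_normalizer_iff.1 (h hg)
  refine ⟨(hmem x).1 hx.1, by rw [conj_pow, hx.2.1, mul_one, mul_inv_cancel], fun y hy => ?_⟩
  have h1 : g⁻¹ * y * g ∈ P := (hmem _).2 (by
    rwa [show g * (g⁻¹ * y * g) * g⁻¹ = y by group])
  have h2 := (hx.2.2 _ h1).map (MulAut.conj g).toMonoidHom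
  simpa [MulAut.conj_apply, mul_assoc] using h2

/-- The `r`-core of a subgroup. -/
def pc (r : ℕ) (K : Subgroup G) : Subgroup G := (Cfsg.pCore r K).map K.subtype

theorem pc_le (r : ℕ) (K : Subgroup G) : pc r K ≤ K := map_subtype_le _

theorem le_normalizer_pc (r : ℕ) {H K : Subgroup G} (h : H ≤ normalizer (K : Set G)) :
    H ≤ normalizer (pc r K : Set G) := by
  refine Cfsg.Agent.Coprime.le_normalizer_of_conj_mem fun g hg => ?_
  rintro _ ⟨x, hx, rfl⟩
  have hc : (Cfsg.pCore r K).map (K.normalizerMonoidHom ⟨g, h hg⟩).toMonoidHom =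
      Cfsg.pCore r K := Subgroup.characteristic_iff_map_eq.mp inferInstance _
  exact ⟨K.normalizerMonoidHom ⟨g, h hg⟩ x, hc.le ⟨x, hx, rfl⟩, by simp⟩

theorem pc_commute {r s : ℕ} (hr : r.Prime) (hs : s.Prime) [Finite G] (hrs : r ≠ s)
    {K : Subgroup G} {x y : G} (hx : x ∈ pc r K) (hy : y ∈ pc s K) : Commute x y := by
  haveI := Fact.mk hr
  haveI := Fact.mk hs
  obtain ⟨x, hx, rfl⟩ := hx
  obtain ⟨y, hy, rfl⟩ := hy
  exact (Cfsg.Agent.Fitting.pCore_commute hrs hx hy).map K.subtype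

theorem isPGroup_pc [Finite G] (r : ℕ) [Fact r.Prime] (K : Subgroup G) : IsPGroup r (pc r K) :=
  (Cfsg.Agent.Fitting.pCore_isPGroup r).map _

theorem le_pc {r : ℕ} {K M : Subgroup G} (hMK : M ≤ K) (hn : K ≤ normalizer (M : Set G))
    (hM : IsPGroup r M) : M ≤ pc r K := by
  intro x hx
  haveI : (M.subgroupOf K).Normal := (normal_subgroupOf_iff_le_normalizer hMK).2 hn
  exact ⟨⟨x, hMK hx⟩, Cfsg.Agent.Fitting.le_pCore inferInstance
    (hM.of_equiv (subgroupOfEquivOfLe hMK).symm) hx, rfl⟩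

variable [Finite G]

theorem eq_bot_of_isPGroup_of_not_dvd {r : ℕ} [Fact r.Prime] {K M : Subgroup G} (hMK : M ≤ K)
    (hM : IsPGroup r M) (hr : ¬ r ∣ Nat.card K) : M = ⊥ := by
  obtain ⟨k, hk⟩ := IsPGroup.iff_card.1 hM
  rcases k with _ | k
  · exact Subgroup.eq_bot_of_card_eq _ (by rw [hk, pow_zero])
  · exact absurd ((hk ▸ dvd_pow_self r k.succ_ne_zero : r ∣ Nat.card M).trans (card_dvd_of_le hMK)) hr

theorem coprime_card {r s : ℕ} (hr : r.Prime) (hs : s.Prime) (hrs : r ≠ s) {P Q : Subgroup G}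
    (hP : IsPGroup r P) (hQ : IsPGroup s Q) : (Nat.card P).Coprime (Nat.card Q) := by
  haveI := Fact.mk hr
  haveI := Fact.mk hs
  obtain ⟨k, hk⟩ := IsPGroup.iff_card.1 hP
  obtain ⟨l, hl⟩ := IsPGroup.iff_card.1 hQ
  rw [hk, hl]
  exact Nat.Coprime.pow _ _ ((Nat.coprime_primes hr hs).2 hrs)

theorem eq_one_of_mem_of_mem {r s : ℕ} (hr : r.Prime) (hs : s.Prime) (hrs : r ≠ s)
    {P Q : Subgroup G} (hP : IsPGroup r P) (hQ : IsPGroup s Q) {x : G} (hx : x ∈ P) (hy : x ∈ Q) :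
    x = 1 := by
  have h := Subgroup.inf_eq_bot_of_coprime (coprime_card hr hs hrs hP hQ)
  exact Subgroup.mem_bot.1 (h ▸ ⟨hx, hy⟩)

theorem exists_orderOf_mem {r : ℕ} (hr : r.Prime) {A : Subgroup G} (hA : IsPGroup r A) {a : G}
    (ha : a ∈ A) (ha1 : a ≠ 1) : ∃ k : ℕ, a ^ k ∈ A ∧ orderOf (a ^ k) = r := by
  haveI := Fact.mk hr
  obtain ⟨e, he⟩ := IsPGroup.iff_orderOf.1 hA ⟨a, ha⟩
  rw [Subgroup.orderOf_mk] at he
  rcases e with _ | e
  · exact absurd (orderOf_eq_one_iff.1 (by rw [he, pow_zero])) ha1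
  refine ⟨r ^ e, pow_mem ha _, ?_⟩
  rw [orderOf_pow_of_dvd (pow_ne_zero _ hr.ne_zero) (he ▸ pow_dvd_pow r e.le_succ), he, pow_succ,
    Nat.mul_div_cancel_left _ (pow_pos hr.pos e)]

theorem omZ_ne_bot {r : ℕ} (hr : r.Prime) {P : Subgroup G} (hP : IsPGroup r P) (hne : P ≠ ⊥) :
    omZ r P ≠ ⊥ := by
  haveI := Fact.mk hr
  haveI : Nontrivial P := (Subgroup.nontrivial_iff_ne_bot P).2 hne
  haveI := hP.center_nontrivial
  obtain ⟨z, hz⟩ := exists_ne (1 : Subgroup.center P)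
  obtain ⟨k, hk, hko⟩ := exists_orderOf_mem hr hP (a := ((z : P) : G)) (z : P).2
    (fun h => hz (Subtype.ext (Subtype.ext h)))
  intro hb
  have hmem : ((z : P) : G) ^ k ∈ omZ r P := ⟨hk, hko ▸ pow_orderOf_eq_one _, fun y hy =>
    (show Commute ((z : P) : G) y from
      congrArg Subtype.val ((Subgroup.mem_center_iff.1 z.2 ⟨y, hy⟩).symm)).pow_left k⟩
  rw [hb, Subgroup.mem_bot] at hmem
  rw [hmem, orderOf_one] at hko
  exact hr.one_lt.ne hko

theorem Fix.exists_order {r : ℕ} (hr : r.Prime) {A : Subgroup G} (hA : IsPGroup r A) {f : G}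
    (h : Fix f A) : ∃ a ∈ A, orderOf a = r ∧ Commute f a := by
  obtain ⟨a, ha, ha1, hc⟩ := h
  obtain ⟨k, hk, hko⟩ := exists_orderOf_mem hr hA ha ha1
  exact ⟨_, hk, hko, hc.pow_right k⟩

theorem exists_order_of_ne_bot {r : ℕ} (hr : r.Prime) {A : Subgroup G} (hA : IsPGroup r A)
    (h : A ≠ ⊥) : ∃ a ∈ A, orderOf a = r := by
  obtain ⟨a, ha, ha1⟩ := (bot_or_exists_ne_one A).resolve_left h
  obtain ⟨k, hk, hko⟩ := exists_orderOf_mem hr hA ha ha1
  exact ⟨_, hk, hko⟩

theorem ne_bot_of_fix {f : G} {A : Subgroup G} (h : Fix f A) :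
    A ⊓ centralizer ({f} : Set G) ≠ ⊥ := by
  obtain ⟨a, ha, ha1, hc⟩ := h
  intro hb
  exact ha1 (Subgroup.mem_bot.1 (hb ▸ ⟨ha, mem_centralizer_singleton_iff.2 hc.symm.eq⟩))

/-- A noncyclic abelian group of coprime order fixes a nontrivial element through some element. -/
theorem exists_fix {r v : ℕ} (hr : r.Prime) (hv : v.Prime) (hrv : r ≠ v) {E K : Subgroup G}
    (hE : R2 r E) (hK : IsPGroup v K) (hne : K ≠ ⊥) (hEK : E ≤ normalizer (K : Set G)) :
    ∃ e ∈ E, e ≠ 1 ∧ Fix e K := by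
  by_contra hcon
  push Not at hcon
  haveI := hE.isMulCommutative
  refine hne (le_bot_iff.1 (Cfsg.Agent.Coprime.le_of_centralizer_le E K ⊥ (hE.not_isCyclic hr) hEK
    (coprime_card hr hv hrv hE.isPGroup hK) fun e he he1 x hx => ?_))
  rw [Subgroup.mem_bot]
  by_contra hx1
  exact hcon e he he1 ⟨x, hx.1, hx1, (mem_centralizer_singleton_iff.1 hx.2).symm⟩

/-- If `E` centralizes `f` and `f` fixes an element of `A`, some element of `E` fixes one too. -/
theorem exists_fix_of_fix {r v : ℕ} (hr : r.Prime) (hv : v.Prime) (hrv : r ≠ v) {E A : Subgroup G}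
    (hE : R2 r E) (hA : IsPGroup v A) (hEA : E ≤ normalizer (A : Set G)) {f : G}
    (hEf : ∀ e ∈ E, Commute e f) (hf : Fix f A) :
    ∃ e ∈ E, e ≠ 1 ∧ ∃ a ∈ A, orderOf a = v ∧ Commute e a ∧ Commute f a := by
  haveI := Fact.mk hv
  have hK : IsPGroup v ↥(A ⊓ centralizer ({f} : Set G)) := hA.to_le inf_le_left
  obtain ⟨e, he, he1, hfx⟩ :=
    exists_fix hr hv hrv hE hK (ne_bot_of_fix hf) (le_normalizer_inf_centralizer hEA hEf)
  obtain ⟨a, ha, hao, hc⟩ := hfx.exists_order hv hK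
  exact ⟨e, he, he1, a, ha.1, hao, hc, (mem_centralizer_singleton_iff.1 ha.2).symm⟩

open scoped commutatorElement in
/-- An operator of prime order moving a `q`-group faithfully acting on `A` fixes an element. -/
theorem fix_of_moves {f : G} {r q v : ℕ} (hr : r.Prime) (hq : q.Prime) (hv : v.Prime)
    (hvq : v ≠ q) (hvr : v ≠ r) (hqr : q ≠ r) {A Q : Subgroup G} (hA : IsPGroup v A)
    (hQ : IsPGroup q Q) (hf : orderOf f = r) (hfQ : f ∈ normalizer (Q : Set G))
    (hfA : f ∈ normalizer (A : Set G)) (hQA : Q ≤ normalizer (A : Set G))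
    (hexc : q = 2 → ∀ x ∈ Q, ∀ y ∈ Q, x * y = y * x)
    (hmove : ∃ x ∈ Q, ⁅x, f⁆ ∉ centralizer (A : Set G)) : Fix f A := by
  haveI := Fact.mk hv
  haveI := Fact.mk hq
  by_contra hfix
  obtain ⟨x, hx, hxc⟩ := hmove
  set N := normalizer (A : Set G) with hN
  haveI : (frattini A).Normal := Subgroup.normal_of_characteristic _
  have hAv : IsPGroup v A := hA
  let φ : ↥N →* MulAut (A ⧸ frattini A) :=
    MonoidHom.mk' (fun g => QuotientGroup.congr (frattini A) (frattini A) (A.normalizerMonoidHom g)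
      (Subgroup.characteristic_iff_map_eq.mp inferInstance _)) fun g h => by
        refine MulEquiv.ext fun w => ?_
        obtain ⟨y, rfl⟩ := QuotientGroup.mk_surjective w
        show ((A.normalizerMonoidHom (g * h) y : A) : A ⧸ frattini A) = _
        rw [map_mul]
        rfl
  have hc : ∀ a b : A ⧸ frattini A, a * b = b * a := by
    rintro ⟨a⟩ ⟨b⟩
    show ((a * b : A) : A ⧸ frattini A) = ((b * a : A) : A ⧸ frattini A)
    rw [QuotientGroup.eq]
    have := Cfsg.Agent.PGroup.comm_mem_frattini hAv b⁻¹ a⁻¹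
    simpa [commutatorElement_def, mul_assoc] using this
  have he : ∀ w : A ⧸ frattini A, w ^ v = 1 := by
    rintro ⟨a⟩
    show ((a ^ v : A) : A ⧸ frattini A) = 1
    rw [QuotientGroup.eq_one_iff]
    exact Cfsg.Agent.PGroup.pow_mem_frattini hAv a
  set σ := A.normalizerMonoidHom ⟨f, hfA⟩ with hσ
  have hσv : ∀ a : A, ((σ a : A) : G) = f * a * f⁻¹ := fun a => by simp [σ]
  have hfpf : ∀ a : A, σ a = a → a = 1 := by
    intro a ha
    by_contra ha1
    refine hfix ⟨a, a.2, fun h => ha1 (Subtype.ext h), ?_⟩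
    have h := congrArg Subtype.val ha
    rw [hσv] at h
    exact mul_inv_eq_iff_eq_mul.1 h
  have hfixV : ∀ w, φ ⟨f, hfA⟩ w = w → w = 1 := by
    rintro ⟨a⟩ ha
    have ha' : a⁻¹ * σ a ∈ frattini A := by
      have h : ((σ a : A) : A ⧸ frattini A) = (a : A ⧸ frattini A) := ha
      exact QuotientGroup.eq.1 h.symm
    let Φ := frattini A
    have hinv : ∀ m ∈ Φ, σ m ∈ Φ := fun m hm =>
      (Subgroup.characteristic_iff_map_eq.mp (inferInstance : Φ.Characteristic) σ).le ⟨m, hm, rfl⟩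
    let d : Φ → Φ := fun m => ⟨(m : A)⁻¹ * σ m, mul_mem (inv_mem m.2) (hinv m m.2)⟩
    have hd : Function.Injective d := by
      intro m m' h
      have h' : (m : A)⁻¹ * σ m = (m' : A)⁻¹ * σ m' := congrArg Subtype.val h
      have h2 : σ ((m' : A) * (m : A)⁻¹) = (m' : A) * (m : A)⁻¹ := by
        rw [map_mul, map_inv, mul_inv_eq_iff_eq_mul]
        calc σ m' = (m' : A) * ((m' : A)⁻¹ * σ m') := by group
          _ = (m' : A) * ((m : A)⁻¹ * σ m) := by rw [h']
          _ = _ := by group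
      exact Subtype.ext (mul_inv_eq_one.1 (hfpf _ h2)).symm
    obtain ⟨m, hm⟩ := (Finite.injective_iff_surjective.1 hd) ⟨_, ha'⟩
    have hm' : (m : A)⁻¹ * σ m = a⁻¹ * σ a := congrArg Subtype.val hm
    have h2 : σ (a * (m : A)⁻¹) = a * (m : A)⁻¹ := by
      rw [map_mul, map_inv, mul_inv_eq_iff_eq_mul]
      calc σ a = a * (a⁻¹ * σ a) := by group
        _ = a * ((m : A)⁻¹ * σ m) := by rw [hm']
        _ = _ := by group
    have : a = (m : A) := mul_inv_eq_one.1 (hfpf _ h2)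
    exact (QuotientGroup.eq_one_iff a).2 (this ▸ m.2)
  have hker : φ ⁅(⟨x, hQA hx⟩ : N), ⟨f, hfA⟩⁆ = 1 :=
    Cfsg.Agent.LinAct.map_commutator_eq_one (Γ := ↥N) hr hqr hvq hvr hc he φ ⟨f, hfA⟩
      (Subtype.ext (by rw [SubmonoidClass.coe_pow, ← hf, pow_orderOf_eq_one]; rfl)) hfixV
      (Q.subgroupOf N) (hQ.of_equiv (subgroupOfEquivOfLe hQA).symm)
      (mem_normalizer_iff.mpr fun y => by
        simp only [mem_subgroupOf]
        exact mem_normalizer_iff.mp hfQ (y : G))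
      (fun h2 _ a ha b hb => Subtype.ext (hexc h2 a ha b hb)) hx
  have hwQ : ⁅x, f⁆ ∈ Q := by
    have h : f * x⁻¹ * f⁻¹ ∈ Q := (mem_normalizer_iff.mp hfQ _).1 (inv_mem hx)
    simpa [commutatorElement_def, mul_assoc] using mul_mem hx h
  have hcomm : ∀ g ∈ zpowers ⁅x, f⁆, ∀ k ∈ A,
      g * k * g⁻¹ * k⁻¹ ∈ (frattini A).map A.subtype := by
    rintro g hg k hk
    have hgN : g ∈ N := zpowers_le.2 (hQA hwQ) hg
    have hg1 : φ ⟨g, hgN⟩ = 1 := by
      obtain ⟨i, rfl⟩ := hg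
      have e : (⟨⁅x, f⁆ ^ i, hgN⟩ : N) = ⁅(⟨x, hQA hx⟩ : N), ⟨f, hfA⟩⁆ ^ i :=
        Subtype.ext (by simp [commutatorElement_def])
      rw [e, map_zpow, hker, one_zpow]
    have h : ((A.normalizerMonoidHom ⟨g, hgN⟩ ⟨k, hk⟩ : A) : A ⧸ frattini A) =
        ((⟨k, hk⟩ : A) : A ⧸ frattini A) :=
      DFunLike.congr_fun hg1 ((⟨k, hk⟩ : A) : A ⧸ frattini A)
    have h' : A.normalizerMonoidHom ⟨g, hgN⟩ ⟨k, hk⟩ * (⟨k, hk⟩ : A)⁻¹ ∈ frattini A := by
      have := (inferInstance : (frattini A).Normal).mem_comm (QuotientGroup.eq.1 h.symm)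
      exact this
    exact ⟨_, h', by simp [mul_assoc]⟩
  have hzQ : zpowers ⁅x, f⁆ ≤ Q := zpowers_le.2 hwQ
  have hle := Cfsg.Agent.Coprime.le_centralizer_of_frattini (zpowers ⁅x, f⁆) A (hzQ.trans hQA)
    ((coprime_card hq hv hvq.symm (hQ.to_le hzQ) hA).coprime_dvd_right (card_subgroup_dvd_card _))
    hcomm
  exact hxc (hle (mem_zpowers _))

open scoped commutatorElement in
/-- The same for an elementary moved group acting faithfully. -/
theorem fix_of_moves_faithful {f : G} {r q v : ℕ} (hr : r.Prime) (hq : q.Prime) (hv : v.Prime)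
    (hvq : v ≠ q) (hvr : v ≠ r) (hqr : q ≠ r) {A Q : Subgroup G} (hA : IsPGroup v A)
    (hQ : IsPGroup q Q) (hf : orderOf f = r) (hfQ : f ∈ normalizer (Q : Set G))
    (hfA : f ∈ normalizer (A : Set G)) (hQA : Q ≤ normalizer (A : Set G))
    (hexc : q = 2 → ∀ x ∈ Q, ∀ y ∈ Q, x * y = y * x)
    (hfaith : ∀ x ∈ Q, (∀ a ∈ A, Commute x a) → x = 1)
    (hmove : ∃ x ∈ Q, ¬ Commute f x) : Fix f A := by
  obtain ⟨x, hx, hxf⟩ := hmove
  refine fix_of_moves hr hq hv hvq hvr hqr hA hQ hf hfQ hfA hQA hexc ⟨x, hx, fun hc => hxf ?_⟩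
  have hwQ : ⁅x, f⁆ ∈ Q := by
    have h : f * x⁻¹ * f⁻¹ ∈ Q := (mem_normalizer_iff.mp hfQ _).1 (inv_mem hx)
    simpa [commutatorElement_def, mul_assoc] using mul_mem hx h
  have h1 := hfaith _ hwQ fun a ha => (mem_centralizer_iff.1 hc a ha).symm
  exact (commutatorElement_eq_one_iff_commute.1 h1).symm

/-- A noncyclic abelian group fixes a cyclic group of coprime order through some element. -/
theorem exists_centralize_of_isCyclic {r v : ℕ} (hr : r.Prime) (hv : v.Prime) (hrv : r ≠ v)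
    {E T : Subgroup G} (hE : R2 r E) (hT : IsPGroup v T) [IsCyclic T]
    (hET : E ≤ normalizer (T : Set G)) : ∃ e ∈ E, e ≠ 1 ∧ ∀ t ∈ T, Commute e t := by
  haveI := Fact.mk hv
  obtain ⟨g, hg⟩ := IsCyclic.exists_generator (α := T)
  have hgen : ∀ t ∈ T, ∃ i : ℤ, (g : G) ^ i = t := by
    intro t ht
    obtain ⟨i, hi⟩ := hg ⟨t, ht⟩
    exact ⟨i, congrArg Subtype.val hi⟩
  by_contra hcon
  push Not at hcon
  haveI := hE.isMulCommutative
  have hle : T ≤ zpowers ((g : G) ^ v) := by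
    refine Cfsg.Agent.Coprime.le_of_centralizer_le E T _ (hE.not_isCyclic hr) hET
      (coprime_card hr hv hrv hE.isPGroup hT) fun e he he1 x hx => ?_
    obtain ⟨i, rfl⟩ := hgen x hx.1
    by_cases hd : (v : ℤ) ∣ i
    · obtain ⟨k, rfl⟩ := hd
      rw [zpow_mul, zpow_natCast]
      exact zpow_mem (mem_zpowers _) k
    exfalso
    obtain ⟨t, ht, htc⟩ := hcon e he he1
    refine htc ?_
    have hcx : Commute e ((g : G) ^ i) := (mem_centralizer_singleton_iff.1 hx.2).symm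
    obtain ⟨n, hn⟩ := IsPGroup.iff_orderOf.1 hT g
    have hcop : IsCoprime i ((v : ℤ) ^ n) := by
      refine IsCoprime.pow_right ?_
      exact (Int.prime_iff_natAbs_prime.2 (by simpa using hv)).coprime_iff_not_dvd.2 hd |>.symm
    obtain ⟨a, b, hab⟩ := hcop
    obtain ⟨j, rfl⟩ := hgen t ht
    have : ((g : G) ^ i) ^ a = g := by
      rw [← zpow_mul, show i * a = 1 + -(b : ℤ) * ((v : ℤ) ^ n) by linarith, zpow_add, zpow_one,
        mul_comm (-b), zpow_mul, ← Nat.cast_pow, zpow_natCast, ← hn, ← Subgroup.orderOf_coe,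
        pow_orderOf_eq_one]
      simp
    rw [← this]
    exact (hcx.zpow_right a).zpow_right j
  obtain ⟨k, hk⟩ := hle g.2
  have hk' : (g : G) ^ (((v : ℤ) * k) - 1) = 1 := by
    rw [zpow_sub, zpow_one, zpow_mul, zpow_natCast]
    exact mul_inv_eq_one.2 hk
  obtain ⟨n, hn⟩ := IsPGroup.iff_orderOf.1 hT g
  rcases n with _ | n
  · obtain ⟨e, he, he1⟩ := hE.exists_ne_one hr
    obtain ⟨t, ht, htc⟩ := hcon e he he1
    obtain ⟨i, rfl⟩ := hgen t ht
    rw [pow_zero] at hn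
    rw [orderOf_eq_one_iff.1 hn] at htc
    simp at htc
  have hd : ((v : ℤ)) ∣ (v : ℤ) * k - 1 := by
    refine dvd_trans ?_ (orderOf_dvd_iff_zpow_eq_one.2 hk')
    rw [Subgroup.orderOf_coe, hn, Nat.cast_pow]
    exact dvd_pow_self _ n.succ_ne_zero
  have : (v : ℤ) ∣ 1 := by simpa using dvd_sub (dvd_mul_right (v : ℤ) k) hd
  exact hv.one_lt.ne' (by exact_mod_cast Int.eq_one_of_dvd_one (by positivity) this)

/-- Elements centralizing all cores lie in the product of the two cores. -/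
theorem mem_mul_of_centralizes {r s : ℕ} {K : Subgroup G} [Group.IsSolvable K]
    (hK : ∀ t, t.Prime → t ≠ r → t ≠ s → pc t K = ⊥) {x : G} (hx : x ∈ K)
    (hxr : ∀ y ∈ pc r K, Commute x y) (hxs : ∀ y ∈ pc s K, Commute x y) :
    ∃ u ∈ pc r K, ∃ w ∈ pc s K, u * w = x := by
  have hbot : ∀ t : Nat.Primes, (t : ℕ) ≠ r → (t : ℕ) ≠ s → Cfsg.pCore (t : ℕ) K = ⊥ :=
    fun t h1 h2 => (map_eq_bot_iff_of_injective _ K.subtype_injective).1 (hK t t.2 h1 h2)
  have hF : Cfsg.fittingSubgroup K ≤ Cfsg.pCore r K ⊔ Cfsg.pCore s K := by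
    rw [Cfsg.Agent.Fitting.fitting_eq_iSup_pCore]
    refine iSup_le fun t => ?_
    by_cases h1 : (t : ℕ) = r
    · rw [h1]; exact le_sup_left
    by_cases h2 : (t : ℕ) = s
    · rw [h2]; exact le_sup_right
    rw [hbot t h1 h2]; exact bot_le
  have hsup : Cfsg.pCore r K ⊔ Cfsg.pCore s K ≤ centralizer ({(⟨x, hx⟩ : K)} : Set K) := by
    refine sup_le (fun y hy => ?_) (fun y hy => ?_) <;> rw [mem_centralizer_singleton_iff] <;>
      refine Subtype.ext ?_
    · exact (hxr y ⟨y, hy, rfl⟩).symm.eq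
    · exact (hxs y ⟨y, hy, rfl⟩).symm.eq
  have hxF : (⟨x, hx⟩ : K) ∈ Cfsg.fittingSubgroup K :=
    Cfsg.Agent.Fitting.centralizer_fitting_le (mem_centralizer_iff.2 fun y hy =>
      mem_centralizer_singleton_iff.1 (hsup (hF hy)))
  obtain ⟨u, hu, w, hw, huw⟩ := Subgroup.mem_sup_of_normal_right.1 (hF hxF)
  exact ⟨u, ⟨u, hu, rfl⟩, w, ⟨w, hw, rfl⟩, congrArg Subtype.val huw⟩

/-- An element of prime order centralizing all cores lies in the core of its prime. -/
theorem mem_pc_of_centralizes {r : ℕ} {K : Subgroup G} [Group.IsSolvable K] {x : G} (hx : x ∈ K)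
    (hxr : x ^ r = 1) (hc : ∀ t, t.Prime → ∀ y ∈ pc t K, Commute x y) : x ∈ pc r K := by
  let F := Cfsg.fittingSubgroup K
  let S : Subgroup K :=
    { carrier := {y | y ^ r = 1 ∧ y ∈ centralizer (F : Set K)}
      one_mem' := ⟨one_pow _, one_mem _⟩
      mul_mem' := fun {a b} ha hb => ⟨by
        have hab : Commute a b :=
          mem_centralizer_iff.1 hb.2 a (Cfsg.Agent.Fitting.centralizer_fitting_le ha.2)
        rw [hab.mul_pow, ha.1, hb.1, one_mul], mul_mem ha.2 hb.2⟩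
      inv_mem' := fun {a} ha => ⟨by rw [inv_pow, ha.1, inv_one], inv_mem ha.2⟩ }
  haveI : S.Normal := ⟨fun n hn g => ⟨by rw [conj_pow, hn.1, mul_one, mul_inv_cancel],
    (inferInstance : (centralizer (F : Set K)).Normal).conj_mem n hn.2 g⟩⟩
  have hS : IsPGroup r S := fun y => ⟨1, Subtype.ext (by simpa using y.2.1)⟩
  have hxS : (⟨x, hx⟩ : K) ∈ S := by
    refine ⟨Subtype.ext (by simpa using hxr), mem_centralizer_iff.2 fun y hy => ?_⟩
    have hle : F ≤ centralizer ({(⟨x, hx⟩ : K)} : Set K) := by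
      show Cfsg.fittingSubgroup K ≤ _
      rw [Cfsg.Agent.Fitting.fitting_eq_iSup_pCore]
      refine iSup_le fun t y hy => ?_
      rw [mem_centralizer_singleton_iff]
      exact Subtype.ext (hc t t.2 y ⟨y, hy, rfl⟩).symm.eq
    exact mem_centralizer_singleton_iff.1 (hle hy)
  exact ⟨⟨x, hx⟩, Cfsg.Agent.Fitting.le_pCore inferInstance hS hxS, rfl⟩

theorem pc_eq_bot {r : ℕ} [Fact r.Prime] {K : Subgroup G} (h : ¬ r ∣ Nat.card K) : pc r K = ⊥ :=
  eq_bot_of_isPGroup_of_not_dvd (pc_le r K) (isPGroup_pc r K) h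

theorem exists_pc_ne_bot {K : Subgroup G} [Group.IsSolvable K] (h : K ≠ ⊥) :
    ∃ r, r.Prime ∧ r ∣ Nat.card K ∧ pc r K ≠ ⊥ := by
  by_contra hcon
  push Not at hcon
  have hall : ∀ r, r.Prime → pc r K = ⊥ := by
    intro r hr
    haveI := Fact.mk hr
    by_cases hd : r ∣ Nat.card K
    · exact hcon r hr hd
    · exact pc_eq_bot hd
  obtain ⟨r, hr, hd⟩ := Nat.exists_prime_and_dvd (show Nat.card K ≠ 1 from fun h1 =>
    h (Subgroup.eq_bot_of_card_eq _ h1))
  haveI := Fact.mk hr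
  obtain ⟨x, hx⟩ := exists_prime_orderOf_dvd_card' (G := K) r hd
  have hx' : orderOf (x : G) = r := by rw [Subgroup.orderOf_coe, hx]
  have hmem := mem_pc_of_centralizes x.2 (hx' ▸ pow_orderOf_eq_one _) fun t ht y hy => by
    rw [hall t ht, Subgroup.mem_bot] at hy
    rw [hy]; exact Commute.one_right _
  rw [hall r hr, Subgroup.mem_bot] at hmem
  rw [hmem, orderOf_one] at hx'
  exact hr.one_lt.ne hx'

/-- No element of one kind commutes with elements of all three other kinds. -/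
theorem Rainbow.three [Group.IsSolvable G] (h : Rainbow G p) {i j k l : Fin 4} (hij : i ≠ j)
    (hik : i ≠ k) (hjk : j ≠ k) (hil : i ≠ l) (hjl : j ≠ l) (hkl : k ≠ l) {x u v w : G}
    (hx : orderOf x = p l) (hu : orderOf u = p i) (hv : orderOf v = p j) (hw : orderOf w = p k)
    (hxu : Commute x u) (hxv : Commute x v) (hxw : Commute x w) : False := by
  classical
  let C := centralizer ({x} : Set G)
  have hmem : ∀ y : G, Commute x y → y ∈ C := fun y hy =>
    mem_centralizer_singleton_iff.2 hy.symm.eq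
  have hd : ∀ y : G, Commute x y → orderOf y ∣ Nat.card C := fun y hy => by
    rw [← Subgroup.orderOf_mk y (hmem y hy)]
    exact orderOf_dvd_natCard _
  haveI : Group.IsSolvable C := inferInstance
  let ρ : Finset ℕ := {p i, p j, p k}
  have key : ∀ a ∈ ρ, ∀ b ∈ ρ, a ≠ b → ¬ ∃ y : C, orderOf y = a * b := by
    have aux : ∀ i' j' : Fin 4, i' ≠ j' → i' ≠ l → j' ≠ l → ¬ ∃ y : C, orderOf y = p i' * p j' := by
      rintro i' j' hne hil' hjl' ⟨y, hy⟩
      refine h.no3 i' j' l hne hil' hjl' ⟨(y : G) * x, ?_⟩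
      have hc : Commute (y : G) x := mem_centralizer_singleton_iff.1 y.2
      rw [hc.orderOf_mul_eq_mul_orderOf_of_coprime (by
        rw [Subgroup.orderOf_coe, hy, hx]
        exact Nat.Coprime.mul_left (h.coprime hil') (h.coprime hjl')), Subgroup.orderOf_coe, hy, hx]
    intro a ha b hb hab
    simp only [ρ, Finset.mem_insert, Finset.mem_singleton] at ha hb
    rcases ha with rfl | rfl | rfl <;> rcases hb with rfl | rfl | rfl <;>
      first
        | exact absurd rfl hab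
        | exact aux _ _ hij hil hjl
        | exact aux _ _ hij.symm hjl hil
        | exact aux _ _ hik hil hkl
        | exact aux _ _ hik.symm hkl hil
        | exact aux _ _ hjk hjl hkl
        | exact aux _ _ hjk.symm hkl hjl
  refine (Cfsg.Agent.S3633.result (G := C) ρ ?_ ⟨?_, key⟩ ⊥ inferInstance).2 inferInstance
  · rw [Finset.card_insert_of_notMem (by simp [h.ne hij, h.ne hik]),
      Finset.card_insert_of_notMem (by simp [h.ne hjk]), Finset.card_singleton]
  · intro a ha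
    simp only [ρ, Finset.mem_insert, Finset.mem_singleton] at ha
    rcases ha with rfl | rfl | rfl
    · exact ⟨h.prime i, hu ▸ hd u hxu⟩
    · exact ⟨h.prime j, hv ▸ hd v hxv⟩
    · exact ⟨h.prime k, hw ▸ hd w hxw⟩

theorem Rainbow.exists_commuting (h : Rainbow G p) {i j : Fin 4} (hij : i ≠ j) :
    ∃ x y : G, orderOf x = p i ∧ orderOf y = p j ∧ Commute x y := by
  obtain ⟨g, hg⟩ := h.pair i j hij
  refine ⟨g ^ p j, g ^ p i, ?_, ?_, Commute.pow_pow_self g _ _⟩
  · rw [orderOf_pow_of_dvd (h.prime j).ne_zero (hg ▸ dvd_mul_left _ _), hg,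
      Nat.mul_div_cancel _ (h.prime j).pos]
  · rw [orderOf_pow_of_dvd (h.prime i).ne_zero (hg ▸ dvd_mul_right _ _), hg,
      Nat.mul_div_cancel_left _ (h.prime i).pos]

/-- Each prime has an elementary abelian group of order its square. -/
theorem Rainbow.exists_R2 [Group.IsSolvable G] (h : Rainbow G p) (l : Fin 4) :
    ∃ E : Subgroup G, R2 (p l) E := by
  by_contra hcon
  push Not at hcon
  haveI := Fact.mk (h.prime l)
  have hone : ∀ a b : G, orderOf a = p l → orderOf b = p l → Commute a b → b ∈ zpowers a := by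
    intro a b ha hb hab
    by_contra hne
    obtain ⟨E, hE, -⟩ := exists_R2_of_two (h.prime l) ha hb hab hne
    exact hcon E hE
  obtain ⟨i, j, k, hij, hik, hjk, hil, hjl, hkl⟩ :
      ∃ i j k : Fin 4, i ≠ j ∧ i ≠ k ∧ j ≠ k ∧ i ≠ l ∧ j ≠ l ∧ k ≠ l := by
    exact (show ∀ l : Fin 4, ∃ i j k : Fin 4,
      i ≠ j ∧ i ≠ k ∧ j ≠ k ∧ i ≠ l ∧ j ≠ l ∧ k ≠ l by decide) l
  obtain ⟨x₁, u, hx₁, hu, hxu⟩ := h.exists_commuting hil.symm
  obtain ⟨x₂, v, hx₂, hv, hxv⟩ := h.exists_commuting hjl.symm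
  obtain ⟨x₃, w, hx₃, hw, hxw⟩ := h.exists_commuting hkl.symm
  obtain ⟨P⟩ := (inferInstance : Nonempty (Sylow (p l) G))
  have hd : p l ∣ Nat.card G := hx₁ ▸ orderOf_dvd_natCard _
  have hPne : (P : Subgroup G) ≠ ⊥ := P.ne_bot_of_dvd_card hd
  obtain ⟨z, hz, hz1⟩ := (bot_or_exists_ne_one _).resolve_left
    (omZ_ne_bot (h.prime l) P.isPGroup' hPne)
  have hzo : orderOf z = p l := orderOf_eq_prime hz.2.1 hz1
  have key : ∀ x y : G, orderOf x = p l → Commute x y →
      ∃ y', orderOf y' = orderOf y ∧ Commute z y' := by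
    intro x y hx hxy
    have hpx : IsPGroup (p l) (zpowers x) :=
      IsPGroup.of_card (n := 1) (by rw [Nat.card_zpowers, hx, pow_one])
    obtain ⟨Q, hQ⟩ := hpx.exists_le_sylow
    obtain ⟨g, hg⟩ := MulAction.exists_smul_eq G Q P
    let σ := MulAut.conj g
    have hσx : σ x ∈ (P : Subgroup G) := by
      rw [← hg, Sylow.coe_subgroup_smul]
      exact Subgroup.smul_mem_pointwise_smul x σ _ (hQ (mem_zpowers x))
    have hzx : z ∈ zpowers (σ x) := hone (σ x) z ((MulEquiv.orderOf_eq σ x).trans hx) hzo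
      (hz.2.2 _ hσx).symm
    obtain ⟨n, hn⟩ := hzx
    refine ⟨σ y, MulEquiv.orderOf_eq σ y, ?_⟩
    rw [← hn]
    exact (hxy.map σ.toMonoidHom).zpow_left n
  obtain ⟨u', hu', hzu⟩ := key x₁ u hx₁ hxu
  obtain ⟨v', hv', hzv⟩ := key x₂ v hx₂ hxv
  obtain ⟨w', hw', hzw⟩ := key x₃ w hx₃ hxw
  exact h.three hij hik hjk hil hjl hkl hzo (hu'.trans hu) (hv'.trans hv) (hw'.trans hw) hzu hzv hzw

open scoped commutatorElement in
/-- An `r`-element centralizing the other core lies in its core, if that core is cyclic. -/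
theorem mem_core_of_centralizes {r s : ℕ} (hr : r.Prime) (hs : s.Prime) (hrs : r ≠ s)
    {K : Subgroup G} [Group.IsSolvable K] (hK : ∀ t, t.Prime → t ≠ r → t ≠ s → pc t K = ⊥)
    (hcyc : IsCyclic (pc r K)) {x : G} (hx : x ∈ K) {k : ℕ} (hxo : orderOf x = r ^ k)
    (hxs : ∀ y ∈ pc s K, Commute x y) : x ∈ pc r K := by
  haveI := Fact.mk hr
  haveI := Fact.mk hs
  set U := pc r K with hU
  set T := pc s K with hT
  have hKU : K ≤ normalizer (U : Set G) := le_normalizer_pc r le_normalizer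
  have hKT : K ≤ normalizer (T : Set G) := le_normalizer_pc s le_normalizer
  haveI := hcyc
  have hpow : ∀ g ∈ K, ∃ m : ℤ, ∀ u ∈ U, g * u * g⁻¹ = u ^ m := by
    intro g hg
    obtain ⟨m, hm⟩ := (U.normalizerMonoidHom ⟨g, hKU hg⟩).toMonoidHom.map_cyclic
    refine ⟨m, fun u hu => ?_⟩
    have := congrArg Subtype.val (hm ⟨u, hu⟩)
    simpa using this
  set M := U ⊔ zpowers x with hM
  have hMK : M ≤ K := sup_le (pc_le _ _) (zpowers_le.2 hx)
  have hMp : IsPGroup r M :=
    (isPGroup_pc r K).to_sup_of_normal_left' (IsPGroup.of_card (n := k) (by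
      rw [Nat.card_zpowers, hxo])) ((zpowers_le.2 (hKU hx)))
  have hMT : ∀ m ∈ M, ∀ t ∈ T, Commute m t := by
    have : M ≤ centralizer (T : Set G) := sup_le
      (fun u hu => mem_centralizer_iff.2 fun t ht => (pc_commute hs hr hrs.symm ht hu).eq)
      (zpowers_le.2 (mem_centralizer_iff.2 fun t ht => (hxs t ht).symm.eq))
    exact fun m hm t ht => (mem_centralizer_iff.1 (this hm) t ht).symm
  have hconjx : ∀ g ∈ K, g * x * g⁻¹ ∈ M := by
    intro g hg
    set y := g * x * g⁻¹ with hy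
    set w := y * x⁻¹ with hw
    have hwK : w ∈ K := mul_mem (mul_mem (mul_mem hg hx) (inv_mem hg)) (inv_mem hx)
    have hwT : ∀ t ∈ T, Commute w t := by
      intro t ht
      refine Commute.mul_left ?_ (hxs t ht).inv_left
      have h1 : g⁻¹ * t * g ∈ T := by
        have := (mem_normalizer_iff.1 (hKT (inv_mem hg)) t).1 ht
        simpa using this
      have h2 := (hxs _ h1).map (MulAut.conj g).toMonoidHom
      simpa [MulAut.conj_apply, mul_assoc, hy] using h2
    have hwU : ∀ u ∈ U, Commute w u := by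
      obtain ⟨m, hm⟩ := hpow g hg
      obtain ⟨m', hm'⟩ := hpow g⁻¹ (inv_mem hg)
      obtain ⟨n, hn⟩ := hpow x hx
      have hyx : ∀ v ∈ U, y * v * y⁻¹ = x * v * x⁻¹ := by
        intro v hv
        have h1 : g⁻¹ * v * g = v ^ m' := by simpa using hm' v hv
        have h2 : (v ^ m') ^ m = v := by
          rw [← hm _ (zpow_mem hv m'), ← h1]; group
        calc y * v * y⁻¹ = g * (x * (g⁻¹ * v * g) * x⁻¹) * g⁻¹ := by rw [hy]; group
          _ = ((v ^ m') ^ n) ^ m := by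
            rw [h1, hn _ (zpow_mem hv _), hm _ (zpow_mem (zpow_mem hv _) _)]
          _ = ((v ^ m') ^ m) ^ n := zpow_comm _ _ _
          _ = x * v * x⁻¹ := by rw [h2, hn v hv]
      intro u hu
      have hv : x⁻¹ * u * x ∈ U := by
        simpa using (mem_normalizer_iff.1 (hKU (inv_mem hx)) u).1 hu
      have h3 : w * u * w⁻¹ = u := by
        calc w * u * w⁻¹ = y * (x⁻¹ * u * x) * y⁻¹ := by rw [hw]; group
          _ = u := by rw [hyx _ hv]; group
      exact mul_inv_eq_iff_eq_mul.1 h3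
    obtain ⟨u, hu, t, ht, hut⟩ := mem_mul_of_centralizes hK hwK hwU hwT
    have huxM : u * x ∈ M := mul_mem (mem_sup_left hu) (mem_sup_right (mem_zpowers x))
    have hty : y = t * (u * x) := by
      have h1 : y = w * x := by rw [hw]; group
      rw [h1, ← hut, ← mul_assoc, (pc_commute hr hs hrs hu ht).eq]
    have hyo : y ^ r ^ k = 1 := by
      rw [hy, conj_pow, ← hxo, pow_orderOf_eq_one, mul_one, mul_inv_cancel]
    have htM : t ^ r ^ k = 1 := by
      have h1 : (t * (u * x)) ^ r ^ k = 1 := hty ▸ hyo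
      rw [(hMT _ huxM t ht).symm.mul_pow] at h1
      refine eq_one_of_mem_of_mem hs hr hrs.symm (isPGroup_pc s K) hMp (pow_mem ht _) ?_
      rw [eq_inv_of_mul_eq_one_left h1]
      exact inv_mem (pow_mem huxM _)
    have ht1 : t = 1 := by
      obtain ⟨j, hj⟩ := IsPGroup.iff_orderOf.1 (isPGroup_pc s K) ⟨t, ht⟩
      rw [Subgroup.orderOf_mk] at hj
      have hd : orderOf t ∣ r ^ k := orderOf_dvd_of_pow_eq_one htM
      have : Nat.Coprime (s ^ j) (r ^ k) :=
        Nat.Coprime.pow _ _ ((Nat.coprime_primes hs hr).2 hrs.symm)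
      exact orderOf_eq_one_iff.1 (Nat.eq_one_of_dvd_coprimes this (hj ▸ dvd_rfl) hd)
    rw [hty, ht1, one_mul]
    exact huxM
  have hnorm : K ≤ normalizer (M : Set G) := by
    refine Cfsg.Agent.Coprime.le_normalizer_of_conj_mem fun g hg => ?_
    have : M ≤ M.comap (MulAut.conj g).toMonoidHom := sup_le
      (fun u hu => mem_sup_left ((mem_normalizer_iff.1 (hKU hg) u).1 hu))
      (zpowers_le.2 (hconjx g hg))
    exact fun m hm => this hm
  exact le_pc hMK hnorm hMp (mem_sup_right (mem_zpowers x))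

end Cfsg.Agent.SzSq70.Solv
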